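import Cfsg.Agent.Lib.ChevCent.Basic

/-!
A collecting procedure for positive root elements over fields of characteristic two with polynomial
parameters: computed on lists of exponent vectors, correct for every value of the variables.
-/

set_option autoImplicit false

namespace Cfsg.Agent.Lib.ReeInv

open Cfsg.Lie Cfsg.Agent.Lib.Chev Cfsg.Agent.Lib.ChevCent

/-- An exponent vector. -/
abbrev Mon : Type := List ℕ

/-- A sum of monomials modulo two. -/
abbrev Pol : Type := List Mon

/-- Equality of exponent vectors. -/
def monEq : Mon → Mon → Bool
  | [], [] => true
  | a :: l, b :: m => Nat.beq a b && monEq l m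
  | _, _ => false

/-- The product of monomials. -/
def monMul : Mon → Mon → Mon
  | [], m => m
  | l, [] => l
  | a :: l, b :: m => (a + b) :: monMul l m

/-- Add a monomial, cancelling an equal one. -/
def polIns (a : Mon) : Pol → Pol
  | [] => [a]
  | b :: p => bif monEq a b then p else b :: polIns a p

def polAdd (p q : Pol) : Pol := p.foldr polIns q

def polMul (p q : Pol) : Pol := p.foldr (fun a acc => polAdd (q.map (monMul a)) acc) []

/-- The power with exponent at least one. -/
def polPow (p : Pol) : ℕ → Pol
  | 0 => [[]]
  | n + 1 => polMul p (polPow p n)

section Eval

variable {F : Type*} [Field F]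

def monVal : List F → Mon → F
  | _, [] => 1
  | [], _ :: _ => 0
  | x :: xs, a :: l => x ^ a * monVal xs l

def polVal (xs : List F) : Pol → F
  | [] => 0
  | a :: p => monVal xs a + polVal xs p

theorem monEq_iff : ∀ {a b : Mon}, monEq a b = true → a = b
  | [], [], _ => rfl
  | [], _ :: _, h => by simp [monEq] at h
  | _ :: _, [], h => by simp [monEq] at h
  | a :: l, b :: m, h => by
    simp only [monEq, Bool.and_eq_true] at h
    rw [Nat.eq_of_beq_eq_true h.1, monEq_iff h.2]

theorem monVal_mul : ∀ (xs : List F) (a b : Mon), monVal xs (monMul a b) = monVal xs a * monVal xs b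
  | xs, [], m => by simp [monMul, monVal]
  | xs, a :: l, [] => by simp [monMul, monVal]
  | [], a :: l, b :: m => by simp [monMul, monVal]
  | x :: xs, a :: l, b :: m => by
    simp only [monMul, monVal, monVal_mul xs l m, pow_add]
    ring

theorem polVal_map_mul (xs : List F) (a : Mon) : ∀ q : Pol, polVal xs (q.map (monMul a)) = monVal xs a * polVal xs q
  | [] => by simp [polVal]
  | b :: q => by simp [polVal, monVal_mul, polVal_map_mul xs a q, mul_add]

variable [CharP F 2]

theorem polVal_ins (xs : List F) (a : Mon) : ∀ p : Pol, polVal xs (polIns a p) = monVal xs a + polVal xs p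
  | [] => rfl
  | b :: p => by
    unfold polIns
    cases h : monEq a b
    · simp only [cond_false, polVal, polVal_ins xs a p]; ring
    · obtain rfl := monEq_iff h
      simp only [cond_true, polVal]
      rw [← add_assoc, CharTwo.add_self_eq_zero, zero_add]

theorem polVal_add (xs : List F) : ∀ p q : Pol, polVal xs (polAdd p q) = polVal xs p + polVal xs q
  | [], q => by simp [polAdd, polVal]
  | a :: p, q => by
    have := polVal_add xs p q
    simp only [polAdd, List.foldr_cons] at this ⊢
    rw [polVal_ins, this, polVal, add_assoc]

theorem polVal_mul (xs : List F) : ∀ p q : Pol, polVal xs (polMul p q) = polVal xs p * polVal xs q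
  | [], q => by simp [polMul, polVal]
  | a :: p, q => by
    have := polVal_mul xs p q
    simp only [polMul, List.foldr_cons] at this ⊢
    rw [polVal_add, polVal_map_mul, this, polVal, add_mul]

theorem polVal_pow (xs : List F) (p : Pol) : ∀ n, polVal xs (polPow p n) = polVal xs p ^ n
  | 0 => by simp [polPow, polVal, monVal]
  | n + 1 => by rw [polPow, polVal_mul, polVal_pow xs p n, pow_succ']

end Eval

/-- A word in the root elements with polynomial parameters. -/
abbrev PWord : Type := List (ℕ × Pol)

variable (D : ChevalleyDatum) (C : Cert)

/-- The commutator terms of `x_r(a) x_q(b) = x_q(b) x_r(a) ⋯` with odd coefficients. -/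
def oddTerms (q r : ℕ) (b a : Pol) : PWord :=
  ((cTerms C q r).filter fun c => decide (c.2.1 % 2 = 1)).map fun c =>
    (c.1, polMul (polPow b c.2.2.1) (polPow a c.2.2.2))

/-- Multiply an increasing word by a root element on the left. -/
def insX : ℕ → ℕ → Pol → PWord → PWord
  | 0, r, a, l => (r, a) :: l
  | _ + 1, r, a, [] => [(r, a)]
  | n + 1, r, a, (q, b) :: l =>
    bif a.isEmpty then (q, b) :: l
    else bif Nat.blt r q then (r, a) :: (q, b) :: l
    else bif Nat.beq r q then
      (match polAdd a b with
      | [] => l
      | c => (r, c) :: l)
    else bif Nat.blt q r && !Nat.beq r (ng D q) && Nat.blt r D.nroots then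
      (q, b) :: insX n r a ((oddTerms C q r b a).foldr (fun t acc => insX n t.1 t.2 acc) l)
    else (r, a) :: (q, b) :: l

/-- The increasing form of a word. -/
def collect (w : PWord) : PWord := w.foldr (fun t acc => insX D C 40 t.1 t.2 acc) []

/-- The coefficient at a root. -/
def coefAt (r : ℕ) : PWord → Pol
  | [] => []
  | (q, b) :: l => bif Nat.beq q r then b else coefAt r l

/-- Strictly increasing positive roots. -/
def increasing : ℕ → PWord → Bool
  | _, [] => true
  | k, (q, _) :: l => Nat.ble k q && Nat.blt q D.nroots && increasing (q + 1) l

variable {D} {C} {F : Type*} [Field F]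

/-- The value of a word. -/
noncomputable def val (h : Checked D C) (xs : List F) (w : PWord) : GL D.Idx F :=
  (w.map fun t => xg h t.1 (polVal xs t.2)).prod

variable (h : Checked D C)

theorem val_cons (xs : List F) (t : ℕ × Pol) (w : PWord) :
    val h xs (t :: w) = xg h t.1 (polVal xs t.2) * val h xs w := by simp [val]

theorem val_nil (xs : List F) : val h xs [] = 1 := rfl

theorem val_append (xs : List F) (v w : PWord) : val h xs (v ++ w) = val h xs v * val h xs w := by
  simp [val, List.prod_append]

variable [CharP F 2]

theorem val_oddTerms (xs : List F) {q r : ℕ} (b a : Pol) :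
    val h xs (oddTerms C q r b a) = ((cTerms C q r).map fun c =>
      xg h c.1 ((c.2.1 : F) * polVal xs b ^ c.2.2.1 * polVal xs a ^ c.2.2.2)).prod := by
  unfold oddTerms
  induction cTerms C q r with
  | nil => rfl
  | cons c l ih =>
    rw [List.map_cons, List.prod_cons, ← ih, List.filter_cons]
    by_cases hc : c.2.1 % 2 = 1
    · have e : (c.2.1 : F) = 1 := by
        have h2 : ((c.2.1 - 1 : ℤ) : F) = 0 := natCast_even (by omega)
        rwa [Int.cast_sub, Int.cast_one, sub_eq_zero] at h2
      rw [if_pos (by simpa using hc), List.map_cons, val_cons, polVal_mul, polVal_pow, polVal_pow, e, one_mul]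
    · rw [if_neg (by simpa using hc), natCast_even (show c.2.1 % 2 = 0 by omega), zero_mul, zero_mul, xg_zero,
        one_mul]

theorem val_insX (xs : List F) : ∀ (n r : ℕ) (a : Pol) (l : PWord),
    val h xs (insX D C n r a l) = xg h r (polVal xs a) * val h xs l := by
  intro n
  induction n with
  | zero => intro r a l; rw [insX, val_cons]
  | succ n ih =>
    intro r a l
    match l with
    | [] => rw [insX, val_cons]
    | (q, b) :: l =>
      rw [insX]
      cases ha : a.isEmpty
      · simp only [cond_false]
        cases h1 : Nat.blt r q
        · simp only [cond_false]
          cases h2 : Nat.beq r q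
          · simp only [cond_false]
            cases h3 : Nat.blt q r && !Nat.beq r (ng D q) && Nat.blt r D.nroots
            · simp only [cond_false, val_cons]
            · simp only [cond_true]
              simp only [Bool.and_eq_true, Nat.blt_eq, Bool.not_eq_true'] at h3
              obtain ⟨⟨hqr, hng⟩, hr⟩ := h3
              have hng' : r ≠ ng D q := fun e => by simp [e] at hng
              have hfold : ∀ T : PWord, val h xs (T.foldr (fun t acc => insX D C n t.1 t.2 acc) l) =
                  val h xs T * val h xs l := by
                intro T
                induction T with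
                | nil => simp [val_nil]
                | cons t T iT => rw [List.foldr_cons, ih, iT, val_cons, mul_assoc]
              rw [val_cons, ih, hfold, val_cons]
              have key : xg h r (polVal xs a) * xg h q (polVal xs b) =
                  xg h q (polVal xs b) * xg h r (polVal xs a) * val h xs (oddTerms C q r b a) := by
                have e' := h.commutator_formula (show q < D.nroots by omega) hr (by omega) hng'
                  (polVal xs b) (polVal xs a)
                rw [h.commWord_eq (show q < D.nroots by omega) hr] at e'
                refine Units.ext ?_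
                rw [val_oddTerms]
                simp only [Units.val_mul, coe_xg]
                rw [e']
                congr 1
                rw [CharTwo.neg_eq]
                induction cTerms C q r with
                | nil => simp [ChevalleyDatum.wordMat]
                | cons c w iw =>
                  simp only [ChevalleyDatum.wordMat, List.map_cons, List.prod_cons, Units.val_mul] at iw ⊢
                  rw [iw, coe_xg]
              simp only [← mul_assoc]
              rw [key]
          · simp only [cond_true]
            obtain rfl := Nat.eq_of_beq_eq_true h2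
            rw [val_cons, ← mul_assoc, ← xg_add, ← polVal_add]
            cases hp : polAdd a b with
            | nil => simp [polVal, xg_zero]
            | cons c p => rw [val_cons]
        · simp only [cond_true, val_cons]
      · simp only [cond_true]
        have : a = [] := by simpa using ha
        subst this
        simp [polVal, xg_zero]

theorem val_collect (xs : List F) : ∀ w : PWord, val h xs (collect D C w) = val h xs w
  | [] => rfl
  | t :: w => by
    have := val_collect xs w
    simp only [collect, List.foldr_cons] at this ⊢
    rw [val_insX, this, val_cons]

omit [CharP F 2]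

theorem increasing_spec : ∀ {k : ℕ} {l : PWord}, increasing D k l = true →
    ∀ t ∈ l, k ≤ t.1 ∧ t.1 < D.nroots
  | _, [], _ => by simp
  | k, (q, b) :: l, h' => by
    simp only [increasing, Bool.and_eq_true, Nat.ble_eq, Nat.blt_eq] at h'
    intro t ht
    rcases List.mem_cons.1 ht with rfl | ht
    · exact h'.1
    · have := increasing_spec h'.2 t ht
      omega

theorem val_eq_word (xs : List F) : ∀ {k : ℕ} {l : PWord}, increasing D k l = true →
    val h xs l = word h (List.range' k (D.nroots - k)) fun r => polVal xs (coefAt r l) := by
  intro k l hl
  induction hn : D.nroots - k generalizing k l with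
  | zero =>
    match l with
    | [] => rfl
    | (q, b) :: l =>
      have := increasing_spec hl (q, b) List.mem_cons_self
      omega
  | succ n ih =>
    rw [List.range'_succ]
    have hw : ∀ f : ℕ → F, word h (k :: List.range' (k + 1) n) f = xg h k (f k) * word h (List.range' (k + 1) n) f :=
      fun f => by simp [word]
    rw [hw]
    match l with
    | [] =>
      rw [val_nil, show coefAt k ([] : PWord) = [] from rfl]
      rw [← ih (k := k + 1) (l := []) rfl (by omega), val_nil]
      simp [polVal, xg_zero]
    | (q, b) :: l =>
      simp only [increasing, Bool.and_eq_true, Nat.ble_eq, Nat.blt_eq] at hl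
      obtain ⟨⟨h1, h2⟩, h3⟩ := hl
      by_cases hq : q = k
      · subst hq
        rw [val_cons, ih h3 (by omega)]
        congr 1
        · simp [coefAt]
        · refine word_congr h fun r hr => ?_
          have := (List.mem_range'_1.1 hr).1
          simp [coefAt, show Nat.beq q r = false by rw [← Bool.not_eq_true]; intro e; have := Nat.eq_of_beq_eq_true e; omega]
      · have hl' : increasing D (k + 1) ((q, b) :: l) = true := by
          simp only [increasing, Bool.and_eq_true, Nat.ble_eq, Nat.blt_eq]
          exact ⟨⟨by omega, h2⟩, h3⟩
        rw [ih hl' (by omega)]
        have e0 : coefAt k ((q, b) :: l) = [] := by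
          have hno : ∀ {l : PWord}, (∀ t ∈ l, k < t.1) → coefAt k l = [] := by
            intro l hlt
            induction l with
            | nil => rfl
            | cons t l il =>
              have := hlt t List.mem_cons_self
              rw [show t = (t.1, t.2) from rfl, coefAt, show Nat.beq t.1 k = false by
                rw [← Bool.not_eq_true]; intro e; have := Nat.eq_of_beq_eq_true e; omega, cond_false,
                il fun t ht => hlt t (List.mem_cons_of_mem _ ht)]
          refine hno fun t ht => ?_
          have := increasing_spec hl' t ht
          omega
        rw [e0]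
        simp [polVal, xg_zero]

variable [CharP F 2]

/-- The coordinate of a word. -/
theorem coord_eq (hh : Rooted D C) (xs : List F) {v w : PWord}
    (hv : increasing D (D.nroots / 2) (collect D C v) = true)
    (hw : increasing D (D.nroots / 2) (collect D C w) = true)
    (e : val hh.toChecked xs v = val hh.toChecked xs w) {r : ℕ} (h1 : D.nroots / 2 ≤ r) (h2 : r < D.nroots) :
    polVal xs (coefAt r (collect D C v)) = polVal xs (coefAt r (collect D C w)) := by
  rw [← val_collect hh.toChecked xs v, ← val_collect hh.toChecked xs w, val_eq_word hh.toChecked xs hv,
    val_eq_word hh.toChecked xs hw] at e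
  refine ChevCent.word_injective hh ?_ (fun a ha => ?_) e r (List.mem_range'_1.2 ⟨h1, by omega⟩)
  · exact List.pairwise_lt_range'
  · have := List.mem_range'_1.1 ha
    exact ⟨this.1, by omega⟩

end Cfsg.Agent.Lib.ReeInv
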