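import Cfsg.Agent.Lib.ReeInv.Normal

/-!
Every involution of the large Ree group is conjugate to one of two fixed twisted root elements.
-/

set_option autoImplicit false
set_option linter.unusedSimpArgs false
set_option linter.unusedVariables false
set_option maxHeartbeats 1600000

namespace Cfsg.Agent.Lib.ReeInv

open Cfsg.Lie Cfsg.Agent.Lib.Chev Cfsg.Agent.Lib.ChevCent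
open Twisted.ReeF (IsReeSigma LP LQ nP nQ nP_mem nQ_mem)

variable {K : Type*} [Field K]

/-- Values for the variables: a list followed by a function. -/
def env (ps : List K) (v : ℕ → K) (i : ℕ) : K := if i < ps.length then ps.getD i 0 else v (i - ps.length)

variable [CharP K 2]

section Bridge

variable {φ : K →+* K}

theorem val_env (ps : List K) (v : ℕ → K) {L : List (ℕ × ℕ)} (hL : ∀ p ∈ L, p.2 < ps.length) :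
    val rooted.toChecked (vars φ (env ps v) (ps.length + 12)) (pYs L) =
      Ys φ (L.map fun p => (p.1, ps.getD p.2 0)) := by
  rw [val_pYs _ fun p hp => by have := hL p hp; omega]
  congr 1
  refine List.map_congr_left fun p hp => ?_
  simp [env, hL p hp]

theorem val_shift (ps : List K) (v : ℕ → K) :
    val rooted.toChecked (vars φ (env ps v) (ps.length + 12)) (pYs (EL ps.length)) = E φ v := by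
  rw [val_pYs _ fun p hp => by simp [EL] at hp; obtain ⟨i, hi, rfl⟩ := hp; simp; omega, E]
  simp [EL, env, List.map_map, Function.comp_def]

theorem bridge {n : ℕ} (ps : List K) (hn : ps.length = n) (v : ℕ → K) (LW LU : List (ℕ × ℕ))
    (hW : ∀ p ∈ LW, p.2 < n) (hU : ∀ p ∈ LU, p.2 < n)
    (e : E φ v * Ys φ (LW.map fun p => (p.1, ps.getD p.2 0)) =
      Ys φ (LW.map fun p => (p.1, ps.getD p.2 0)) * Ys φ (LU.map fun p => (p.1, ps.getD p.2 0))) :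
    val rooted.toChecked (vars φ (env ps v) (n + 12)) (pYs (EL n) ++ pYs LW) =
      val rooted.toChecked (vars φ (env ps v) (n + 12)) (pYs LW ++ pYs LU) := by
  subst hn
  rw [val_append, val_append, val_shift, val_env ps v hW, val_env ps v hU, e]

theorem bridge_sq {n : ℕ} (ps : List K) (hn : ps.length = n) (LU : List (ℕ × ℕ)) (hU : ∀ p ∈ LU, p.2 < n)
    (e : Ys φ (LU.map fun p => (p.1, ps.getD p.2 0)) * Ys φ (LU.map fun p => (p.1, ps.getD p.2 0)) = 1) :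
    val rooted.toChecked (vars φ (env ps fun _ => 0) (n + 12)) (pYs LU ++ pYs LU) =
      val rooted.toChecked (vars φ (env ps fun _ => 0) (n + 12)) [] := by
  subst hn
  rw [val_append, val_env ps _ hU, e, val_nil]

omit [CharP K 2] in
theorem Ys_filter : ∀ {L : List (ℕ × ℕ)} {v : ℕ → K} {S : List ℕ}, (∀ p ∈ L, p.2 ∉ S → v p.2 = 0) →
    Ys φ (L.map fun p => (p.1, v p.2)) = Ys φ ((L.filter fun p => decide (p.2 ∈ S)).map fun p => (p.1, v p.2))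
  | [], _, _, _ => rfl
  | p :: L, v, S, h => by
    have ih := Ys_filter (L := L) (v := v) (S := S) fun q hq => h q (List.mem_cons_of_mem _ hq)
    by_cases hp : p.2 ∈ S
    · rw [List.filter_cons_of_pos (by simpa using hp), List.map_cons, List.map_cons, Ys_cons, Ys_cons, ih]
    · rw [List.filter_cons_of_neg (by simpa using hp), List.map_cons, Ys_cons, h p List.mem_cons_self hp, Y_zero,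
        one_mul, ih]

omit [CharP K 2] in
theorem E_short {v : ℕ → K} (S : List ℕ) (h : ∀ i < 12, i ∉ S → v i = 0) :
    E φ v = Ys φ (((EL 0).filter fun p => decide (p.2 ∈ S)).map fun p => (p.1, v p.2)) :=
  Ys_filter fun p hp hS => h p.2 ((by decide : ∀ q ∈ EL 0, q.2 < 12) p hp) hS

end Bridge

/-- Conjugacy in the group. -/
def Rel (m : ℕ) (u v : GL chevF4.Idx K) : Prop := ∃ g ∈ twistedF4 K (2 ^ m), g * u * g⁻¹ = v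

/-- Trivial or conjugate to one of the two representatives. -/
def Good (m : ℕ) (u : GL chevF4.Idx K) : Prop :=
  u = 1 ∨ Rel m u (Y (frob K m) 24 1) ∨ Rel m u (Y (frob K m) 44 1)

variable {m : ℕ}

theorem Rel.trans {u v w : GL chevF4.Idx K} (h₁ : Rel m u v) (h₂ : Rel m v w) : Rel m u w := by
  obtain ⟨g, hg, rfl⟩ := h₁
  obtain ⟨k, hk, rfl⟩ := h₂
  exact ⟨k * g, mul_mem hk hg, by group⟩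

theorem Good.of_rel {u v : GL chevF4.Idx K} (h : Rel m u v) (hv : Good m v) : Good m u := by
  rcases hv with rfl | h' | h'
  · obtain ⟨g, -, e⟩ := h
    left
    have := congrArg (fun x => g⁻¹ * x * g) e
    simpa [mul_assoc] using this
  · exact Or.inr (Or.inl (h.trans h'))
  · exact Or.inr (Or.inr (h.trans h'))

theorem Rel.sq {u v : GL chevF4.Idx K} (h : Rel m u v) (hu : u * u = 1) : v * v = 1 := by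
  obtain ⟨g, -, rfl⟩ := h
  calc _ = g * (u * u) * g⁻¹ := by group
    _ = 1 := by rw [hu]; group

theorem conjN {φ : K →+* K} {L : List ℕ} (hL : IsWord chevF4 L) (π : ℕ → ℕ) : ∀ {l : List (ℕ × K)},
    (∀ p ∈ l, ((pY p.1 0).all (fun t => Nat.blt t.1 48) && same (mapR L (pY p.1 0)) (pY (π p.1) 0)) = true) →
    (Twisted.wordG checked_F4 (Twisted.castW K (Twisted.nInts chevF4 L)) : GL chevF4.Idx K) * Ys φ l *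
      (Twisted.wordG checked_F4 (Twisted.castW K (Twisted.nInts chevF4 L)) : GL chevF4.Idx K)⁻¹ =
      Ys φ (l.map fun p => (π p.1, p.2))
  | [], _ => by simp [Ys_nil]
  | p :: l, h => by
    have ih := conjN (φ := φ) hL π (l := l) fun q hq => h q (List.mem_cons_of_mem _ hq)
    rw [List.map_cons, Ys_cons, Ys_cons, ← ih, ← conj_Y hL (h p List.mem_cons_self) p.2]
    group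

/-- The reflection of the first class. -/
def piP (k : ℕ) : ℕ :=
  [(25, 26), (26, 25), (28, 36), (36, 28), (29, 31), (31, 29), (32, 38), (38, 32), (39, 39), (40, 44), (44, 40)].foldr
    (fun p a => if k = p.1 then p.2 else a) 0

/-- The reflection of the second class. -/
def piQ (k : ℕ) : ℕ :=
  [(24, 32), (32, 24), (26, 31), (31, 26), (29, 29), (36, 40), (40, 36), (38, 39), (39, 38), (44, 44)].foldr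
    (fun p a => if k = p.1 then p.2 else a) 0

theorem piP_check : [25, 26, 28, 29, 31, 32, 36, 38, 39, 40, 44].all (fun k =>
    (pY k 0).all (fun t => Nat.blt t.1 48) && same (mapR LP (pY k 0)) (pY (piP k) 0)) = true := by decide +kernel

theorem piQ_check : [24, 26, 29, 31, 32, 36, 38, 39, 40, 44].all (fun k =>
    (pY k 0).all (fun t => Nat.blt t.1 48) && same (mapR LQ (pY k 0)) (pY (piQ k) 0)) = true := by decide +kernel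

theorem rel_P {l : List (ℕ × K)} (hl : ∀ p ∈ l, p.1 ∈ [25, 26, 28, 29, 31, 32, 36, 38, 39, 40, 44]) :
    Rel m (Ys (frob K m) l) (Ys (frob K m) (l.map fun p => (piP p.1, p.2))) :=
  ⟨_, nP_mem, conjN Twisted.ReeF.isWord_LP piP fun p hp => List.all_eq_true.1 piP_check _ (hl p hp)⟩

theorem rel_Q {l : List (ℕ × K)} (hl : ∀ p ∈ l, p.1 ∈ [24, 26, 29, 31, 32, 36, 38, 39, 40, 44]) :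
    Rel m (Ys (frob K m) l) (Ys (frob K m) (l.map fun p => (piQ p.1, p.2))) :=
  ⟨_, nQ_mem, conjN Twisted.ReeF.isWord_LQ piQ fun p hp => List.all_eq_true.1 piQ_check _ (hl p hp)⟩

section Group

variable [Fintype K] {σ : ↥(chevF4.group K) →* ↥(chevF4.group K)} (hσ : IsReeSigma (2 ^ m) σ)
  (he : ∀ x : K, x ^ (2 * (2 ^ m * 2 ^ m)) = x)

omit [Fintype K] in
theorem frob_bijective [Finite K] : Function.Bijective (frob K m) :=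
  (RingHom.injective _).bijective_of_finite

include hσ he

omit hσ [Fintype K] in
theorem phi_phi (x : K) : frob K m (frob K m x) = x ^ 2 := frob_frob he x

local notation "φ" => frob K m

theorem conjugate {Lw Lu : List (ℕ × K)} (hw : ∀ p ∈ Lw, p.1 ∈ keys) (hu : ∀ p ∈ Lu, p.1 ∈ keys) :
    ∃ v : ℕ → K, Rel m (Ys φ Lu) (E φ v) ∧ E φ v * Ys φ Lw = Ys φ Lw * Ys φ Lu := by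
  obtain ⟨v, hv⟩ := exists_E hσ he
    (mul_mem (mul_mem (mem_pos_Ys hw) (mem_pos_Ys hu)) (inv_mem (mem_pos_Ys hw : Ys φ Lw ∈ chevF4.posUnipotent K)))
    (mul_mem (mul_mem (mem_Ys he hw) (mem_Ys he hu)) (inv_mem (mem_Ys he hw)))
  exact ⟨v, ⟨_, mem_Ys he hw, hv⟩, by rw [← hv, inv_mul_cancel_right]⟩

theorem reorder {L : List (ℕ × K)} (hL : ∀ p ∈ L, p.1 ∈ keys) :
    ∃ v : ℕ → K, E φ v = Ys φ L ∧ E φ v * Ys φ [] = Ys φ [] * Ys φ L := by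
  obtain ⟨v, hv⟩ := exists_E hσ he (mem_pos_Ys hL : Ys φ L ∈ chevF4.posUnipotent K) (mem_Ys he hL)
  exact ⟨v, hv.symm, by rw [← hv, Ys_nil, mul_one, one_mul]⟩

theorem good_single24 (a : K) : Good m (Ys φ [(24, a)]) := by
  by_cases ha : a = 0
  · exact Or.inl (by simp [Ys, ha, Y_zero])
  obtain ⟨s, hs⟩ := (frob_bijective (K := K) (m := m)).2 a⁻¹
  have hs0 : s ≠ 0 := fun h => by rw [h, map_zero] at hs; exact inv_ne_zero ha hs.symm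
  refine Or.inr (Or.inl ⟨_, Twisted.ReeF.ct_mem (σ := σ) hσ he (Units.mk0 s hs0) 1, ?_⟩)
  have hc : ∀ r, r < chevF4.nroots → ∀ x : K,
      (Twisted.ReeF.ct (2 ^ m) (Units.mk0 s hs0) 1 : GL chevF4.Idx K) * xg rooted.toChecked r x *
        (Twisted.ReeF.ct (2 ^ m) (Units.mk0 s hs0) 1 : GL chevF4.Idx K)⁻¹ = xg rooted.toChecked r
          ((torusFun chevF4 (Twisted.ReeF.quad (Units.mk0 s hs0 ^ 2 ^ m) (1 ^ 2 ^ m) 1 (Units.mk0 s hs0)) r : K) * x) := by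
    intro r hr x
    rw [show xg rooted.toChecked r x = xGL checked_F4 K hr x from dif_pos hr,
      show xg rooted.toChecked r _ = xGL checked_F4 K hr _ from dif_pos hr]
    exact checked_F4.conj_x hr x
  have k24 : ∀ i < 4, chevF4.cartan i 24 = [0, 0, -1, 2].getD i 0 := by decide +kernel
  have k33 : ∀ i < 4, chevF4.cartan i 33 = [2, -1, 0, 0].getD i 0 := by decide +kernel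
  have c24 := hc 24 (by decide)
  have c33 := hc 33 (by decide)
  simp only [torusFun, show chevF4.rank = 4 from rfl, Finset.prod_range_succ, Finset.prod_range_zero,
    k24 0 (by decide), k24 1 (by decide), k24 2 (by decide), k24 3 (by decide), k33 0 (by decide),
    k33 1 (by decide), k33 2 (by decide), k33 3 (by decide), (Twisted.ReeF.quad_vals _ _ _ _).1,
    (Twisted.ReeF.quad_vals _ _ _ _).2.1, (Twisted.ReeF.quad_vals _ _ _ _).2.2.1,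
    (Twisted.ReeF.quad_vals _ _ _ _).2.2.2] at c24 c33
  simp at c24 c33
  simp only [Ys, Y, tmpl, List.map_cons, List.map_nil, List.prod_cons, List.prod_nil, mul_one, pow_zero, pow_one,
    one_mul, map_one]
  rw [← mul_assoc _ (xg _ _ _) (xg _ _ _), mul_assoc _ _ (_)⁻¹, mul_assoc]
  rw [show ∀ (g A B : GL chevF4.Idx K), g * (A * (B * g⁻¹)) = (g * A * g⁻¹) * (g * B * g⁻¹) from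
    fun g A B => by group, c24, c33]
  have e1 : (s ^ 2 ^ m) ^ 2 = a⁻¹ := by rw [← hs, frob_apply, ← pow_mul, pow_succ]
  have e2 : s ^ 2 * φ a = 1 := by
    rw [← frob_frob he s, hs, map_inv₀, inv_mul_cancel₀]
    exact fun h => ha ((map_eq_zero _).1 h)
  simp [e1, e2, ha]

theorem good_single44 (a : K) : Good m (Ys φ [(44, a)]) := by
  by_cases ha : a = 0
  · exact Or.inl (by simp [Ys, ha, Y_zero])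
  set s := φ a⁻¹ with hs
  have hs0 : s ≠ 0 := (map_ne_zero _).2 (inv_ne_zero ha)
  refine Or.inr (Or.inr ⟨_, Twisted.ReeF.ct_mem (σ := σ) hσ he (Units.mk0 s hs0) 1, ?_⟩)
  have hc : ∀ r, r < chevF4.nroots → ∀ x : K,
      (Twisted.ReeF.ct (2 ^ m) (Units.mk0 s hs0) 1 : GL chevF4.Idx K) * xg rooted.toChecked r x *
        (Twisted.ReeF.ct (2 ^ m) (Units.mk0 s hs0) 1 : GL chevF4.Idx K)⁻¹ = xg rooted.toChecked r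
          ((torusFun chevF4 (Twisted.ReeF.quad (Units.mk0 s hs0 ^ 2 ^ m) (1 ^ 2 ^ m) 1 (Units.mk0 s hs0)) r : K) * x) := by
    intro r hr x
    rw [show xg rooted.toChecked r x = xGL checked_F4 K hr x from dif_pos hr,
      show xg rooted.toChecked r _ = xGL checked_F4 K hr _ from dif_pos hr]
    exact checked_F4.conj_x hr x
  have k44 : ∀ i < 4, chevF4.cartan i 44 = [1, 0, 0, 0].getD i 0 := by decide +kernel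
  have k47 : ∀ i < 4, chevF4.cartan i 47 = [0, 0, 0, 1].getD i 0 := by decide +kernel
  have c44 := hc 44 (by decide)
  have c47 := hc 47 (by decide)
  simp only [torusFun, show chevF4.rank = 4 from rfl, Finset.prod_range_succ, Finset.prod_range_zero,
    k44 0 (by decide), k44 1 (by decide), k44 2 (by decide), k44 3 (by decide), k47 0 (by decide),
    k47 1 (by decide), k47 2 (by decide), k47 3 (by decide), (Twisted.ReeF.quad_vals _ _ _ _).1,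
    (Twisted.ReeF.quad_vals _ _ _ _).2.1, (Twisted.ReeF.quad_vals _ _ _ _).2.2.1,
    (Twisted.ReeF.quad_vals _ _ _ _).2.2.2] at c44 c47
  simp at c44 c47
  simp only [Ys, Y, tmpl, List.map_cons, List.map_nil, List.prod_cons, List.prod_nil, mul_one, pow_zero, pow_one,
    one_mul, map_one]
  rw [show ∀ (g A B : GL chevF4.Idx K), g * (A * B) * g⁻¹ = (g * A * g⁻¹) * (g * B * g⁻¹) from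
    fun g A B => by group, c44, c47]
  have e1 : s ^ 2 ^ m * a = 1 := by rw [hs, frob_pow_e he, inv_mul_cancel₀ ha]
  have e2 : s * φ a = 1 := by rw [hs, ← map_mul, inv_mul_cancel₀ ha, map_one]
  simp [e1, e2]

theorem good_single39 (a : K) : Good m (Ys φ [(39, a)]) := by
  refine Good.of_rel (rel_Q (by simp)) (Good.of_rel (rel_P (by simp [piQ])) (Good.of_rel (rel_Q (by simp [piQ, piP])) ?_))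
  simpa [piP, piQ] using good_single24 hσ he a

theorem good_single38 (a : K) : Good m (Ys φ [(38, a)]) := by
  refine Good.of_rel (rel_P (by simp)) (Good.of_rel (rel_Q (by simp [piP])) ?_)
  simpa [piP, piQ] using good_single24 hσ he a

theorem good_single32 (a : K) : Good m (Ys φ [(32, a)]) := by
  refine Good.of_rel (rel_Q (by simp)) ?_
  simpa [piQ] using good_single24 hσ he a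

theorem good_single40 (a : K) : Good m (Ys φ [(40, a)]) := by
  refine Good.of_rel (rel_P (by simp)) ?_
  simpa [piP] using good_single44 hσ he a

/-- The case of four adjacent families. -/
theorem good_four (p3 p5 b6 b4 : K) : Good m (Ys φ [(38, p3), (39, p5), (40, b6), (44, b4)]) := by
  have hφφ := phi_phi he
  have hsur := (frob_bijective (K := K) (m := m)).2
  by_cases h3 : p3 = 0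
  swap
  · obtain ⟨a, ha⟩ := hsur (p5 / p3)
    set b := (b6 + a * p5) / p3 with hb
    set c := (b4 + a * φ p3) / p3 with hc
    obtain ⟨v, hrel, hev⟩ := conjugate hσ he (Lw := [(25, a), (28, b), (31, c)])
      (Lu := [(38, p3), (39, p5), (40, b6), (44, b4)]) (by simp [keys]) (by simp [keys])
    have e := bridge (n := 7) [p3, p5, b6, b4, a, b, c] rfl v [(25, 4), (28, 5), (31, 6)]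
      [(38, 0), (39, 1), (40, 2), (44, 3)] (by decide) (by decide) hev
    have h0 := eqn (r := 33) (P := [[0, 0, 0, 0, 0, 0, 0, 0, 0, 0, 0, 0, 0, 0, 1, 0]]) (by decide +kernel) e
    simp [polVal, monVal, vars, env] at h0
    have h1 := eqn (r := 27) (P := [[0, 0, 0, 0, 0, 0, 0, 0, 0, 0, 0, 0, 0, 0, 0, 0, 1, 0]]) (by decide +kernel) e
    simp [polVal, monVal, vars, env] at h1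
    have h2 := eqn (r := 34) (P := [[0, 0, 0, 0, 0, 0, 0, 0, 0, 0, 0, 0, 0, 0, 0, 0, 0, 0, 1, 0], [0, 0, 0, 0, 0, 0, 0, 0, 0, 0, 0, 0, 0, 0, 1, 0, 1, 0], [0, 0, 0, 0, 0, 0, 0, 0, 1, 0, 0, 0, 0, 0, 1, 0]]) (by decide +kernel) e
    simp [polVal, monVal, vars, env] at h2
    have h3 := eqn (r := 28) (P := [[0, 0, 0, 0, 0, 0, 0, 0, 0, 1, 0, 0, 0, 0, 0, 0, 1, 0], [0, 0, 0, 0, 0, 0, 0, 0, 0, 0, 0, 0, 0, 0, 0, 0, 0, 0, 0, 0, 1, 0]]) (by decide +kernel) e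
    simp [polVal, monVal, vars, env] at h3
    have h4 := eqn (r := 29) (P := [[0, 0, 0, 0, 0, 0, 0, 0, 0, 0, 0, 0, 0, 0, 0, 0, 1, 0, 0, 1], [0, 0, 0, 0, 0, 0, 0, 0, 0, 0, 0, 0, 0, 0, 0, 0, 0, 0, 0, 0, 0, 0, 1, 0]]) (by decide +kernel) e
    simp [polVal, monVal, vars, env] at h4
    have h5 := eqn (r := 35) (P := [[0, 0, 0, 0, 0, 0, 0, 0, 0, 1, 0, 0, 0, 0, 0, 0, 0, 0, 1, 0], [0, 0, 0, 0, 0, 0, 0, 0, 0, 0, 0, 0, 0, 0, 0, 0, 0, 0, 0, 0, 0, 0, 0, 0, 1, 0], [0, 0, 0, 0, 0, 0, 0, 0, 0, 1, 0, 0, 0, 0, 1, 0, 1, 0], [0, 0, 0, 0, 0, 0, 0, 0, 0, 0, 0, 0, 0, 0, 1, 0, 0, 0, 0, 0, 1, 0], [0, 0, 0, 0, 0, 0, 0, 0, 0, 0, 1, 0, 0, 0, 1, 0]]) (by decide +kernel) e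
    simp [polVal, monVal, vars, env] at h5
    have h6 := eqn (r := 37) (P := [[0, 0, 0, 0, 0, 0, 0, 0, 0, 0, 0, 0, 0, 0, 0, 0, 0, 0, 1, 0, 1, 0], [0, 0, 0, 0, 0, 0, 0, 0, 1, 1, 0, 0, 0, 0, 0, 0, 0, 0, 1, 0], [0, 0, 0, 0, 0, 0, 0, 0, 0, 0, 1, 0, 0, 0, 0, 0, 0, 0, 1, 0], [0, 0, 0, 0, 0, 0, 0, 0, 1, 0, 0, 0, 0, 0, 0, 0, 0, 0, 0, 0, 0, 0, 0, 0, 1, 0], [0, 0, 0, 0, 0, 0, 0, 0, 0, 0, 0, 0, 0, 0, 1, 0, 1, 0, 0, 0, 1, 0], [0, 0, 0, 0, 0, 0, 0, 0, 1, 1, 0, 0, 0, 0, 1, 0, 1, 0], [0, 0, 0, 0, 0, 0, 0, 0, 0, 0, 1, 0, 0, 0, 1, 0, 1, 0], [0, 0, 0, 0, 0, 0, 0, 0, 0, 0, 0, 0, 0, 0, 1, 0, 2, 1], [0, 0, 0, 0, 0, 0, 0, 0, 0, 0, 0, 0, 0, 0, 1, 0, 0, 0, 0, 0, 0, 1], [0, 0, 0, 0, 0, 0, 0, 0, 0, 0, 0, 0, 0, 0, 0, 0, 0, 0, 0, 0, 0, 0, 0, 0, 0, 0, 1, 0], [0, 0,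 0, 0, 0, 0, 0, 0, 1, 0, 0, 0, 0, 0, 1, 0, 0, 0, 0, 0, 1, 0], [0, 0, 0, 0, 0, 0, 0, 0, 1, 0, 1, 0, 0, 0, 1, 0], [0, 0, 0, 0, 0, 0, 0, 0, 2, 1, 0, 0, 0, 0, 1, 0], [0, 0, 0, 0, 0, 0, 0, 0, 0, 0, 0, 1, 0, 0, 1, 0]]) (by decide +kernel) e
    simp [polVal, monVal, vars, env] at h6
    have h7 := eqn (r := 36) (P := [[0, 0, 0, 0, 0, 0, 0, 0, 0, 0, 0, 0, 0, 0, 1, 0, 1, 0, 0, 1], [0, 0, 0, 0, 0, 0, 0, 0, 0, 0, 0, 0, 0, 0, 1, 0, 0, 0, 0, 0, 0, 0, 1, 0], [0, 0, 0, 0, 0, 0, 0, 0, 0, 0, 0, 0, 0, 0, 0, 0, 0, 0, 0, 0, 0, 0, 0, 0, 0, 0, 0, 0, 1, 0]]) (by decide +kernel) e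
    simp [polVal, monVal, vars, env] at h7
    have h8 := eqn (r := 38) (P := [[0, 0, 0, 0, 0, 0, 0, 0, 1, 0, 0, 0, 0, 0, 1, 0, 1, 0, 0, 1], [0, 0, 0, 0, 0, 0, 0, 0, 0, 0, 0, 0, 0, 0, 0, 0, 0, 0, 1, 0, 0, 0, 1, 0], [0, 0, 0, 0, 0, 0, 0, 0, 0, 0, 0, 0, 0, 0, 1, 0, 1, 0, 0, 0, 0, 0, 1, 0], [0, 0, 0, 0, 0, 0, 0, 0, 1, 0, 0, 0, 0, 0, 1, 0, 0, 0, 0, 0, 0, 0, 1, 0], [0, 0, 0, 0, 0, 0, 0, 0, 0, 0, 0, 0, 0, 0, 1, 0, 0, 0, 0, 0, 0, 0, 0, 0, 0, 1], [0, 0, 0, 0, 0, 0, 0, 0, 0, 0, 0, 0, 0, 0, 0, 0, 0, 0, 0, 0, 0, 0, 0, 0, 0, 0, 0, 0, 0, 0, 1, 0], [0, 0, 0, 0, 0, 0, 0, 0, 0, 0, 0, 0, 0, 1, 1, 0], [0, 0, 0, 0, 0, 0, 0, 0, 1, 0, 0, 0, 0, 0, 0, 0, 0, 0, 0, 0, 0, 0, 0, 0, 0, 0, 0, 0, 1, 0], [1, 0]]) (by decide +kernel) e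
    simp [polVal, monVal, vars, env] at h8
    have h9 := eqn (r := 39) (P := [[0, 0, 0, 0, 0, 0, 0, 0, 0, 0, 0, 0, 0, 0, 1, 0, 1, 0, 0, 1, 1, 0], [0, 0, 0, 0, 0, 0, 0, 0, 0, 0, 1, 0, 0, 0, 1, 0, 1, 0, 0, 1], [0, 0, 0, 0, 0, 0, 0, 0, 0, 0, 0, 0, 0, 0, 1, 0, 2, 1, 0, 1], [0, 0, 0, 0, 0, 0, 0, 0, 0, 1, 0, 0, 0, 0, 0, 0, 0, 0, 1, 0, 0, 0, 1, 0], [0, 0, 0, 0, 0, 0, 0, 0, 0, 1, 0, 0, 0, 0, 1, 0, 1, 0, 0, 0, 0, 0, 1, 0], [0, 0, 0, 0, 0, 0, 0, 0, 0, 0, 0, 0, 0, 0, 1, 0, 0, 0, 0, 0, 1, 0, 1, 0], [0, 0, 0, 0, 0, 0, 0, 0, 0, 0, 1, 0, 0, 0, 1, 0, 0, 0, 0, 0, 0, 0, 1, 0], [0, 0, 0, 0, 0, 0, 0, 0, 0, 1, 0, 0, 0, 0, 1, 0, 0, 0, 0, 0, 0, 0, 0, 0, 0, 1], [0, 0, 0, 0, 0, 0, 0, 0, 0, 0, 1, 0, 0, 0, 0, 0, 0, 0, 0, 0, 0, 0, 0, 0, 0, 0, 0, 0, 1, 0], [0, 0, 0,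 0, 0, 0, 0, 0, 0, 0, 0, 0, 0, 0, 1, 0, 0, 0, 0, 0, 0, 0, 0, 0, 0, 0, 0, 1], [0, 0, 0, 0, 0, 0, 0, 0, 0, 0, 0, 0, 0, 0, 0, 0, 0, 0, 0, 0, 0, 0, 0, 0, 0, 0, 0, 0, 0, 0, 0, 0, 1, 0], [0, 0, 0, 0, 0, 0, 0, 0, 0, 1, 0, 0, 0, 0, 0, 0, 0, 0, 0, 0, 0, 0, 0, 0, 0, 0, 0, 0, 0, 0, 1, 0], [0, 0, 1, 0]]) (by decide +kernel) e
    simp [polVal, monVal, vars, env] at h9
    have h10 := eqn (r := 40) (P := [[0, 0, 0, 0, 0, 0, 0, 0, 0, 0, 0, 0, 0, 0, 1, 0, 1, 0, 0, 1, 0, 1], [0, 0, 0, 0, 0, 0, 0, 0, 1, 0, 0, 0, 0, 0, 1, 0, 1, 0, 0, 1, 1, 0], [0, 0, 0, 0, 0, 0, 0, 0, 1, 0, 1, 0, 0, 0, 1, 0, 1, 0, 0, 1], [0, 0, 0, 0, 0, 0, 0, 0, 2, 1, 0, 0, 0, 0, 1, 0, 1, 0, 0, 1], [0, 0, 0, 0, 0, 0, 0, 0, 0, 0, 0, 1, 0, 0, 1, 0, 1, 0, 0, 1], [0, 0, 0, 0, 0, 0, 0, 0, 1, 0,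 0, 0, 0, 0, 1, 0, 2, 1, 0, 1], [0, 0, 0, 0, 0, 0, 0, 0, 0, 0, 0, 0, 0, 0, 0, 0, 0, 0, 1, 0, 1, 0, 1, 0], [0, 0, 0, 0, 0, 0, 0, 0, 1, 1, 0, 0, 0, 0, 0, 0, 0, 0, 1, 0, 0, 0, 1, 0], [0, 0, 0, 0, 0, 0, 0, 0, 0, 0, 1, 0, 0, 0, 0, 0, 0, 0, 1, 0, 0, 0, 1, 0], [0, 0, 0, 0, 0, 0, 0, 0, 0, 0, 0, 0, 0, 0, 0, 0, 0, 0, 1, 0, 0, 0, 0, 0, 0, 0, 0, 1], [0, 0, 0, 0, 0, 0, 0, 0, 0, 1, 0, 0, 0, 1, 0, 0, 0, 0, 1, 0], [0, 0, 0, 0, 0, 0, 0, 0, 0, 0, 0, 0, 0, 0, 1, 0, 1, 0, 0, 0, 1, 0, 1, 0], [0, 0, 0, 0, 0, 0, 0, 0, 1, 1, 0, 0, 0, 0, 1, 0, 1, 0, 0, 0, 0, 0, 1, 0], [0, 0, 0, 0, 0, 0, 0, 0, 0, 0, 1, 0, 0, 0, 1, 0, 1, 0, 0, 0, 0, 0, 1, 0], [0, 0, 0, 0, 0, 0, 0, 0, 0, 0, 0, 0, 0, 0, 1, 0, 2, 1, 0, 0, 0, 0, 1, 0], [0, 0, 0, 0, 0, 0, 0, 0, 0, 0, 0, 0, 0, 0, 1, 0, 0,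 0, 0, 0, 0, 1, 1, 0], [0, 0, 0, 0, 0, 0, 0, 0, 1, 0, 0, 0, 0, 0, 1, 0, 0, 0, 0, 0, 1, 0, 1, 0], [0, 0, 0, 0, 0, 0, 0, 0, 1, 0, 1, 0, 0, 0, 1, 0, 0, 0, 0, 0, 0, 0, 1, 0], [0, 0, 0, 0, 0, 0, 0, 0, 2, 1, 0, 0, 0, 0, 1, 0, 0, 0, 0, 0, 0, 0, 1, 0], [0, 0, 0, 0, 0, 0, 0, 0, 0, 0, 0, 1, 0, 0, 1, 0, 0, 0, 0, 0, 0, 0, 1, 0], [0, 0, 0, 0, 0, 0, 0, 0, 0, 0, 0, 0, 0, 0, 1, 0, 0, 0, 0, 0, 1, 0, 0, 0, 0, 1], [0, 0, 0, 0, 0, 0, 0, 0, 1, 1, 0, 0, 0, 0, 1, 0, 0, 0, 0, 0, 0, 0, 0, 0, 0, 1], [0, 0, 0, 0, 0, 0, 0, 0, 0, 0, 1, 0, 0, 0, 1, 0, 0, 0, 0, 0, 0, 0, 0, 0, 0, 1], [0, 0, 0, 0, 0, 0, 0, 0, 0, 0, 0, 0, 0, 1, 0, 0, 0, 0, 0, 0, 0, 0, 0, 0, 1, 0], [0, 0, 0, 0, 0, 0, 0, 0, 0, 0, 0, 0, 0, 0, 1, 0, 1, 0, 0, 0, 0, 0, 0, 0, 0, 0, 0, 1], [0, 0, 0, 0, 0, 0, 0, 0,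 0, 0, 0, 1, 0, 0, 0, 0, 0, 0, 0, 0, 0, 0, 0, 0, 0, 0, 0, 0, 1, 0], [0, 0, 0, 0, 0, 0, 0, 0, 0, 0, 0, 0, 0, 0, 0, 0, 0, 0, 0, 0, 0, 0, 0, 0, 0, 0, 0, 0, 0, 0, 0, 0, 0, 0, 1, 0], [0, 0, 0, 0, 0, 0, 0, 0, 0, 1, 0, 0, 0, 1, 1, 0, 1, 0], [0, 0, 0, 0, 0, 0, 0, 0, 0, 0, 0, 0, 0, 1, 1, 0, 0, 0, 0, 0, 1, 0], [0, 0, 0, 0, 0, 0, 0, 0, 0, 0, 1, 0, 0, 1, 1, 0], [0, 0, 0, 0, 0, 0, 0, 0, 1, 0, 1, 0, 0, 0, 0, 0, 0, 0, 0, 0, 0, 0, 0, 0, 0, 0, 0, 0, 1, 0], [0, 0, 0, 0, 0, 0, 0, 0, 1, 0, 0, 0, 0, 0, 1, 0, 0, 0, 0, 0, 0, 0, 0, 0, 0, 0, 0, 1], [0, 0, 0, 0, 0, 0, 0, 0, 1, 0, 0, 0, 0, 0, 0, 0, 0, 0, 0, 0, 0, 0, 0, 0, 0, 0, 0, 0, 0, 0, 0, 0, 1, 0], [0, 0, 0, 0, 0, 0, 0, 0, 1, 1, 0, 0, 0, 0, 0, 0, 0, 0, 0, 0, 0, 0, 0, 0, 0, 0, 0, 0, 0, 0, 1, 0], [0, 0, 0, 0, 0, 0,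 0, 0, 2, 1, 0, 0, 0, 0, 0, 0, 0, 0, 0, 0, 0, 0, 0, 0, 0, 0, 0, 0, 1, 0], [0, 0, 0, 0, 1, 0], [0, 0, 0, 0, 0, 0, 0, 0, 0, 0, 1, 0, 0, 0, 0, 0, 0, 0, 0, 0, 0, 0, 0, 0, 0, 0, 0, 0, 0, 0, 1, 0]]) (by decide +kernel) e
    simp [polVal, monVal, vars, env] at h10
    have h11 := eqn (r := 44) (P := [[0, 0, 0, 0, 0, 0, 0, 0, 1, 0, 0, 0, 0, 0, 1, 0, 1, 0, 0, 1, 0, 0, 0, 0, 1, 0], [0, 0, 0, 0, 0, 0, 0, 0, 0, 0, 0, 0, 0, 0, 2, 0, 1, 0, 0, 1, 0, 1], [0, 0, 0, 0, 0, 0, 0, 0, 1, 0, 0, 0, 0, 0, 2, 0, 1, 0, 0, 1, 1, 0], [0, 0, 0, 0, 0, 0, 0, 0, 1, 0, 1, 0, 0, 0, 2, 0, 1, 0, 0, 1], [0, 0, 0, 0, 0, 0, 0, 0, 2, 1, 0, 0, 0, 0, 2, 0, 1, 0, 0, 1], [0, 0, 0, 0, 0, 0, 0, 0, 0, 0, 0, 1, 0, 0, 2, 0, 1, 0, 0, 1], [0, 0, 0, 0, 0, 0, 0, 0, 1, 0, 0, 0, 0, 0, 2, 0, 2,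 1, 0, 1], [0, 0, 0, 0, 0, 0, 0, 0, 1, 0, 0, 0, 1, 0, 1, 0, 1, 0, 0, 1], [0, 0, 0, 0, 0, 0, 0, 0, 0, 0, 0, 0, 0, 0, 0, 0, 0, 0, 1, 0, 0, 0, 1, 0, 1, 0], [0, 0, 0, 0, 0, 0, 0, 0, 0, 0, 0, 0, 0, 0, 1, 0, 0, 0, 1, 0, 1, 0, 1, 0], [0, 0, 0, 0, 0, 0, 0, 0, 0, 0, 0, 0, 1, 0, 0, 0, 0, 0, 1, 0, 0, 0, 1, 0], [0, 0, 0, 0, 0, 0, 0, 0, 1, 1, 0, 0, 0, 0, 1, 0, 0, 0, 1, 0, 0, 0, 1, 0], [0, 0, 0, 0, 0, 0, 0, 0, 0, 0, 1, 0, 0, 0, 1, 0, 0, 0, 1, 0, 0, 0, 1, 0], [0, 0, 0, 0, 0, 0, 0, 0, 0, 0, 0, 0, 0, 0, 0, 0, 0, 0, 1, 0, 1, 0, 0, 0, 0, 0, 0, 0, 1, 0], [0, 0, 0, 0, 0, 0, 0, 0, 0, 0, 1, 0, 0, 0, 0, 0, 0, 0, 1, 0, 0, 0, 0, 0, 0, 0, 0, 0, 1, 0], [0, 0, 0, 0, 0, 0, 0, 0, 0, 0, 0, 0, 0, 0, 1, 0, 0, 0, 1, 0, 0, 0, 0, 0, 0, 0, 0, 1], [0, 0, 0, 0, 0, 0, 0, 0, 0, 1,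 0, 0, 0, 1, 1, 0, 0, 0, 1, 0], [0, 0, 0, 0, 0, 0, 0, 0, 1, 1, 0, 0, 0, 0, 0, 0, 0, 0, 1, 0, 0, 0, 0, 0, 0, 0, 0, 0, 1, 0], [0, 0, 0, 0, 0, 0, 0, 0, 0, 0, 0, 0, 0, 0, 1, 0, 1, 0, 1, 1, 1, 0], [0, 0, 0, 0, 0, 0, 0, 0, 1, 1, 0, 0, 0, 0, 1, 0, 1, 0, 1, 1], [0, 0, 0, 0, 0, 0, 0, 0, 0, 0, 1, 0, 0, 0, 1, 0, 1, 0, 1, 1], [0, 0, 0, 0, 0, 0, 0, 0, 0, 0, 0, 0, 0, 0, 1, 0, 2, 1, 1, 1], [0, 0, 0, 0, 0, 0, 0, 0, 0, 0, 0, 0, 0, 0, 0, 0, 0, 0, 2, 1, 1, 0], [0, 0, 0, 0, 0, 0, 0, 0, 1, 1, 0, 0, 0, 0, 0, 0, 0, 0, 2, 1], [0, 0, 0, 0, 0, 0, 0, 0, 0, 0, 1, 0, 0, 0, 0, 0, 0, 0, 2, 1], [0, 0, 0, 0, 0, 0, 0, 0, 0, 0, 0, 0, 0, 0, 1, 0, 1, 0, 0, 0, 0, 0, 1, 0, 1, 0], [0, 0, 0, 0, 0, 0, 0, 0, 1, 0, 0, 0, 0, 0, 1, 0, 0, 0, 0, 0, 0, 0, 1, 0, 1, 0], [0, 0, 0, 0, 0, 0,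 0, 0, 0, 0, 0, 0, 0, 0, 2, 0, 1, 0, 0, 0, 1, 0, 1, 0], [0, 0, 0, 0, 0, 0, 0, 0, 1, 1, 0, 0, 0, 0, 2, 0, 1, 0, 0, 0, 0, 0, 1, 0], [0, 0, 0, 0, 0, 0, 0, 0, 0, 0, 1, 0, 0, 0, 2, 0, 1, 0, 0, 0, 0, 0, 1, 0], [0, 0, 0, 0, 0, 0, 0, 0, 0, 0, 0, 0, 0, 0, 2, 0, 2, 1, 0, 0, 0, 0, 1, 0], [0, 0, 0, 0, 0, 0, 0, 0, 0, 0, 0, 0, 0, 0, 2, 0, 0, 0, 0, 0, 0, 1, 1, 0], [0, 0, 0, 0, 0, 0, 0, 0, 0, 0, 0, 0, 1, 0, 1, 0, 1, 0, 0, 0, 0, 0, 1, 0], [0, 0, 0, 0, 0, 0, 0, 0, 1, 0, 0, 0, 1, 0, 1, 0, 0, 0, 0, 0, 0, 0, 1, 0], [0, 0, 0, 0, 0, 0, 0, 0, 1, 0, 0, 0, 0, 0, 2, 0, 0, 0, 0, 0, 1, 0, 1, 0], [0, 0, 0, 0, 0, 0, 0, 0, 1, 0, 1, 0, 0, 0, 2, 0, 0, 0, 0, 0, 0, 0, 1, 0], [0, 0, 0, 0, 0, 0, 0, 0, 2, 1, 0, 0, 0, 0, 2, 0, 0, 0, 0, 0, 0, 0, 1, 0], [0, 0, 0, 0, 0, 0, 0, 0, 0,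 0, 0, 1, 0, 0, 2, 0, 0, 0, 0, 0, 0, 0, 1, 0], [0, 0, 0, 0, 0, 0, 0, 0, 0, 0, 0, 0, 0, 0, 0, 0, 0, 0, 0, 0, 0, 0, 1, 1], [0, 0, 0, 0, 0, 0, 0, 0, 0, 0, 0, 0, 0, 0, 2, 0, 0, 0, 0, 0, 1, 0, 0, 0, 0, 1], [0, 0, 0, 0, 0, 0, 0, 0, 0, 0, 0, 0, 1, 0, 1, 0, 0, 0, 0, 0, 0, 0, 0, 0, 0, 1], [0, 0, 0, 0, 0, 0, 0, 0, 1, 1, 0, 0, 0, 0, 2, 0, 0, 0, 0, 0, 0, 0, 0, 0, 0, 1], [0, 0, 0, 0, 0, 0, 0, 0, 0, 0, 1, 0, 0, 0, 2, 0, 0, 0, 0, 0, 0, 0, 0, 0, 0, 1], [0, 0, 0, 0, 0, 0, 0, 0, 0, 0, 0, 0, 0, 1, 1, 0, 0, 0, 0, 0, 0, 0, 0, 0, 1, 0], [0, 0, 0, 0, 0, 0, 0, 0, 1, 0, 0, 0, 0, 0, 0, 0, 0, 0, 0, 0, 0, 0, 0, 0, 1, 0, 0, 0, 1, 0], [0, 0, 0, 0, 0, 0, 0, 0, 0, 0, 0, 0, 0, 0, 1, 0, 0, 0, 0, 0, 0, 0, 0, 0, 1, 1], [0, 0, 0, 0, 0, 0, 0, 0, 0, 0, 0, 0, 0, 0, 1, 0, 1, 0, 0,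 0, 1, 0, 0, 0, 0, 0, 0, 0, 1, 0], [0, 0, 0, 0, 0, 0, 0, 0, 0, 0, 1, 0, 0, 0, 1, 0, 1, 0, 0, 0, 0, 0, 0, 0, 0, 0, 0, 0, 1, 0], [0, 0, 0, 0, 0, 0, 0, 0, 0, 0, 0, 0, 0, 0, 2, 0, 1, 0, 0, 0, 0, 0, 0, 0, 0, 0, 0, 1], [0, 0, 0, 0, 0, 0, 0, 0, 1, 1, 0, 0, 0, 0, 1, 0, 1, 0, 0, 0, 0, 0, 0, 0, 0, 0, 0, 0, 1, 0], [0, 0, 0, 0, 0, 0, 0, 0, 0, 0, 0, 0, 0, 0, 1, 0, 2, 1, 0, 0, 0, 0, 0, 0, 0, 0, 0, 0, 1, 0], [0, 0, 0, 0, 0, 0, 0, 0, 0, 0, 1, 0, 0, 0, 0, 0, 0, 0, 0, 0, 0, 0, 0, 0, 0, 0, 0, 0, 0, 1], [0, 0, 0, 0, 0, 0, 0, 0, 0, 0, 0, 0, 0, 0, 1, 0, 0, 0, 0, 0, 0, 1, 0, 0, 0, 0, 0, 0, 1, 0], [0, 0, 0, 0, 0, 0, 0, 0, 0, 0, 0, 0, 0, 0, 0, 0, 0, 0, 0, 0, 0, 0, 0, 0, 0, 0, 1, 0, 1, 0], [0, 0, 0, 0, 0, 0, 0, 0, 0, 0, 0, 1, 0, 0, 1, 0, 0, 0, 0, 0, 0, 0, 0, 0, 0,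 0, 0, 0, 1, 0], [0, 0, 0, 0, 0, 0, 0, 0, 0, 0, 0, 0, 0, 0, 0, 0, 0, 0, 0, 0, 0, 0, 0, 0, 0, 0, 0, 0, 0, 0, 0, 0, 0, 0, 0, 0, 1, 0], [0, 0, 0, 0, 0, 0, 0, 0, 0, 1, 0, 0, 0, 1, 2, 0, 1, 0], [0, 0, 0, 0, 0, 0, 0, 0, 0, 0, 0, 0, 0, 1, 2, 0, 0, 0, 0, 0, 1, 0], [0, 0, 0, 0, 0, 0, 0, 0, 0, 0, 1, 0, 0, 1, 2, 0], [0, 0, 0, 0, 0, 0, 0, 0, 0, 0, 0, 0, 1, 0, 0, 0, 0, 0, 0, 0, 0, 0, 0, 0, 0, 0, 0, 0, 0, 0, 1, 0], [0, 0, 0, 0, 0, 0, 0, 0, 1, 0, 0, 0, 1, 0, 0, 0, 0, 0, 0, 0, 0, 0, 0, 0, 0, 0, 0, 0, 1, 0], [0, 0, 0, 0, 0, 0, 0, 0, 0, 0, 0, 0, 1, 1, 1, 0], [0, 0, 0, 0, 0, 0, 0, 0, 1, 0, 0, 0, 0, 0, 1, 0, 0, 0, 0, 0, 1, 0, 0, 0, 0, 0, 0, 0, 1, 0], [0, 0, 0, 0, 0, 0, 0, 0, 1, 0, 1, 0, 0, 0, 1, 0, 0, 0, 0, 0, 0, 0, 0, 0, 0, 0, 0, 0, 1, 0], [0, 0, 0, 0, 0, 0,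 0, 0, 1, 0, 0, 0, 0, 0, 2, 0, 0, 0, 0, 0, 0, 0, 0, 0, 0, 0, 0, 1], [0, 0, 0, 0, 0, 0, 0, 0, 1, 0, 0, 0, 0, 0, 0, 0, 0, 0, 0, 0, 0, 0, 0, 0, 0, 0, 0, 0, 0, 0, 0, 1], [0, 0, 0, 0, 0, 0, 0, 0, 1, 1, 0, 0, 0, 0, 0, 0, 0, 0, 0, 0, 0, 0, 0, 0, 0, 0, 0, 0, 0, 1], [0, 0, 0, 0, 0, 0, 0, 0, 2, 1, 0, 0, 0, 0, 1, 0, 0, 0, 0, 0, 0, 0, 0, 0, 0, 0, 0, 0, 1, 0], [0, 0, 0, 0, 0, 0, 1, 0]]) (by decide +kernel) e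
    simp [polVal, monVal, vars, env] at h11
    clear e hev
    have g0 : v 0 = 0 := by grind
    try simp [g0] at h1
    have g1 : v 1 = 0 := by grind
    try simp [g0, g1] at h2
    have g2 : v 2 = 0 := by grind
    try simp [g0, g1, g2] at h3
    have g3 : v 3 = 0 := by grind
    try simp [g0, g1, g2, g3] at h4
    have g4 : v 4 = 0 := by grind
    try simp [g0, g1, g2, g3, g4] at h5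
    have g5 : v 5 = 0 := by grind
    try simp [g0, g1, g2, g3, g4, g5] at h6
    have g6 : v 6 = 0 := by grind
    try simp [g0, g1, g2, g3, g4, g5, g6] at h7
    have g7 : v 7 = 0 := by grind
    try simp [g0, g1, g2, g3, g4, g5, g6, g7] at h8
    have g8 : v 8 = p3 := by grind
    try simp [g0, g1, g2, g3, g4, g5, g6, g7, g8] at h9
    have g9 : v 9 = 0 := by grind
    try simp [g0, g1, g2, g3, g4, g5, g6, g7, g8, g9] at h10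
    have g10 : v 10 = 0 := by grind
    try simp [g0, g1, g2, g3, g4, g5, g6, g7, g8, g9, g10] at h11
    have g11 : v 11 = 0 := by grind
    refine Good.of_rel hrel ?_
    rw [E_short [8] (by intro i hi hS; interval_cases i <;> simp_all)]
    exact good_single38 hσ he _
  subst h3
  have e0 : Ys φ [(38, (0 : K)), (39, p5), (40, b6), (44, b4)] = Ys φ [(39, p5), (40, b6), (44, b4)] := by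
    simp [Ys, Y_zero]
  rw [e0]
  by_cases h5 : p5 = 0
  swap
  · set a := b6 / p5 with ha
    set a2 := b4 / p5 with ha2
    obtain ⟨v, hrel, hev⟩ := conjugate hσ he (Lw := [(25, a), (26, a2)])
      (Lu := [(39, p5), (40, b6), (44, b4)]) (by simp [keys]) (by simp [keys])
    have e := bridge (n := 5) [p5, b6, b4, a, a2] rfl v [(25, 3), (26, 4)]
      [(39, 0), (40, 1), (44, 2)] (by decide) (by decide) hev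
    have h0 := eqn (r := 33) (P := [[0, 0, 0, 0, 0, 0, 0, 0, 0, 0, 1, 0]]) (by decide +kernel) e
    simp [polVal, monVal, vars, env] at h0
    have h1 := eqn (r := 27) (P := [[0, 0, 0, 0, 0, 0, 0, 0, 0, 0, 0, 0, 1, 0]]) (by decide +kernel) e
    simp [polVal, monVal, vars, env] at h1
    have h2 := eqn (r := 34) (P := [[0, 0, 0, 0, 0, 0, 0, 0, 0, 0, 0, 0, 0, 0, 1, 0], [0, 0, 0, 0, 0, 0, 0, 0, 0, 0, 1, 0, 1, 0], [0, 0, 0, 0, 0, 0, 1, 0, 0, 0, 1, 0]]) (by decide +kernel) e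
    simp [polVal, monVal, vars, env] at h2
    have h3 := eqn (r := 28) (P := [[0, 0, 0, 0, 0, 0, 0, 1, 0, 0, 0, 0, 1, 0], [0, 0, 0, 0, 0, 0, 0, 0, 0, 0, 0, 0, 0, 0, 0, 0, 1, 0]]) (by decide +kernel) e
    simp [polVal, monVal, vars, env] at h3
    have h4 := eqn (r := 29) (P := [[0, 0, 0, 0, 0, 0, 0, 0, 0, 0, 0, 0, 1, 0, 0, 1], [0, 0, 0, 0, 0, 0, 0, 0, 0, 0, 0, 0, 0, 0, 0, 0, 0, 0, 1, 0], [0, 0, 0, 0, 0, 0, 0, 0, 0, 1, 0, 0, 1, 0]]) (by decide +kernel) e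
    simp [polVal, monVal, vars, env] at h4
    have h5 := eqn (r := 35) (P := [[0, 0, 0, 0, 0, 0, 0, 1, 0, 0, 0, 0, 0, 0, 1, 0], [0, 0, 0, 0, 0, 0, 0, 0, 0, 0, 0, 0, 0, 0, 0, 0, 0, 0, 0, 0, 1, 0], [0, 0, 0, 0, 0, 0, 0, 1, 0, 0, 1, 0, 1, 0], [0, 0, 0, 0, 0, 0, 0, 0, 0, 0, 1, 0, 0, 0, 0, 0, 1, 0]]) (by decide +kernel) e
    simp [polVal, monVal, vars, env] at h5
    have h6 := eqn (r := 37) (P := [[0, 0, 0, 0, 0, 0, 0, 0, 0, 0, 0, 0, 0, 0, 1, 0, 1, 0], [0, 0, 0, 0, 0, 0, 1, 1, 0, 0, 0, 0, 0, 0, 1, 0], [0, 0, 0, 0, 0, 0, 1, 0, 0, 0, 0, 0, 0, 0, 0, 0, 0, 0, 0, 0, 1, 0], [0, 0, 0, 0, 0, 0, 0, 0, 0, 0, 1, 0, 1, 0, 0, 0, 1, 0], [0, 0, 0, 0, 0, 0, 1, 1, 0, 0, 1, 0, 1, 0], [0, 0, 0, 0, 0, 0, 0, 0, 0, 0, 1, 0, 2, 1], [0, 0, 0, 0, 0, 0, 0, 0, 0, 0,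 1, 0, 0, 0, 0, 0, 0, 1], [0, 0, 0, 0, 0, 0, 0, 0, 0, 0, 0, 0, 0, 0, 0, 0, 0, 0, 0, 0, 0, 0, 1, 0], [0, 0, 0, 0, 0, 0, 1, 0, 0, 0, 1, 0, 0, 0, 0, 0, 1, 0], [0, 0, 0, 0, 0, 0, 2, 1, 0, 0, 1, 0]]) (by decide +kernel) e
    simp [polVal, monVal, vars, env] at h6
    have h7 := eqn (r := 36) (P := [[0, 0, 0, 0, 0, 0, 0, 0, 0, 0, 1, 0, 1, 0, 0, 1], [0, 0, 0, 0, 0, 0, 0, 0, 0, 1, 0, 0, 0, 0, 1, 0], [0, 0, 0, 0, 0, 0, 0, 0, 0, 0, 1, 0, 0, 0, 0, 0, 0, 0, 1, 0], [0, 0, 0, 0, 0, 0, 0, 0, 0, 0, 0, 0, 0, 0, 0, 0, 0, 0, 0, 0, 0, 0, 0, 0, 1, 0], [0, 0, 0, 0, 0, 0, 0, 0, 0, 1, 1, 0, 1, 0], [0, 0, 0, 0, 0, 0, 1, 0, 0, 1, 1, 0]]) (by decide +kernel) e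
    simp [polVal, monVal, vars, env] at h7
    have h8 := eqn (r := 38) (P := [[0, 0, 0, 0, 0, 0, 1, 0, 0, 0, 1, 0, 1, 0, 0, 1], [0, 0, 0, 0, 0, 0, 0, 0, 0, 0, 0, 0, 0, 0, 1, 0, 0, 0, 1, 0], [0, 0, 0, 0, 0, 0, 0, 0, 0, 0, 1, 0, 1, 0, 0, 0, 0, 0, 1, 0], [0, 0, 0, 0, 0, 0, 1, 0, 0, 0, 1, 0, 0, 0, 0, 0, 0, 0, 1, 0], [0, 0, 0, 0, 0, 0, 0, 0, 0, 0, 1, 0, 0, 0, 0, 0, 0, 0, 0, 0, 0, 1], [0, 0, 0, 0, 0, 0, 0, 0, 0, 0, 0, 0, 0, 0, 0, 0, 0, 0, 0, 0, 0, 0, 0, 0, 0, 0, 1, 0], [0, 0, 0, 0, 0, 0, 1, 0, 0, 0, 0, 0, 0, 0, 0, 0, 0, 0, 0, 0, 0, 0, 0, 0, 1, 0]]) (by decide +kernel) e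
    simp [polVal, monVal, vars, env] at h8
    have h9 := eqn (r := 39) (P := [[0, 0, 0, 0, 0, 0, 0, 0, 0, 0, 1, 0, 1, 0, 0, 1, 1, 0], [0, 0, 0, 0, 0, 0, 0, 0, 0, 0, 1, 0, 2, 1, 0, 1], [0, 0, 0, 0, 0, 0, 0, 1, 0, 0, 0, 0, 0, 0, 1, 0, 0, 0, 1, 0], [0, 0, 0, 0, 0, 0, 0, 0, 0, 1, 0, 0, 0, 0, 1, 0, 1, 0], [0, 0, 0, 0, 0, 0, 1, 1, 0, 1, 0, 0, 0, 0, 1, 0], [0, 0, 0, 0, 0, 0, 0, 1, 0, 0, 1, 0, 1, 0, 0, 0, 0, 0, 1, 0], [0, 0, 0, 0, 0, 0, 0, 0, 0, 0, 1, 0, 0, 0, 0, 0, 1, 0, 1, 0], [0, 0, 0, 0, 0, 0, 0, 1, 0, 0, 1, 0, 0, 0, 0, 0, 0, 0, 0, 0, 0, 1], [0, 0, 0, 0, 0, 0, 0, 0, 0, 0, 1, 0, 0, 0, 0, 0, 0, 0, 0, 0, 0, 0, 0, 1], [0, 0, 0, 0, 0, 0, 0, 0, 0, 0, 0, 0, 0, 0, 0, 0, 0, 0, 0, 0, 0, 0, 0, 0, 0, 0, 0, 0, 1, 0], [0, 0, 0, 0, 0, 0, 1, 0, 0, 1, 0, 0,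 0, 0, 0, 0, 0, 0, 0, 0, 1, 0], [0, 0, 0, 0, 0, 0, 0, 0, 0, 1, 1, 0, 1, 0, 0, 0, 1, 0], [0, 0, 0, 0, 0, 0, 1, 1, 0, 1, 1, 0, 1, 0], [0, 0, 0, 0, 0, 0, 0, 0, 0, 1, 1, 0, 2, 1], [0, 0, 0, 0, 0, 0, 0, 0, 0, 1, 1, 0, 0, 0, 0, 0, 0, 1], [0, 0, 0, 0, 0, 0, 0, 0, 0, 1, 0, 0, 0, 0, 0, 0, 0, 0, 0, 0, 0, 0, 1, 0], [0, 0, 0, 0, 0, 0, 1, 0, 0, 1, 1, 0, 0, 0, 0, 0, 1, 0], [0, 0, 0, 0, 0, 0, 2, 1, 0, 1, 1, 0], [0, 0, 0, 0, 0, 0, 0, 1, 0, 0, 0, 0, 0, 0, 0, 0, 0, 0, 0, 0, 0, 0, 0, 0, 0, 0, 1, 0], [1, 0]]) (by decide +kernel) e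
    simp [polVal, monVal, vars, env] at h9
    have h10 := eqn (r := 40) (P := [[0, 0, 0, 0, 0, 0, 0, 0, 0, 0, 1, 0, 1, 0, 0, 1, 0, 1], [0, 0, 0, 0, 0, 0, 1, 0, 0, 0, 1, 0, 1, 0, 0, 1, 1, 0], [0, 0, 0, 0, 0, 0, 2, 1, 0, 0, 1, 0, 1, 0, 0, 1], [0, 0, 0, 0, 0, 0, 1, 0, 0, 0, 1, 0, 2, 1, 0, 1], [0, 0, 0, 0, 0, 0, 0, 0, 0, 0, 0, 0, 0, 0, 1, 0, 1, 0, 1, 0], [0, 0, 0, 0, 0, 0, 1, 1, 0, 0, 0, 0, 0, 0, 1, 0, 0, 0, 1, 0], [0, 0, 0, 0, 0, 0, 0, 0, 0, 0, 0, 0, 0, 0, 1, 0, 0, 0, 0, 0, 0, 0, 0, 1], [0, 0, 0, 0, 0, 0, 0, 0, 0, 0, 1, 0, 1, 0, 0, 0, 1, 0, 1, 0], [0, 0, 0, 0, 0, 0, 1, 1, 0, 0, 1, 0, 1, 0, 0, 0, 0, 0, 1, 0], [0, 0, 0, 0, 0, 0, 0, 0, 0, 0, 1, 0, 2, 1, 0, 0, 0, 0, 1, 0], [0, 0, 0, 0, 0, 0, 0, 0, 0, 0, 1, 0, 0, 0, 0, 0, 0, 1, 1, 0], [0, 0, 0,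 0, 0, 0, 1, 0, 0, 0, 1, 0, 0, 0, 0, 0, 1, 0, 1, 0], [0, 0, 0, 0, 0, 0, 2, 1, 0, 0, 1, 0, 0, 0, 0, 0, 0, 0, 1, 0], [0, 0, 0, 0, 0, 0, 0, 0, 0, 0, 1, 0, 0, 0, 0, 0, 1, 0, 0, 0, 0, 1], [0, 0, 0, 0, 0, 0, 1, 1, 0, 0, 1, 0, 0, 0, 0, 0, 0, 0, 0, 0, 0, 1], [0, 0, 0, 0, 0, 0, 0, 0, 0, 0, 1, 0, 1, 0, 0, 0, 0, 0, 0, 0, 0, 0, 0, 1], [0, 0, 0, 0, 0, 0, 0, 0, 0, 0, 0, 0, 0, 0, 0, 0, 0, 0, 0, 0, 0, 0, 0, 0, 0, 0, 0, 0, 0, 0, 1, 0], [0, 0, 0, 0, 0, 0, 1, 0, 0, 0, 1, 0, 0, 0, 0, 0, 0, 0, 0, 0, 0, 0, 0, 1], [0, 0, 0, 0, 0, 0, 1, 0, 0, 0, 0, 0, 0, 0, 0, 0, 0, 0, 0, 0, 0, 0, 0, 0, 0, 0, 0, 0, 1, 0], [0, 0, 0, 0, 0, 0, 1, 1, 0, 0, 0, 0, 0, 0, 0, 0, 0, 0, 0, 0, 0, 0, 0, 0, 0, 0, 1, 0], [0, 0, 0, 0, 0, 0, 2, 1, 0, 0, 0, 0, 0, 0, 0, 0, 0, 0, 0, 0, 0, 0, 0, 0, 1,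 0], [0, 0, 1, 0]]) (by decide +kernel) e
    simp [polVal, monVal, vars, env] at h10
    have h11 := eqn (r := 44) (P := [[0, 0, 0, 0, 0, 0, 1, 0, 0, 0, 1, 0, 1, 0, 0, 1, 0, 0, 0, 0, 1, 0], [0, 0, 0, 0, 0, 0, 0, 0, 0, 0, 2, 0, 1, 0, 0, 1, 0, 1], [0, 0, 0, 0, 0, 0, 1, 0, 0, 0, 2, 0, 1, 0, 0, 1, 1, 0], [0, 0, 0, 0, 0, 0, 2, 1, 0, 0, 2, 0, 1, 0, 0, 1], [0, 0, 0, 0, 0, 0, 1, 0, 0, 0, 2, 0, 2, 1, 0, 1], [0, 0, 0, 0, 0, 0, 0, 0, 1, 0, 1, 0, 1, 0, 0, 1, 1, 0], [0, 0, 0, 0, 0, 0, 0, 0, 1, 0, 1, 0, 2, 1, 0, 1], [0, 0, 0, 0, 0, 0, 0, 0, 0, 0, 0, 0, 0, 0, 1, 0, 0, 0, 1, 0, 1, 0], [0, 0, 0, 0, 0, 0, 0, 0, 0, 0, 1, 0, 0, 0, 1, 0, 1, 0, 1, 0], [0, 0, 0, 0, 0, 0, 1, 1, 0, 0, 1, 0, 0, 0, 1, 0, 0, 0, 1, 0], [0, 0, 0, 0, 0, 0, 0, 0, 0, 0, 0, 0, 0, 0, 1, 0,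 1, 0, 0, 0, 0, 0, 0, 0, 1, 0], [0, 0, 0, 0, 0, 0, 0, 0, 0, 0, 1, 0, 0, 0, 1, 0, 0, 0, 0, 0, 0, 0, 0, 1], [0, 0, 0, 0, 0, 0, 0, 1, 1, 0, 0, 0, 0, 0, 1, 0, 0, 0, 1, 0], [0, 0, 0, 0, 0, 0, 0, 0, 1, 1, 0, 0, 0, 0, 1, 0, 1, 0], [0, 0, 0, 0, 0, 0, 1, 1, 1, 1, 0, 0, 0, 0, 1, 0], [0, 0, 0, 0, 0, 0, 1, 1, 0, 0, 0, 0, 0, 0, 1, 0, 0, 0, 0, 0, 0, 0, 0, 0, 1, 0], [0, 0, 0, 0, 0, 0, 0, 0, 0, 0, 1, 0, 1, 0, 1, 1, 1, 0], [0, 0, 0, 0, 0, 0, 1, 1, 0, 0, 1, 0, 1, 0, 1, 1], [0, 0, 0, 0, 0, 0, 0, 0, 0, 0, 1, 0, 2, 1, 1, 1], [0, 0, 0, 0, 0, 0, 0, 0, 0, 0, 0, 0, 0, 0, 2, 1, 1, 0], [0, 0, 0, 0, 0, 0, 1, 1, 0, 0, 0, 0, 0, 0, 2, 1], [0, 0, 0, 0, 0, 0, 0, 0, 0, 0, 1, 0, 1, 0, 0, 0, 0, 0, 1, 0, 1, 0], [0, 0, 0, 0, 0, 0, 1, 0, 0, 0, 1, 0, 0, 0, 0, 0, 0, 0, 1, 0, 1, 0],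 [0, 0, 0, 0, 0, 0, 0, 0, 0, 0, 2, 0, 1, 0, 0, 0, 1, 0, 1, 0], [0, 0, 0, 0, 0, 0, 1, 1, 0, 0, 2, 0, 1, 0, 0, 0, 0, 0, 1, 0], [0, 0, 0, 0, 0, 0, 0, 0, 0, 0, 2, 0, 2, 1, 0, 0, 0, 0, 1, 0], [0, 0, 0, 0, 0, 0, 0, 0, 0, 0, 2, 0, 0, 0, 0, 0, 0, 1, 1, 0], [0, 0, 0, 0, 0, 0, 1, 0, 0, 0, 2, 0, 0, 0, 0, 0, 1, 0, 1, 0], [0, 0, 0, 0, 0, 0, 2, 1, 0, 0, 2, 0, 0, 0, 0, 0, 0, 0, 1, 0], [0, 0, 0, 0, 0, 0, 0, 0, 0, 0, 0, 0, 0, 0, 0, 0, 0, 0, 1, 1], [0, 0, 0, 0, 0, 0, 0, 0, 0, 0, 2, 0, 0, 0, 0, 0, 1, 0, 0, 0, 0, 1], [0, 0, 0, 0, 0, 0, 1, 1, 0, 0, 2, 0, 0, 0, 0, 0, 0, 0, 0, 0, 0, 1], [0, 0, 0, 0, 0, 0, 1, 0, 0, 0, 0, 0, 0, 0, 0, 0, 0, 0, 0, 0, 1, 0, 0, 0, 1, 0], [0, 0, 0, 0, 0, 0, 0, 0, 0, 0, 1, 0, 0, 0, 0, 0, 0, 0, 0, 0, 1, 1], [0, 0, 0, 0, 0, 0, 0, 0, 0, 0,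 1, 0, 1, 0, 0, 0, 1, 0, 0, 0, 0, 0, 0, 0, 1, 0], [0, 0, 0, 0, 0, 0, 0, 0, 0, 0, 2, 0, 1, 0, 0, 0, 0, 0, 0, 0, 0, 0, 0, 1], [0, 0, 0, 0, 0, 0, 1, 1, 0, 0, 1, 0, 1, 0, 0, 0, 0, 0, 0, 0, 0, 0, 0, 0, 1, 0], [0, 0, 0, 0, 0, 0, 0, 0, 0, 0, 1, 0, 2, 1, 0, 0, 0, 0, 0, 0, 0, 0, 0, 0, 1, 0], [0, 0, 0, 0, 0, 0, 0, 0, 0, 0, 1, 0, 0, 0, 0, 0, 0, 1, 0, 0, 0, 0, 0, 0, 1, 0], [0, 0, 0, 0, 0, 0, 0, 0, 0, 0, 0, 0, 0, 0, 0, 0, 0, 0, 0, 0, 0, 0, 1, 0, 1, 0], [0, 0, 0, 0, 0, 0, 0, 0, 0, 0, 0, 0, 0, 0, 0, 0, 0, 0, 0, 0, 0, 0, 0, 0, 0, 0, 0, 0, 0, 0, 0, 0, 1, 0], [0, 0, 0, 0, 0, 0, 0, 1, 1, 0, 1, 0, 1, 0, 0, 0, 0, 0, 1, 0], [0, 0, 0, 0, 0, 0, 0, 0, 1, 0, 1, 0, 0, 0, 0, 0, 1, 0, 1, 0], [0, 0, 0, 0, 0, 0, 0, 1, 1, 0, 1, 0, 0, 0, 0, 0, 0, 0, 0, 0, 0, 1], [0, 0, 0,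 0, 0, 0, 0, 0, 1, 0, 1, 0, 0, 0, 0, 0, 0, 0, 0, 0, 0, 0, 0, 1], [0, 0, 0, 0, 0, 0, 0, 0, 1, 0, 0, 0, 0, 0, 0, 0, 0, 0, 0, 0, 0, 0, 0, 0, 0, 0, 0, 0, 1, 0], [0, 0, 0, 0, 0, 0, 0, 1, 1, 0, 0, 0, 0, 0, 0, 0, 0, 0, 0, 0, 0, 0, 0, 0, 0, 0, 1, 0], [0, 0, 0, 0, 0, 0, 1, 0, 1, 1, 0, 0, 0, 0, 0, 0, 0, 0, 0, 0, 1, 0], [0, 0, 0, 0, 0, 0, 0, 0, 1, 1, 1, 0, 1, 0, 0, 0, 1, 0], [0, 0, 0, 0, 0, 0, 1, 1, 1, 1, 1, 0, 1, 0], [0, 0, 0, 0, 0, 0, 0, 0, 1, 1, 1, 0, 2, 1], [0, 0, 0, 0, 0, 0, 0, 0, 1, 1, 1, 0, 0, 0, 0, 0, 0, 1], [0, 0, 0, 0, 0, 0, 0, 0, 1, 1, 0, 0, 0, 0, 0, 0, 0, 0, 0, 0, 0, 0, 1, 0], [0, 0, 0, 0, 0, 0, 1, 0, 1, 1, 1, 0, 0, 0, 0, 0, 1, 0], [0, 0, 0, 0, 0, 0, 2, 1, 1, 1, 1, 0], [0, 0, 0, 0, 0, 0, 1, 0, 0, 0, 1, 0, 0, 0, 0, 0, 1, 0, 0, 0, 0, 0, 0,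 0, 1, 0], [0, 0, 0, 0, 0, 0, 1, 0, 0, 0, 2, 0, 0, 0, 0, 0, 0, 0, 0, 0, 0, 0, 0, 1], [0, 0, 0, 0, 0, 0, 1, 0, 0, 0, 0, 0, 0, 0, 0, 0, 0, 0, 0, 0, 0, 0, 0, 0, 0, 0, 0, 1], [0, 0, 0, 0, 0, 0, 1, 1, 0, 0, 0, 0, 0, 0, 0, 0, 0, 0, 0, 0, 0, 0, 0, 0, 0, 1], [0, 0, 0, 0, 0, 0, 2, 1, 0, 0, 1, 0, 0, 0, 0, 0, 0, 0, 0, 0, 0, 0, 0, 0, 1, 0], [0, 0, 0, 0, 1, 0]]) (by decide +kernel) e
    simp [polVal, monVal, vars, env] at h11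
    clear e hev
    have g0 : v 0 = 0 := by grind
    try simp [g0] at h1
    have g1 : v 1 = 0 := by grind
    try simp [g0, g1] at h2
    have g2 : v 2 = 0 := by grind
    try simp [g0, g1, g2] at h3
    have g3 : v 3 = 0 := by grind
    try simp [g0, g1, g2, g3] at h4
    have g4 : v 4 = 0 := by grind
    try simp [g0, g1, g2, g3, g4] at h5
    have g5 : v 5 = 0 := by grind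
    try simp [g0, g1, g2, g3, g4, g5] at h6
    have g6 : v 6 = 0 := by grind
    try simp [g0, g1, g2, g3, g4, g5, g6] at h7
    have g7 : v 7 = 0 := by grind
    try simp [g0, g1, g2, g3, g4, g5, g6, g7] at h8
    have g8 : v 8 = 0 := by grind
    try simp [g0, g1, g2, g3, g4, g5, g6, g7, g8] at h9
    have g9 : v 9 = p5 := by grind
    try simp [g0, g1, g2, g3, g4, g5, g6, g7, g8, g9] at h10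
    have g10 : v 10 = 0 := by grind
    try simp [g0, g1, g2, g3, g4, g5, g6, g7, g8, g9, g10] at h11
    have g11 : v 11 = 0 := by grind
    refine Good.of_rel hrel ?_
    rw [E_short [9] (by intro i hi hS; interval_cases i <;> simp_all)]
    exact good_single39 hσ he _
  subst h5
  have e1 : Ys φ [(39, (0 : K)), (40, b6), (44, b4)] = Ys φ [(40, b6), (44, b4)] := by simp [Ys, Y_zero]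
  rw [e1]
  by_cases h6 : b6 = 0
  · subst h6
    rw [show Ys φ [(40, (0 : K)), (44, b4)] = Ys φ [(44, b4)] by simp [Ys, Y_zero]]
    exact good_single44 hσ he _
  set t := b4 / b6 with ht
  obtain ⟨v, hrel, hev⟩ := conjugate hσ he (Lw := [(24, t)]) (Lu := [(40, b6), (44, b4)]) (by simp [keys])
    (by simp [keys])
  have e := bridge (n := 3) [b6, b4, t] rfl v [(24, 2)] [(40, 0), (44, 1)] (by decide) (by decide) hev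
  have h0 := eqn (r := 33) (P := [[0, 0, 0, 0, 0, 0, 1, 0]]) (by decide +kernel) e
  simp [polVal, monVal, vars, env] at h0
  have h1 := eqn (r := 27) (P := [[0, 0, 0, 0, 0, 0, 0, 0, 1, 0]]) (by decide +kernel) e
  simp [polVal, monVal, vars, env] at h1
  have h2 := eqn (r := 34) (P := [[0, 0, 0, 0, 0, 0, 0, 0, 0, 0, 1, 0], [0, 0, 0, 0, 0, 0, 1, 0, 1, 0]]) (by decide +kernel) e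
  simp [polVal, monVal, vars, env] at h2
  have h3 := eqn (r := 28) (P := [[0, 0, 0, 0, 0, 0, 0, 0, 0, 0, 0, 0, 1, 0]]) (by decide +kernel) e
  simp [polVal, monVal, vars, env] at h3
  have h4 := eqn (r := 29) (P := [[0, 0, 0, 0, 0, 0, 0, 0, 1, 0, 0, 1], [0, 0, 0, 0, 0, 0, 0, 0, 0, 0, 0, 0, 0, 0, 1, 0], [0, 0, 0, 0, 0, 1, 0, 0, 0, 0, 0, 0, 1, 0]]) (by decide +kernel) e
  simp [polVal, monVal, vars, env] at h4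
  have h5 := eqn (r := 35) (P := [[0, 0, 0, 0, 0, 0, 0, 0, 0, 0, 0, 0, 0, 0, 0, 0, 1, 0], [0, 0, 0, 0, 0, 0, 1, 0, 0, 0, 0, 0, 1, 0]]) (by decide +kernel) e
  simp [polVal, monVal, vars, env] at h5
  have h6 := eqn (r := 37) (P := [[0, 0, 0, 0, 0, 0, 0, 0, 0, 0, 1, 0, 1, 0], [0, 0, 0, 0, 0, 0, 1, 0, 1, 0, 0, 0, 1, 0], [0, 0, 0, 0, 0, 0, 1, 0, 2, 1], [0, 0, 0, 0, 0, 0, 1, 0, 0, 0, 0, 0, 0, 1], [0, 0, 0, 0, 0, 0, 0, 0, 0, 0, 0, 0, 0, 0, 0, 0, 0, 0, 1, 0]]) (by decide +kernel) e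
  simp [polVal, monVal, vars, env] at h6
  have h7 := eqn (r := 36) (P := [[0, 0, 0, 0, 0, 0, 1, 0, 1, 0, 0, 1], [0, 0, 0, 0, 0, 0, 1, 0, 0, 0, 0, 0, 0, 0, 1, 0], [0, 0, 0, 0, 0, 1, 0, 0, 0, 0, 0, 0, 0, 0, 0, 0, 1, 0], [0, 0, 0, 0, 0, 0, 0, 0, 0, 0, 0, 0, 0, 0, 0, 0, 0, 0, 0, 0, 1, 0], [0, 0, 0, 0, 0, 1, 1, 0, 0, 0, 0, 0, 1, 0]]) (by decide +kernel) e
  simp [polVal, monVal, vars, env] at h7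
  have h8 := eqn (r := 38) (P := [[0, 0, 0, 0, 0, 0, 0, 0, 0, 0, 1, 0, 0, 0, 1, 0], [0, 0, 0, 0, 0, 1, 0, 0, 0, 0, 1, 0, 1, 0], [0, 0, 0, 0, 0, 0, 1, 0, 1, 0, 0, 0, 0, 0, 1, 0], [0, 0, 0, 0, 0, 0, 1, 0, 0, 0, 0, 0, 0, 0, 0, 0, 0, 1], [0, 0, 0, 0, 0, 1, 1, 0, 1, 0, 0, 0, 1, 0], [0, 0, 0, 0, 0, 1, 1, 0, 2, 1], [0, 0, 0, 0, 0, 1, 1, 0, 0, 0, 0, 0, 0, 1], [0, 0, 0, 0, 0, 0, 0, 0, 0, 0, 0, 0, 0, 0, 0, 0, 0, 0, 0, 0, 0, 0, 1, 0], [0, 0, 0, 0, 0, 1, 0, 0, 0, 0, 0, 0, 0, 0, 0, 0, 0, 0, 1, 0]]) (by decide +kernel) e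
  simp [polVal, monVal, vars, env] at h8
  have h9 := eqn (r := 39) (P := [[0, 0, 0, 0, 0, 0, 1, 0, 1, 0, 0, 1, 1, 0], [0, 0, 0, 0, 0, 0, 1, 0, 2, 1, 0, 1], [0, 0, 0, 0, 0, 0, 1, 0, 0, 0, 0, 0, 1, 0, 1, 0], [0, 0, 0, 0, 0, 0, 1, 0, 0, 0, 0, 0, 0, 0, 0, 0, 0, 0, 0, 1], [0, 0, 0, 0, 0, 0, 0, 0, 0, 0, 0, 0, 0, 0, 0, 0, 0, 0, 0, 0, 0, 0, 0, 0, 1, 0]]) (by decide +kernel) e
  simp [polVal, monVal, vars, env] at h9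
  have h10 := eqn (r := 40) (P := [[0, 0, 0, 0, 0, 0, 1, 0, 1, 0, 0, 1, 0, 1], [0, 0, 0, 0, 0, 0, 0, 0, 0, 0, 1, 0, 1, 0, 1, 0], [0, 0, 0, 0, 0, 0, 0, 0, 0, 0, 1, 0, 0, 0, 0, 0, 0, 0, 0, 1], [0, 0, 0, 0, 0, 0, 1, 0, 1, 0, 0, 0, 1, 0, 1, 0], [0, 0, 0, 0, 0, 0, 1, 0, 2, 1, 0, 0, 0, 0, 1, 0], [0, 0, 0, 0, 0, 0, 1, 0, 0, 0, 0, 0, 0, 1, 1, 0], [0, 0, 0, 0, 0, 0, 1, 0, 0, 0, 0, 0, 1, 0, 0, 0, 0, 1], [0, 0, 0, 0, 0, 0, 1, 0, 1, 0, 0, 0, 0, 0, 0, 0, 0, 0, 0, 1], [0, 0, 0, 0, 0, 0, 0, 0, 0, 0, 0, 0, 0, 0, 0, 0, 0, 0, 0, 0, 0, 0, 0, 0, 0, 0, 1, 0], [1, 0]]) (by decide +kernel) e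
  simp [polVal, monVal, vars, env] at h10
  have h11 := eqn (r := 44) (P := [[0, 0, 0, 0, 1, 0, 1, 0, 1, 0, 0, 1, 0, 1], [0, 0, 0, 0, 0, 0, 2, 0, 1, 0, 0, 1, 0, 1], [0, 0, 0, 0, 0, 0, 0, 0, 0, 0, 1, 0, 0, 0, 1, 0, 1, 0], [0, 0, 0, 0, 0, 0, 1, 0, 0, 0, 1, 0, 1, 0, 1, 0], [0, 0, 0, 0, 1, 0, 0, 0, 0, 0, 1, 0, 1, 0, 1, 0], [0, 0, 0, 0, 0, 0, 0, 0, 0, 0, 1, 0, 1, 0, 0, 0, 0, 0, 0, 0, 1, 0], [0, 0, 0, 0, 0, 0, 1, 0, 0, 0, 1, 0, 0, 0, 0, 0, 0, 0, 0, 1], [0, 0, 0, 0, 1, 0, 0, 0, 0, 0, 1, 0, 0, 0, 0, 0, 0, 0, 0, 1], [0, 0, 0, 0, 0, 0, 1, 0, 1, 0, 1, 1, 1, 0], [0, 0, 0, 0, 0, 0, 1, 0, 2, 1, 1, 1], [0, 0, 0, 0, 0, 0, 0, 0, 0, 0, 2, 1, 1, 0], [0, 0, 0, 0, 0, 0, 1, 0, 1, 0, 0, 0, 0, 0, 1, 0, 1, 0], [0, 0, 0, 0, 1, 0, 1, 0, 1, 0, 0, 0, 1, 0, 1, 0], [0,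 0, 0, 0, 0, 0, 2, 0, 1, 0, 0, 0, 1, 0, 1, 0], [0, 0, 0, 0, 1, 0, 1, 0, 2, 1, 0, 0, 0, 0, 1, 0], [0, 0, 0, 0, 0, 0, 2, 0, 2, 1, 0, 0, 0, 0, 1, 0], [0, 0, 0, 0, 1, 0, 1, 0, 0, 0, 0, 0, 0, 1, 1, 0], [0, 0, 0, 0, 0, 0, 2, 0, 0, 0, 0, 0, 0, 1, 1, 0], [0, 0, 0, 0, 0, 0, 0, 0, 0, 0, 0, 0, 0, 0, 1, 1], [0, 0, 0, 0, 1, 0, 1, 0, 0, 0, 0, 0, 1, 0, 0, 0, 0, 1], [0, 0, 0, 0, 0, 0, 2, 0, 0, 0, 0, 0, 1, 0, 0, 0, 0, 1], [0, 0, 0, 0, 0, 0, 1, 0, 0, 0, 0, 0, 0, 0, 0, 0, 1, 1], [0, 0, 0, 0, 0, 0, 1, 0, 1, 0, 0, 0, 1, 0, 0, 0, 0, 0, 0, 0, 1, 0], [0, 0, 0, 0, 1, 0, 1, 0, 1, 0, 0, 0, 0, 0, 0, 0, 0, 0, 0, 1], [0, 0, 0, 0, 0, 0, 2, 0, 1, 0, 0, 0, 0, 0, 0, 0, 0, 0, 0, 1], [0, 0, 0, 0, 0, 0, 1, 0, 2, 1, 0, 0, 0, 0, 0, 0, 0, 0, 0, 0, 1, 0], [0, 0, 0, 0, 0, 0, 1, 0,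 0, 0, 0, 0, 0, 1, 0, 0, 0, 0, 0, 0, 1, 0], [0, 0, 0, 0, 0, 0, 0, 0, 0, 0, 0, 0, 0, 0, 0, 0, 0, 0, 1, 0, 1, 0], [0, 0, 0, 0, 0, 0, 0, 0, 0, 0, 0, 0, 0, 0, 0, 0, 0, 0, 0, 0, 0, 0, 0, 0, 0, 0, 0, 0, 1, 0], [0, 0, 0, 0, 1, 0, 0, 0, 0, 0, 0, 0, 0, 0, 0, 0, 0, 0, 0, 0, 0, 0, 0, 0, 0, 0, 1, 0], [0, 0, 1, 0]]) (by decide +kernel) e
  simp [polVal, monVal, vars, env] at h11
  clear e hev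
  have g0 : v 0 = 0 := by grind
  try simp [g0] at h1
  have g1 : v 1 = 0 := by grind
  try simp [g0, g1] at h2
  have g2 : v 2 = 0 := by grind
  try simp [g0, g1, g2] at h3
  have g3 : v 3 = 0 := by grind
  try simp [g0, g1, g2, g3] at h4
  have g4 : v 4 = 0 := by grind
  try simp [g0, g1, g2, g3, g4] at h5
  have g5 : v 5 = 0 := by grind
  try simp [g0, g1, g2, g3, g4, g5] at h6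
  have g6 : v 6 = 0 := by grind
  try simp [g0, g1, g2, g3, g4, g5, g6] at h7
  have g7 : v 7 = 0 := by grind
  try simp [g0, g1, g2, g3, g4, g5, g6, g7] at h8
  have g8 : v 8 = 0 := by grind
  try simp [g0, g1, g2, g3, g4, g5, g6, g7, g8] at h9
  have g9 : v 9 = 0 := by grind
  try simp [g0, g1, g2, g3, g4, g5, g6, g7, g8, g9] at h10
  have g10 : v 10 = b6 := by grind
  try simp [g0, g1, g2, g3, g4, g5, g6, g7, g8, g9, g10] at h11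
  have g11 : v 11 = 0 := by grind
  refine Good.of_rel hrel ?_
  rw [E_short [10] (by intro i hi hS; interval_cases i <;> simp_all)]
  exact good_single40 hσ he _

theorem exists_root (y : K) (hy : y ≠ 0) : ∃ a : K, a ^ 2 * φ a = y := by
  have hφφ := phi_phi he
  let f : Kˣ → Kˣ := fun a => a ^ 2 * Units.map (frob K m : K →* K) a
  have hinj : Function.Injective f := by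
    intro a b hab
    have e : (a : K) ^ 2 * φ a = (b : K) ^ 2 * φ b := by simpa [f] using congrArg Units.val hab
    set x := (a : K) / b with hxdef
    have hb0 : (b : K) ≠ 0 := b.ne_zero
    have hx : x ^ 2 * φ x = 1 := by
      rw [hxdef, map_div₀, div_pow, div_mul_div_comm, e, div_self]
      exact mul_ne_zero (pow_ne_zero _ hb0) ((map_ne_zero _).2 hb0)
    have hx' : φ x ^ 2 * x ^ 2 = 1 := by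
      have := congrArg φ hx
      rwa [map_mul, map_pow, hφφ, map_one] at this
    have hφ1 : φ x = 1 := by
      have h1 : φ x * (φ x * x ^ 2) = 1 := by rw [← hx']; ring
      rwa [mul_comm (φ x) (x ^ 2), hx, mul_one] at h1
    have hx1 : x = 1 := (frob K m).injective (by rw [hφ1, map_one])
    exact Units.ext ((div_eq_one_iff_eq hb0).1 hx1)
  obtain ⟨a, ha⟩ := (hinj.bijective_of_finite).2 (Units.mk0 y hy)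
  exact ⟨a, by simpa [f] using congrArg Units.val ha⟩

/-- The middle case with a component at the second centre. -/
theorem good_centre (b2 p3 p5 b6 b4 : K) (hne : b2 ≠ 0) :
    Good m (Ys φ [(36, b2), (38, p3), (39, p5), (40, b6), (44, b4)]) := by
    have hφφ := phi_phi he
    set a := p3 / b2 with ha
    set b := (p5 + a * φ a * b2 + φ a * p3) / b2 with hb
    obtain ⟨w, hrel, hev⟩ := conjugate hσ he (Lw := [(25, a), (28, b)])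
      (Lu := [(36, b2), (38, p3), (39, p5), (40, b6), (44, b4)]) (by simp [keys]) (by simp [keys])
    refine Good.of_rel hrel ?_
    have e := bridge (n := 7) [b2, p3, p5, b6, b4, a, b] rfl w [(25, 5), (28, 6)]
      [(36, 0), (38, 1), (39, 2), (40, 3), (44, 4)] (by decide) (by decide) hev
    have h0 := eqn (r := 33) (P := [[0, 0, 0, 0, 0, 0, 0, 0, 0, 0, 0, 0, 0, 0, 1, 0]]) (by decide +kernel) e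
    simp [polVal, monVal, vars, env] at h0
    have h1 := eqn (r := 27) (P := [[0, 0, 0, 0, 0, 0, 0, 0, 0, 0, 0, 0, 0, 0, 0, 0, 1, 0]]) (by decide +kernel) e
    simp [polVal, monVal, vars, env] at h1
    have h2 := eqn (r := 34) (P := [[0, 0, 0, 0, 0, 0, 0, 0, 0, 0, 0, 0, 0, 0, 0, 0, 0, 0, 1, 0], [0, 0, 0, 0, 0, 0, 0, 0, 0, 0, 0, 0, 0, 0, 1, 0, 1, 0], [0, 0, 0, 0, 0, 0, 0, 0, 0, 0, 1, 0, 0, 0, 1, 0]]) (by decide +kernel) e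
    simp [polVal, monVal, vars, env] at h2
    have h3 := eqn (r := 28) (P := [[0, 0, 0, 0, 0, 0, 0, 0, 0, 0, 0, 1, 0, 0, 0, 0, 1, 0], [0, 0, 0, 0, 0, 0, 0, 0, 0, 0, 0, 0, 0, 0, 0, 0, 0, 0, 0, 0, 1, 0]]) (by decide +kernel) e
    simp [polVal, monVal, vars, env] at h3
    have h4 := eqn (r := 29) (P := [[0, 0, 0, 0, 0, 0, 0, 0, 0, 0, 0, 0, 0, 0, 0, 0, 1, 0, 0, 1], [0, 0, 0, 0, 0, 0, 0, 0, 0, 0, 0, 0, 0, 0, 0, 0, 0, 0, 0, 0, 0, 0, 1, 0]]) (by decide +kernel) e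
    simp [polVal, monVal, vars, env] at h4
    have h5 := eqn (r := 35) (P := [[0, 0, 0, 0, 0, 0, 0, 0, 0, 0, 0, 1, 0, 0, 0, 0, 0, 0, 1, 0], [0, 0, 0, 0, 0, 0, 0, 0, 0, 0, 0, 0, 0, 0, 0, 0, 0, 0, 0, 0, 0, 0, 0, 0, 1, 0], [0, 0, 0, 0, 0, 0, 0, 0, 0, 0, 0, 1, 0, 0, 1, 0, 1, 0], [0, 0, 0, 0, 0, 0, 0, 0, 0, 0, 0, 0, 0, 0, 1, 0, 0, 0, 0, 0, 1, 0], [0, 0, 0, 0, 0, 0, 0, 0, 0, 0, 0, 0, 1, 0, 1, 0]]) (by decide +kernel) e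
    simp [polVal, monVal, vars, env] at h5
    have h6 := eqn (r := 37) (P := [[0, 0, 0, 0, 0, 0, 0, 0, 0, 0, 0, 0, 0, 0, 0, 0, 0, 0, 1, 0, 1, 0], [0, 0, 0, 0, 0, 0, 0, 0, 0, 0, 1, 1, 0, 0, 0, 0, 0, 0, 1, 0], [0, 0, 0, 0, 0, 0, 0, 0, 0, 0, 0, 0, 1, 0, 0, 0, 0, 0, 1, 0], [0, 0, 0, 0, 0, 0, 0, 0, 0, 0, 1, 0, 0, 0, 0, 0, 0, 0, 0, 0, 0, 0, 0, 0, 1, 0], [0, 0, 0, 0, 0, 0, 0, 0, 0, 0, 0, 0, 0, 0, 1, 0, 1, 0, 0, 0, 1, 0], [0, 0, 0, 0, 0, 0, 0, 0, 0, 0, 1, 1, 0, 0, 1, 0, 1, 0], [0, 0, 0, 0, 0, 0, 0, 0, 0, 0, 0, 0, 1, 0, 1, 0, 1, 0], [0, 0, 0, 0, 0, 0, 0, 0, 0, 0, 0, 0, 0, 0, 1, 0, 2, 1], [0, 0, 0, 0, 0, 0, 0, 0, 0, 0, 0, 0, 0, 0, 1, 0, 0, 0, 0, 0, 0, 1], [0, 0, 0, 0, 0, 0, 0, 0, 0, 0, 0, 0, 0, 0, 0, 0, 0, 0, 0, 0, 0, 0, 0, 0, 0, 0, 1, 0], [0, 0,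 0, 0, 0, 0, 0, 0, 0, 0, 1, 0, 0, 0, 1, 0, 0, 0, 0, 0, 1, 0], [0, 0, 0, 0, 0, 0, 0, 0, 0, 0, 1, 0, 1, 0, 1, 0], [0, 0, 0, 0, 0, 0, 0, 0, 0, 0, 2, 1, 0, 0, 1, 0], [0, 0, 0, 0, 0, 0, 0, 0, 0, 0, 0, 0, 0, 1, 1, 0]]) (by decide +kernel) e
    simp [polVal, monVal, vars, env] at h6
    have h7 := eqn (r := 36) (P := [[0, 0, 0, 0, 0, 0, 0, 0, 0, 0, 0, 0, 0, 0, 1, 0, 1, 0, 0, 1], [0, 0, 0, 0, 0, 0, 0, 0, 0, 0, 0, 0, 0, 0, 1, 0, 0, 0, 0, 0, 0, 0, 1, 0], [0, 0, 0, 0, 0, 0, 0, 0, 0, 0, 0, 0, 0, 0, 0, 0, 0, 0, 0, 0, 0, 0, 0, 0, 0, 0, 0, 0, 1, 0], [1, 0]]) (by decide +kernel) e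
    simp [polVal, monVal, vars, env] at h7
    have h8 := eqn (r := 38) (P := [[0, 0, 0, 0, 0, 0, 0, 0, 0, 0, 1, 0, 0, 0, 1, 0, 1, 0, 0, 1], [0, 0, 0, 0, 0, 0, 0, 0, 0, 0, 0, 0, 0, 0, 0, 0, 0, 0, 1, 0, 0, 0, 1, 0], [0, 0, 0, 0, 0, 0, 0, 0, 0, 0, 0, 0, 0, 0, 1, 0, 1, 0, 0, 0, 0, 0, 1, 0], [0, 0, 0, 0, 0, 0, 0, 0, 0, 0, 1, 0, 0, 0, 1, 0, 0, 0, 0, 0, 0, 0, 1, 0], [0, 0, 0, 0, 0, 0, 0, 0, 0, 0, 0, 0, 0, 0, 1, 0, 0, 0, 0, 0, 0, 0, 0, 0, 0, 1], [0, 0, 0, 0, 0, 0, 0, 0, 0, 0, 0, 0, 0, 0, 0, 0, 0, 0, 0, 0, 0, 0, 0, 0, 0, 0, 0, 0, 0, 0, 1, 0], [0, 0, 0, 0, 0, 0, 0, 0, 0, 0, 1, 0, 0, 0, 0, 0, 0, 0, 0, 0, 0, 0, 0, 0, 0, 0, 0, 0, 1, 0], [0, 0, 1, 0]]) (by decide +kernel) e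
    simp [polVal, monVal, vars, env] at h8
    have h9 := eqn (r := 39) (P := [[0, 0, 0, 0, 0, 0, 0, 0, 0, 0, 0, 0, 0, 0, 1, 0, 1, 0, 0, 1, 1, 0], [0, 0, 0, 0, 0, 0, 0, 0, 0, 0, 0, 0, 1, 0, 1, 0, 1, 0, 0, 1], [0, 0, 0, 0, 0, 0, 0, 0, 0, 0, 0, 0, 0, 0, 1, 0, 2, 1, 0, 1], [0, 0, 0, 0, 0, 0, 0, 0, 0, 0, 0, 1, 0, 0, 0, 0, 0, 0, 1, 0, 0, 0, 1, 0], [0, 0, 0, 0, 0, 0, 0, 0, 0, 0, 0, 1, 0, 0, 1, 0, 1, 0, 0, 0, 0, 0, 1, 0], [0, 0, 0, 0, 0, 0, 0, 0, 0, 0, 0, 0, 0, 0, 1, 0, 0, 0, 0, 0, 1, 0, 1, 0], [0, 0, 0, 0, 0, 0, 0, 0, 0, 0, 0, 0, 1, 0, 1, 0, 0, 0, 0, 0, 0, 0, 1, 0], [0, 0, 0, 0, 0, 0, 0, 0, 0, 0, 0, 1, 0, 0, 1, 0, 0, 0, 0, 0, 0, 0, 0, 0, 0, 1], [0, 0, 0, 0, 0, 0, 0, 0, 0, 0, 0, 0, 1, 0, 0, 0, 0, 0, 0, 0, 0, 0, 0, 0, 0, 0, 0, 0, 1, 0], [0, 0, 0,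 0, 0, 0, 0, 0, 0, 0, 0, 0, 0, 0, 1, 0, 0, 0, 0, 0, 0, 0, 0, 0, 0, 0, 0, 1], [0, 0, 0, 0, 0, 0, 0, 0, 0, 0, 0, 0, 0, 0, 0, 0, 0, 0, 0, 0, 0, 0, 0, 0, 0, 0, 0, 0, 0, 0, 0, 0, 1, 0], [0, 0, 0, 0, 0, 0, 0, 0, 0, 0, 0, 1, 0, 0, 0, 0, 0, 0, 0, 0, 0, 0, 0, 0, 0, 0, 0, 0, 0, 0, 1, 0], [0, 0, 0, 0, 1, 0]]) (by decide +kernel) e
    simp [polVal, monVal, vars, env] at h9
    have h10 := eqn (r := 40) (P := [[0, 0, 0, 0, 0, 0, 0, 0, 0, 0, 0, 0, 0, 0, 1, 0, 1, 0, 0, 1, 0, 1], [0, 0, 0, 0, 0, 0, 0, 0, 0, 0, 1, 0, 0, 0, 1, 0, 1, 0, 0, 1, 1, 0], [0, 0, 0, 0, 0, 0, 0, 0, 0, 0, 1, 0, 1, 0, 1, 0, 1, 0, 0, 1], [0, 0, 0, 0, 0, 0, 0, 0, 0, 0, 2, 1, 0, 0, 1, 0, 1, 0, 0, 1], [0, 0, 0, 0, 0, 0, 0, 0, 0, 0, 0, 0, 0, 1, 1, 0, 1, 0, 0, 1], [0, 0, 0, 0, 0, 0, 0, 0,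 0, 0, 1, 0, 0, 0, 1, 0, 2, 1, 0, 1], [0, 0, 0, 0, 0, 0, 0, 0, 0, 0, 0, 0, 0, 0, 0, 0, 0, 0, 1, 0, 1, 0, 1, 0], [0, 0, 0, 0, 0, 0, 0, 0, 0, 0, 1, 1, 0, 0, 0, 0, 0, 0, 1, 0, 0, 0, 1, 0], [0, 0, 0, 0, 0, 0, 0, 0, 0, 0, 0, 0, 1, 0, 0, 0, 0, 0, 1, 0, 0, 0, 1, 0], [0, 0, 0, 0, 0, 0, 0, 0, 0, 0, 0, 0, 0, 0, 0, 0, 0, 0, 1, 0, 0, 0, 0, 0, 0, 0, 0, 1], [0, 0, 0, 0, 0, 0, 0, 0, 0, 0, 0, 0, 0, 0, 1, 0, 1, 0, 0, 0, 1, 0, 1, 0], [0, 0, 0, 0, 0, 0, 0, 0, 0, 0, 1, 1, 0, 0, 1, 0, 1, 0, 0, 0, 0, 0, 1, 0], [0, 0, 0, 0, 0, 0, 0, 0, 0, 0, 0, 0, 1, 0, 1, 0, 1, 0, 0, 0, 0, 0, 1, 0], [0, 0, 0, 0, 0, 0, 0, 0, 0, 0, 0, 0, 0, 0, 1, 0, 2, 1, 0, 0, 0, 0, 1, 0], [0, 0, 0, 0, 0, 0, 0, 0, 0, 0, 0, 0, 0, 0, 1, 0, 0, 0, 0, 0, 0, 1, 1, 0], [0, 0, 0, 0, 0, 0, 0, 0, 0, 0, 1,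 0, 0, 0, 1, 0, 0, 0, 0, 0, 1, 0, 1, 0], [0, 0, 0, 0, 0, 0, 0, 0, 0, 0, 1, 0, 1, 0, 1, 0, 0, 0, 0, 0, 0, 0, 1, 0], [0, 0, 0, 0, 0, 0, 0, 0, 0, 0, 2, 1, 0, 0, 1, 0, 0, 0, 0, 0, 0, 0, 1, 0], [0, 0, 0, 0, 0, 0, 0, 0, 0, 0, 0, 0, 0, 1, 1, 0, 0, 0, 0, 0, 0, 0, 1, 0], [0, 0, 0, 0, 0, 0, 0, 0, 0, 0, 0, 0, 0, 0, 1, 0, 0, 0, 0, 0, 1, 0, 0, 0, 0, 1], [0, 0, 0, 0, 0, 0, 0, 0, 0, 0, 1, 1, 0, 0, 1, 0, 0, 0, 0, 0, 0, 0, 0, 0, 0, 1], [0, 0, 0, 0, 0, 0, 0, 0, 0, 0, 0, 0, 1, 0, 1, 0, 0, 0, 0, 0, 0, 0, 0, 0, 0, 1], [0, 0, 0, 0, 0, 0, 0, 0, 0, 0, 0, 0, 0, 0, 1, 0, 1, 0, 0, 0, 0, 0, 0, 0, 0, 0, 0, 1], [0, 0, 0, 0, 0, 0, 0, 0, 0, 0, 0, 0, 0, 1, 0, 0, 0, 0, 0, 0, 0, 0, 0, 0, 0, 0, 0, 0, 1, 0], [0, 0, 0, 0, 0, 0, 0, 0, 0, 0, 0, 0, 0, 0, 0, 0, 0, 0, 0, 0, 0, 0, 0,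 0, 0, 0, 0, 0, 0, 0, 0, 0, 0, 0, 1, 0], [0, 0, 0, 0, 0, 0, 0, 0, 0, 0, 1, 0, 1, 0, 0, 0, 0, 0, 0, 0, 0, 0, 0, 0, 0, 0, 0, 0, 1, 0], [0, 0, 0, 0, 0, 0, 0, 0, 0, 0, 1, 0, 0, 0, 1, 0, 0, 0, 0, 0, 0, 0, 0, 0, 0, 0, 0, 1], [0, 0, 0, 0, 0, 0, 0, 0, 0, 0, 1, 0, 0, 0, 0, 0, 0, 0, 0, 0, 0, 0, 0, 0, 0, 0, 0, 0, 0, 0, 0, 0, 1, 0], [0, 0, 0, 0, 0, 0, 0, 0, 0, 0, 1, 1, 0, 0, 0, 0, 0, 0, 0, 0, 0, 0, 0, 0, 0, 0, 0, 0, 0, 0, 1, 0], [0, 0, 0, 0, 0, 0, 0, 0, 0, 0, 2, 1, 0, 0, 0, 0, 0, 0, 0, 0, 0, 0, 0, 0, 0, 0, 0, 0, 1, 0], [0, 0, 0, 0, 0, 0, 1, 0], [0, 0, 0, 0, 0, 0, 0, 0, 0, 0, 0, 0, 1, 0, 0, 0, 0, 0, 0, 0, 0, 0, 0, 0, 0, 0, 0, 0, 0, 0, 1, 0]]) (by decide +kernel) e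
    simp [polVal, monVal, vars, env] at h10
    have h11 := eqn (r := 44) (P := [[0, 0, 0, 0, 0, 0, 0, 0, 0, 0, 1, 0, 0, 0, 1, 0, 1, 0, 0, 1, 0, 0, 0, 0, 1, 0], [0, 0, 0, 0, 0, 0, 0, 0, 0, 0, 0, 0, 0, 0, 2, 0, 1, 0, 0, 1, 0, 1], [0, 0, 0, 0, 0, 0, 0, 0, 0, 0, 1, 0, 0, 0, 2, 0, 1, 0, 0, 1, 1, 0], [0, 0, 0, 0, 0, 0, 0, 0, 0, 0, 1, 0, 1, 0, 2, 0, 1, 0, 0, 1], [0, 0, 0, 0, 0, 0, 0, 0, 0, 0, 2, 1, 0, 0, 2, 0, 1, 0, 0, 1], [0, 0, 0, 0, 0, 0, 0, 0, 0, 0, 0, 0, 0, 1, 2, 0, 1, 0, 0, 1], [0, 0, 0, 0, 0, 0, 0, 0, 0, 0, 1, 0, 0, 0, 2, 0, 2, 1, 0, 1], [0, 0, 0, 0, 0, 0, 0, 0, 0, 0, 0, 0, 0, 0, 0, 0, 0, 0, 1, 0, 0, 0, 1, 0, 1, 0], [0, 0, 0, 0, 0, 0, 0, 0, 0, 0, 0, 0, 0, 0, 1, 0, 0, 0, 1, 0, 1, 0, 1, 0], [0, 0, 0, 0, 0, 0, 0, 0, 0, 0, 1, 1, 0, 0, 1, 0,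 0, 0, 1, 0, 0, 0, 1, 0], [0, 0, 0, 0, 0, 0, 0, 0, 0, 0, 0, 0, 1, 0, 1, 0, 0, 0, 1, 0, 0, 0, 1, 0], [0, 0, 0, 0, 0, 0, 0, 0, 0, 0, 0, 0, 0, 0, 0, 0, 0, 0, 1, 0, 1, 0, 0, 0, 0, 0, 0, 0, 1, 0], [0, 0, 0, 0, 0, 0, 0, 0, 0, 0, 0, 0, 1, 0, 0, 0, 0, 0, 1, 0, 0, 0, 0, 0, 0, 0, 0, 0, 1, 0], [0, 0, 0, 0, 0, 0, 0, 0, 0, 0, 0, 0, 0, 0, 1, 0, 0, 0, 1, 0, 0, 0, 0, 0, 0, 0, 0, 1], [0, 0, 0, 0, 0, 0, 0, 0, 0, 0, 1, 1, 0, 0, 0, 0, 0, 0, 1, 0, 0, 0, 0, 0, 0, 0, 0, 0, 1, 0], [0, 0, 0, 0, 0, 0, 0, 0, 0, 0, 0, 0, 0, 0, 1, 0, 1, 0, 1, 1, 1, 0], [0, 0, 0, 0, 0, 0, 0, 0, 0, 0, 1, 1, 0, 0, 1, 0, 1, 0, 1, 1], [0, 0, 0, 0, 0, 0, 0, 0, 0, 0, 0, 0, 1, 0, 1, 0, 1, 0, 1, 1], [0, 0, 0, 0, 0, 0, 0, 0, 0, 0, 0, 0, 0, 0, 1, 0, 2, 1, 1, 1], [0, 0, 0, 0, 0, 0, 0, 0, 0, 0, 0,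 0, 0, 0, 0, 0, 0, 0, 2, 1, 1, 0], [0, 0, 0, 0, 0, 0, 0, 0, 0, 0, 1, 1, 0, 0, 0, 0, 0, 0, 2, 1], [0, 0, 0, 0, 0, 0, 0, 0, 0, 0, 0, 0, 1, 0, 0, 0, 0, 0, 2, 1], [0, 0, 0, 0, 0, 0, 0, 0, 0, 0, 0, 0, 0, 0, 1, 0, 1, 0, 0, 0, 0, 0, 1, 0, 1, 0], [0, 0, 0, 0, 0, 0, 0, 0, 0, 0, 1, 0, 0, 0, 1, 0, 0, 0, 0, 0, 0, 0, 1, 0, 1, 0], [0, 0, 0, 0, 0, 0, 0, 0, 0, 0, 0, 0, 0, 0, 2, 0, 1, 0, 0, 0, 1, 0, 1, 0], [0, 0, 0, 0, 0, 0, 0, 0, 0, 0, 1, 1, 0, 0, 2, 0, 1, 0, 0, 0, 0, 0, 1, 0], [0, 0, 0, 0, 0, 0, 0, 0, 0, 0, 0, 0, 1, 0, 2, 0, 1, 0, 0, 0, 0, 0, 1, 0], [0, 0, 0, 0, 0, 0, 0, 0, 0, 0, 0, 0, 0, 0, 2, 0, 2, 1, 0, 0, 0, 0, 1, 0], [0, 0, 0, 0, 0, 0, 0, 0, 0, 0, 0, 0, 0, 0, 2, 0, 0, 0, 0, 0, 0, 1, 1, 0], [0, 0, 0, 0, 0, 0, 0, 0, 0, 0, 1, 0, 0, 0, 2, 0, 0, 0, 0, 0,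 1, 0, 1, 0], [0, 0, 0, 0, 0, 0, 0, 0, 0, 0, 1, 0, 1, 0, 2, 0, 0, 0, 0, 0, 0, 0, 1, 0], [0, 0, 0, 0, 0, 0, 0, 0, 0, 0, 2, 1, 0, 0, 2, 0, 0, 0, 0, 0, 0, 0, 1, 0], [0, 0, 0, 0, 0, 0, 0, 0, 0, 0, 0, 0, 0, 1, 2, 0, 0, 0, 0, 0, 0, 0, 1, 0], [0, 0, 0, 0, 0, 0, 0, 0, 0, 0, 0, 0, 0, 0, 0, 0, 0, 0, 0, 0, 0, 0, 1, 1], [0, 0, 0, 0, 0, 0, 0, 0, 0, 0, 0, 0, 0, 0, 2, 0, 0, 0, 0, 0, 1, 0, 0, 0, 0, 1], [0, 0, 0, 0, 0, 0, 0, 0, 0, 0, 1, 1, 0, 0, 2, 0, 0, 0, 0, 0, 0, 0, 0, 0, 0, 1], [0, 0, 0, 0, 0, 0, 0, 0, 0, 0, 0, 0, 1, 0, 2, 0, 0, 0, 0, 0, 0, 0, 0, 0, 0, 1], [0, 0, 0, 0, 0, 0, 0, 0, 0, 0, 1, 0, 0, 0, 0, 0, 0, 0, 0, 0, 0, 0, 0, 0, 1, 0, 0, 0, 1, 0], [0, 0, 0, 0, 0, 0, 0, 0, 0, 0, 0, 0, 0, 0, 1, 0, 0, 0, 0, 0, 0, 0, 0, 0, 1, 1], [0, 0, 0, 0, 0, 0, 0, 0, 0,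 0, 0, 0, 0, 0, 1, 0, 1, 0, 0, 0, 1, 0, 0, 0, 0, 0, 0, 0, 1, 0], [0, 0, 0, 0, 0, 0, 0, 0, 0, 0, 0, 0, 1, 0, 1, 0, 1, 0, 0, 0, 0, 0, 0, 0, 0, 0, 0, 0, 1, 0], [0, 0, 0, 0, 0, 0, 0, 0, 0, 0, 0, 0, 0, 0, 2, 0, 1, 0, 0, 0, 0, 0, 0, 0, 0, 0, 0, 1], [0, 0, 0, 0, 0, 0, 0, 0, 0, 0, 1, 1, 0, 0, 1, 0, 1, 0, 0, 0, 0, 0, 0, 0, 0, 0, 0, 0, 1, 0], [0, 0, 0, 0, 0, 0, 0, 0, 0, 0, 0, 0, 0, 0, 1, 0, 2, 1, 0, 0, 0, 0, 0, 0, 0, 0, 0, 0, 1, 0], [0, 0, 0, 0, 0, 0, 0, 0, 0, 0, 0, 0, 1, 0, 0, 0, 0, 0, 0, 0, 0, 0, 0, 0, 0, 0, 0, 0, 0, 1], [0, 0, 0, 0, 0, 0, 0, 0, 0, 0, 0, 0, 0, 0, 1, 0, 0, 0, 0, 0, 0, 1, 0, 0, 0, 0, 0, 0, 1, 0], [0, 0, 0, 0, 0, 0, 0, 0, 0, 0, 0, 0, 0, 0, 0, 0, 0, 0, 0, 0, 0, 0, 0, 0, 0, 0, 1, 0, 1, 0], [0, 0, 0, 0, 0, 0, 0, 0, 0, 0, 0, 0, 0, 1, 1,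 0, 0, 0, 0, 0, 0, 0, 0, 0, 0, 0, 0, 0, 1, 0], [0, 0, 0, 0, 0, 0, 0, 0, 0, 0, 0, 0, 0, 0, 0, 0, 0, 0, 0, 0, 0, 0, 0, 0, 0, 0, 0, 0, 0, 0, 0, 0, 0, 0, 0, 0, 1, 0], [0, 0, 0, 0, 0, 0, 0, 0, 0, 0, 1, 0, 0, 0, 1, 0, 0, 0, 0, 0, 1, 0, 0, 0, 0, 0, 0, 0, 1, 0], [0, 0, 0, 0, 0, 0, 0, 0, 0, 0, 1, 0, 1, 0, 1, 0, 0, 0, 0, 0, 0, 0, 0, 0, 0, 0, 0, 0, 1, 0], [0, 0, 0, 0, 0, 0, 0, 0, 0, 0, 1, 0, 0, 0, 2, 0, 0, 0, 0, 0, 0, 0, 0, 0, 0, 0, 0, 1], [0, 0, 0, 0, 0, 0, 0, 0, 0, 0, 1, 0, 0, 0, 0, 0, 0, 0, 0, 0, 0, 0, 0, 0, 0, 0, 0, 0, 0, 0, 0, 1], [0, 0, 0, 0, 0, 0, 0, 0, 0, 0, 1, 1, 0, 0, 0, 0, 0, 0, 0, 0, 0, 0, 0, 0, 0, 0, 0, 0, 0, 1], [0, 0, 0, 0, 0, 0, 0, 0, 0, 0, 2, 1, 0, 0, 1, 0, 0, 0, 0, 0, 0, 0, 0, 0, 0, 0, 0, 0, 1, 0], [0, 0, 0, 0, 0, 0, 0, 0, 1, 0]]) (by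 decide +kernel) e
    simp [polVal, monVal, vars, env] at h11
    clear e hev hrel
    have g0 : w 0 = 0 := by grind
    try simp [g0] at h1
    have g1 : w 1 = 0 := by grind
    try simp [g0, g1] at h2
    have g2 : w 2 = 0 := by grind
    try simp [g0, g1, g2] at h3
    have g3 : w 3 = 0 := by grind
    try simp [g0, g1, g2, g3] at h4
    have g4 : w 4 = 0 := by grind
    try simp [g0, g1, g2, g3, g4] at h5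
    have g5 : w 5 = 0 := by grind
    try simp [g0, g1, g2, g3, g4, g5] at h6
    have g6 : w 6 = 0 := by grind
    try simp [g0, g1, g2, g3, g4, g5, g6] at h7
    have g7 : w 7 = b2 := by grind
    try simp [g0, g1, g2, g3, g4, g5, g6, g7] at h8
    have g8 : w 8 = 0 := by grind
    try simp [g0, g1, g2, g3, g4, g5, g6, g7, g8] at h9
    have g9 : w 9 = 0 := by grind
    rw [E_short [7, 10, 11] (by intro i hi hS; interval_cases i <;> simp_all)]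
    by_cases h10 : w 10 = 0
    · rw [show (((EL 0).filter fun p => decide (p.2 ∈ [7, 10, 11])).map fun p => (p.1, w p.2)) =
        [(36, w 7), (40, w 10), (44, w 11)] from rfl]
      refine Good.of_rel (rel_Q (by simp)) ?_
      have := good_four hσ he 0 0 (w 7) (w 11)
      simpa [Ys_cons, Ys_nil, Y_zero, h10, piQ] using this
    obtain ⟨a', ha'⟩ := exists_root hσ he (w 10 / b2) (div_ne_zero h10 hne)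
    obtain ⟨u, hrel', hev'⟩ := conjugate hσ he (Lw := [(25, a')])
      (Lu := [(36, w 7), (40, w 10), (44, w 11)]) (by simp [keys]) (by simp [keys])
    refine Good.of_rel hrel' ?_
    have e := bridge (n := 4) [w 7, w 10, w 11, a'] rfl u [(25, 3)] [(36, 0), (40, 1), (44, 2)]
      (by decide) (by decide) hev'
    have h0 := eqn (r := 33) (P := [[0, 0, 0, 0, 0, 0, 0, 0, 1, 0]]) (by decide +kernel) e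
    simp [polVal, monVal, vars, env] at h0
    have h1 := eqn (r := 27) (P := [[0, 0, 0, 0, 0, 0, 0, 0, 0, 0, 1, 0]]) (by decide +kernel) e
    simp [polVal, monVal, vars, env] at h1
    have h2 := eqn (r := 34) (P := [[0, 0, 0, 0, 0, 0, 0, 0, 0, 0, 0, 0, 1, 0], [0, 0, 0, 0, 0, 0, 0, 0, 1, 0, 1, 0], [0, 0, 0, 0, 0, 0, 1, 0, 1, 0]]) (by decide +kernel) e
    simp [polVal, monVal, vars, env] at h2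
    have h3 := eqn (r := 28) (P := [[0, 0, 0, 0, 0, 0, 0, 1, 0, 0, 1, 0], [0, 0, 0, 0, 0, 0, 0, 0, 0, 0, 0, 0, 0, 0, 1, 0]]) (by decide +kernel) e
    simp [polVal, monVal, vars, env] at h3
    have h4 := eqn (r := 29) (P := [[0, 0, 0, 0, 0, 0, 0, 0, 0, 0, 1, 0, 0, 1], [0, 0, 0, 0, 0, 0, 0, 0, 0, 0, 0, 0, 0, 0, 0, 0, 1, 0]]) (by decide +kernel) e
    simp [polVal, monVal, vars, env] at h4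
    have h5 := eqn (r := 35) (P := [[0, 0, 0, 0, 0, 0, 0, 1, 0, 0, 0, 0, 1, 0], [0, 0, 0, 0, 0, 0, 0, 0, 0, 0, 0, 0, 0, 0, 0, 0, 0, 0, 1, 0], [0, 0, 0, 0, 0, 0, 0, 1, 1, 0, 1, 0], [0, 0, 0, 0, 0, 0, 0, 0, 1, 0, 0, 0, 0, 0, 1, 0]]) (by decide +kernel) e
    simp [polVal, monVal, vars, env] at h5
    have h6 := eqn (r := 37) (P := [[0, 0, 0, 0, 0, 0, 0, 0, 0, 0, 0, 0, 1, 0, 1, 0], [0, 0, 0, 0, 0, 0, 1, 1, 0, 0, 0, 0, 1, 0], [0, 0, 0, 0, 0, 0, 1, 0, 0, 0, 0, 0, 0, 0, 0, 0, 0, 0, 1, 0], [0, 0, 0, 0, 0, 0, 0, 0, 1, 0, 1, 0, 0, 0, 1, 0], [0, 0, 0, 0, 0, 0, 1, 1, 1, 0, 1, 0], [0, 0, 0, 0, 0, 0, 0, 0, 1, 0, 2, 1], [0, 0, 0, 0, 0, 0, 0, 0, 1, 0, 0, 0, 0, 0, 0, 1], [0, 0, 0, 0, 0, 0, 0, 0, 0, 0, 0, 0, 0, 0, 0, 0, 0, 0, 0, 0, 1, 0], [0, 0, 0, 0, 0,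 0, 1, 0, 1, 0, 0, 0, 0, 0, 1, 0], [0, 0, 0, 0, 0, 0, 2, 1, 1, 0]]) (by decide +kernel) e
    simp [polVal, monVal, vars, env] at h6
    have h7 := eqn (r := 36) (P := [[0, 0, 0, 0, 0, 0, 0, 0, 1, 0, 1, 0, 0, 1], [0, 0, 0, 0, 0, 0, 0, 0, 1, 0, 0, 0, 0, 0, 0, 0, 1, 0], [0, 0, 0, 0, 0, 0, 0, 0, 0, 0, 0, 0, 0, 0, 0, 0, 0, 0, 0, 0, 0, 0, 1, 0], [1, 0]]) (by decide +kernel) e
    simp [polVal, monVal, vars, env] at h7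
    have h8 := eqn (r := 38) (P := [[0, 0, 0, 0, 0, 0, 1, 0, 1, 0, 1, 0, 0, 1], [0, 0, 0, 0, 0, 0, 0, 0, 0, 0, 0, 0, 1, 0, 0, 0, 1, 0], [0, 0, 0, 0, 0, 0, 0, 0, 1, 0, 1, 0, 0, 0, 0, 0, 1, 0], [0, 0, 0, 0, 0, 0, 1, 0, 1, 0, 0, 0, 0, 0, 0, 0, 1, 0], [0, 0, 0, 0, 0, 0, 0, 0, 1, 0, 0, 0, 0, 0, 0, 0, 0, 0, 0, 1], [0, 0, 0, 0, 0, 0, 0, 0, 0, 0, 0, 0, 0, 0, 0, 0, 0, 0, 0, 0, 0, 0, 0, 0, 1, 0], [0, 0, 0, 0, 0, 0, 1, 0, 0, 0, 0, 0, 0, 0, 0, 0, 0, 0, 0, 0, 0, 0, 1, 0]]) (by decide +kernel) e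
    simp [polVal, monVal, vars, env] at h8
    have h9 := eqn (r := 39) (P := [[0, 0, 0, 0, 0, 0, 0, 0, 1, 0, 1, 0, 0, 1, 1, 0], [0, 0, 0, 0, 0, 0, 0, 0, 1, 0, 2, 1, 0, 1], [0, 0, 0, 0, 0, 0, 0, 1, 0, 0, 0, 0, 1, 0, 0, 0, 1, 0], [0, 0, 0, 0, 0, 0, 0, 1, 1, 0, 1, 0, 0, 0, 0, 0, 1, 0], [0, 0, 0, 0, 0, 0, 0, 0, 1, 0, 0, 0, 0, 0, 1, 0, 1, 0], [0, 0, 0, 0, 0, 0, 0, 1, 1, 0, 0, 0, 0, 0, 0, 0, 0, 0, 0, 1], [0, 0, 0, 0, 0, 0, 0, 0, 1, 0, 0, 0, 0, 0, 0, 0, 0, 0, 0, 0, 0, 1], [0, 0, 0, 0, 0, 0, 0, 0, 0, 0, 0, 0, 0, 0, 0, 0, 0, 0, 0, 0, 0, 0, 0, 0, 0, 0, 1, 0], [0, 0, 0, 0, 0, 0, 0, 1, 0, 0, 0, 0, 0, 0, 0, 0, 0, 0, 0, 0, 0, 0, 0, 0, 1, 0]]) (by decide +kernel) e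
    simp [polVal, monVal, vars, env] at h9
    have h10 := eqn (r := 40) (P := [[0, 0, 0, 0, 0, 0, 0, 0, 1, 0, 1, 0, 0, 1, 0, 1], [0, 0, 0, 0, 0, 0, 1, 0, 1, 0, 1, 0, 0, 1, 1, 0], [0, 0, 0, 0, 0, 0, 2, 1, 1, 0, 1, 0, 0, 1], [0, 0, 0, 0, 0, 0, 1, 0, 1, 0, 2, 1, 0, 1], [0, 0, 0, 0, 0, 0, 0, 0, 0, 0, 0, 0, 1, 0, 1, 0, 1, 0], [0, 0, 0, 0, 0, 0, 1, 1, 0, 0, 0, 0, 1, 0, 0, 0, 1, 0], [0, 0, 0, 0, 0, 0, 0, 0, 0, 0, 0, 0, 1, 0, 0, 0, 0, 0, 0, 0, 0, 1], [0, 0, 0, 0, 0, 0, 0, 0, 1, 0, 1, 0, 0, 0, 1, 0, 1, 0], [0, 0, 0, 0, 0, 0, 1, 1, 1, 0, 1, 0, 0, 0, 0, 0, 1, 0], [0, 0, 0, 0, 0, 0, 0, 0, 1, 0, 2, 1, 0, 0, 0, 0, 1, 0], [0, 0, 0, 0, 0, 0, 0, 0, 1, 0, 0, 0, 0, 0, 0, 1, 1, 0], [0, 0, 0, 0, 0, 0, 1, 0, 1, 0, 0, 0, 0, 0, 1, 0, 1, 0], [0, 0, 0, 0, 0, 0, 2,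 1, 1, 0, 0, 0, 0, 0, 0, 0, 1, 0], [0, 0, 0, 0, 0, 0, 0, 0, 1, 0, 0, 0, 0, 0, 1, 0, 0, 0, 0, 1], [0, 0, 0, 0, 0, 0, 1, 1, 1, 0, 0, 0, 0, 0, 0, 0, 0, 0, 0, 1], [0, 0, 0, 0, 0, 0, 0, 0, 1, 0, 1, 0, 0, 0, 0, 0, 0, 0, 0, 0, 0, 1], [0, 0, 0, 0, 0, 0, 0, 0, 0, 0, 0, 0, 0, 0, 0, 0, 0, 0, 0, 0, 0, 0, 0, 0, 0, 0, 0, 0, 1, 0], [0, 0, 0, 0, 0, 0, 1, 0, 1, 0, 0, 0, 0, 0, 0, 0, 0, 0, 0, 0, 0, 1], [0, 0, 0, 0, 0, 0, 1, 0, 0, 0, 0, 0, 0, 0, 0, 0, 0, 0, 0, 0, 0, 0, 0, 0, 0, 0, 1, 0], [0, 0, 0, 0, 0, 0, 1, 1, 0, 0, 0, 0, 0, 0, 0, 0, 0, 0, 0, 0, 0, 0, 0, 0, 1, 0], [0, 0, 0, 0, 0, 0, 2, 1, 0, 0, 0, 0, 0, 0, 0, 0, 0, 0, 0, 0, 0, 0, 1, 0], [0, 0, 1, 0]]) (by decide +kernel) e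
    simp [polVal, monVal, vars, env] at h10
    have h11 := eqn (r := 44) (P := [[0, 0, 0, 0, 0, 0, 1, 0, 1, 0, 1, 0, 0, 1, 0, 0, 0, 0, 1, 0], [0, 0, 0, 0, 0, 0, 0, 0, 2, 0, 1, 0, 0, 1, 0, 1], [0, 0, 0, 0, 0, 0, 1, 0, 2, 0, 1, 0, 0, 1, 1, 0], [0, 0, 0, 0, 0, 0, 2, 1, 2, 0, 1, 0, 0, 1], [0, 0, 0, 0, 0, 0, 1, 0, 2, 0, 2, 1, 0, 1], [0, 0, 0, 0, 0, 0, 0, 0, 0, 0, 0, 0, 1, 0, 0, 0, 1, 0, 1, 0], [0, 0, 0, 0, 0, 0, 0, 0, 1, 0, 0, 0, 1, 0, 1, 0, 1, 0], [0, 0, 0, 0, 0, 0, 1, 1, 1, 0, 0, 0, 1, 0, 0, 0, 1, 0], [0, 0, 0, 0, 0, 0, 0, 0, 0, 0, 0, 0, 1, 0, 1, 0, 0, 0, 0, 0, 0, 0, 1, 0], [0, 0, 0, 0, 0, 0, 0, 0, 1, 0, 0, 0, 1, 0, 0, 0, 0, 0, 0, 0, 0, 1], [0, 0, 0, 0, 0, 0, 1, 1, 0, 0, 0, 0, 1, 0, 0, 0, 0, 0, 0, 0, 0, 0, 1, 0], [0, 0, 0, 0, 0, 0, 0, 0, 1,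 0, 1, 0, 1, 1, 1, 0], [0, 0, 0, 0, 0, 0, 1, 1, 1, 0, 1, 0, 1, 1], [0, 0, 0, 0, 0, 0, 0, 0, 1, 0, 2, 1, 1, 1], [0, 0, 0, 0, 0, 0, 0, 0, 0, 0, 0, 0, 2, 1, 1, 0], [0, 0, 0, 0, 0, 0, 1, 1, 0, 0, 0, 0, 2, 1], [0, 0, 0, 0, 0, 0, 0, 0, 1, 0, 1, 0, 0, 0, 0, 0, 1, 0, 1, 0], [0, 0, 0, 0, 0, 0, 1, 0, 1, 0, 0, 0, 0, 0, 0, 0, 1, 0, 1, 0], [0, 0, 0, 0, 0, 0, 0, 0, 2, 0, 1, 0, 0, 0, 1, 0, 1, 0], [0, 0, 0, 0, 0, 0, 1, 1, 2, 0, 1, 0, 0, 0, 0, 0, 1, 0], [0, 0, 0, 0, 0, 0, 0, 0, 2, 0, 2, 1, 0, 0, 0, 0, 1, 0], [0, 0, 0, 0, 0, 0, 0, 0, 2, 0, 0, 0, 0, 0, 0, 1, 1, 0], [0, 0, 0, 0, 0, 0, 1, 0, 2, 0, 0, 0, 0, 0, 1, 0, 1, 0], [0, 0, 0, 0, 0, 0, 2, 1, 2, 0, 0, 0, 0, 0, 0, 0, 1, 0], [0, 0, 0, 0, 0, 0, 0, 0, 0, 0, 0, 0, 0, 0, 0, 0, 1, 1], [0, 0, 0, 0, 0, 0, 0, 0, 2,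 0, 0, 0, 0, 0, 1, 0, 0, 0, 0, 1], [0, 0, 0, 0, 0, 0, 1, 1, 2, 0, 0, 0, 0, 0, 0, 0, 0, 0, 0, 1], [0, 0, 0, 0, 0, 0, 1, 0, 0, 0, 0, 0, 0, 0, 0, 0, 0, 0, 1, 0, 0, 0, 1, 0], [0, 0, 0, 0, 0, 0, 0, 0, 1, 0, 0, 0, 0, 0, 0, 0, 0, 0, 1, 1], [0, 0, 0, 0, 0, 0, 0, 0, 1, 0, 1, 0, 0, 0, 1, 0, 0, 0, 0, 0, 0, 0, 1, 0], [0, 0, 0, 0, 0, 0, 0, 0, 2, 0, 1, 0, 0, 0, 0, 0, 0, 0, 0, 0, 0, 1], [0, 0, 0, 0, 0, 0, 1, 1, 1, 0, 1, 0, 0, 0, 0, 0, 0, 0, 0, 0, 0, 0, 1, 0], [0, 0, 0, 0, 0, 0, 0, 0, 1, 0, 2, 1, 0, 0, 0, 0, 0, 0, 0, 0, 0, 0, 1, 0], [0, 0, 0, 0, 0, 0, 0, 0, 1, 0, 0, 0, 0, 0, 0, 1, 0, 0, 0, 0, 0, 0, 1, 0], [0, 0, 0, 0, 0, 0, 0, 0, 0, 0, 0, 0, 0, 0, 0, 0, 0, 0, 0, 0, 1, 0, 1, 0], [0, 0, 0, 0, 0, 0, 0, 0, 0, 0, 0, 0, 0, 0, 0, 0, 0, 0, 0, 0, 0, 0, 0, 0, 0, 0,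 0, 0, 0, 0, 1, 0], [0, 0, 0, 0, 0, 0, 1, 0, 1, 0, 0, 0, 0, 0, 1, 0, 0, 0, 0, 0, 0, 0, 1, 0], [0, 0, 0, 0, 0, 0, 1, 0, 2, 0, 0, 0, 0, 0, 0, 0, 0, 0, 0, 0, 0, 1], [0, 0, 0, 0, 0, 0, 1, 0, 0, 0, 0, 0, 0, 0, 0, 0, 0, 0, 0, 0, 0, 0, 0, 0, 0, 1], [0, 0, 0, 0, 0, 0, 1, 1, 0, 0, 0, 0, 0, 0, 0, 0, 0, 0, 0, 0, 0, 0, 0, 1], [0, 0, 0, 0, 0, 0, 2, 1, 1, 0, 0, 0, 0, 0, 0, 0, 0, 0, 0, 0, 0, 0, 1, 0], [0, 0, 0, 0, 1, 0]]) (by decide +kernel) e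
    simp [polVal, monVal, vars, env] at h11
    clear e hev'
    have k0 : u 0 = 0 := by grind
    try simp [k0] at h1
    have k1 : u 1 = 0 := by grind
    try simp [k0, k1] at h2
    have k2 : u 2 = 0 := by grind
    try simp [k0, k1, k2] at h3
    have k3 : u 3 = 0 := by grind
    try simp [k0, k1, k2, k3] at h4
    have k4 : u 4 = 0 := by grind
    try simp [k0, k1, k2, k3, k4] at h5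
    have k5 : u 5 = 0 := by grind
    try simp [k0, k1, k2, k3, k4, k5] at h6
    have k6 : u 6 = 0 := by grind
    try simp [k0, k1, k2, k3, k4, k5, k6] at h7
    have k7 : u 7 = w 7 := by grind
    have k10 : u 10 = 0 := by
      simp [k0, k1, k2, k3, k4, k5, k6, k7] at h8 h9 h10
      rw [g7] at *
      grind
    rw [E_short [7, 8, 9, 11] (by intro i hi hS; interval_cases i <;> simp_all)]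
    rw [show (((EL 0).filter fun p => decide (p.2 ∈ [7, 8, 9, 11])).map fun p => (p.1, u p.2)) =
      [(36, u 7), (38, u 8), (39, u 9), (44, u 11)] from rfl]
    refine Good.of_rel (rel_Q (by simp)) ?_
    obtain ⟨x, hx, hevx⟩ := reorder hσ he
      (L := [(40, u 7), (39, u 8), (38, u 9), (44, u 11)]) (by simp [keys])
    have hg : Good m (E φ x) := by
      have e := bridge (n := 4) [u 7, u 8, u 9, u 11] rfl x [] [(40, 0), (39, 1), (38, 2), (44, 3)]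
        (by decide) (by decide) hevx
      have h0 := eqn (r := 33) (P := [[0, 0, 0, 0, 0, 0, 0, 0, 1, 0]]) (by decide +kernel) e
      simp [polVal, monVal, vars, env] at h0
      have h1 := eqn (r := 27) (P := [[0, 0, 0, 0, 0, 0, 0, 0, 0, 0, 1, 0]]) (by decide +kernel) e
      simp [polVal, monVal, vars, env] at h1
      have h2 := eqn (r := 34) (P := [[0, 0, 0, 0, 0, 0, 0, 0, 0, 0, 0, 0, 1, 0], [0, 0, 0, 0, 0, 0, 0, 0, 1, 0, 1, 0]]) (by decide +kernel) e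
      simp [polVal, monVal, vars, env] at h2
      have h3 := eqn (r := 28) (P := [[0, 0, 0, 0, 0, 0, 0, 0, 0, 0, 0, 0, 0, 0, 1, 0]]) (by decide +kernel) e
      simp [polVal, monVal, vars, env] at h3
      have h4 := eqn (r := 29) (P := [[0, 0, 0, 0, 0, 0, 0, 0, 0, 0, 1, 0, 0, 1], [0, 0, 0, 0, 0, 0, 0, 0, 0, 0, 0, 0, 0, 0, 0, 0, 1, 0]]) (by decide +kernel) e
      simp [polVal, monVal, vars, env] at h4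
      have h5 := eqn (r := 35) (P := [[0, 0, 0, 0, 0, 0, 0, 0, 0, 0, 0, 0, 0, 0, 0, 0, 0, 0, 1, 0], [0, 0, 0, 0, 0, 0, 0, 0, 1, 0, 0, 0, 0, 0, 1, 0]]) (by decide +kernel) e
      simp [polVal, monVal, vars, env] at h5
      have h6 := eqn (r := 37) (P := [[0, 0, 0, 0, 0, 0, 0, 0, 0, 0, 0, 0, 1, 0, 1, 0], [0, 0, 0, 0, 0, 0, 0, 0, 1, 0, 1, 0, 0, 0, 1, 0], [0, 0, 0, 0, 0, 0, 0, 0, 1, 0, 2, 1], [0, 0, 0, 0, 0, 0, 0, 0, 1, 0, 0, 0, 0, 0, 0, 1], [0, 0, 0, 0, 0, 0, 0, 0, 0, 0, 0, 0, 0, 0, 0, 0, 0, 0, 0, 0, 1, 0]]) (by decide +kernel) e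
      simp [polVal, monVal, vars, env] at h6
      have h7 := eqn (r := 36) (P := [[0, 0, 0, 0, 0, 0, 0, 0, 1, 0, 1, 0, 0, 1], [0, 0, 0, 0, 0, 0, 0, 0, 1, 0, 0, 0, 0, 0, 0, 0, 1, 0], [0, 0, 0, 0, 0, 0, 0, 0, 0, 0, 0, 0, 0, 0, 0, 0, 0, 0, 0, 0, 0, 0, 1, 0]]) (by decide +kernel) e
      simp [polVal, monVal, vars, env] at h7
      have h8 := eqn (r := 38) (P := [[0, 0, 0, 0, 0, 0, 0, 0, 0, 0, 0, 0, 1, 0, 0, 0, 1, 0], [0, 0, 0, 0, 0, 0, 0, 0, 1, 0, 1, 0, 0, 0, 0, 0, 1, 0], [0, 0, 0, 0, 0, 0, 0, 0, 1, 0, 0, 0, 0, 0, 0, 0, 0, 0, 0, 1], [0, 0, 0, 0, 0, 0, 0, 0, 0, 0, 0, 0, 0, 0, 0, 0, 0, 0, 0, 0, 0, 0, 0, 0, 1, 0], [0, 0, 0, 0, 1, 0]]) (by decide +kernel) e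
      simp [polVal, monVal, vars, env] at h8
      have h9 := eqn (r := 39) (P := [[0, 0, 0, 0, 0, 0, 0, 0, 1, 0, 1, 0, 0, 1, 1, 0], [0, 0, 0, 0, 0, 0, 0, 0, 1, 0, 2, 1, 0, 1], [0, 0, 0, 0, 0, 0, 0, 0, 1, 0, 0, 0, 0, 0, 1, 0, 1, 0], [0, 0, 0, 0, 0, 0, 0, 0, 1, 0, 0, 0, 0, 0, 0, 0, 0, 0, 0, 0, 0, 1], [0, 0, 0, 0, 0, 0, 0, 0, 0, 0, 0, 0, 0, 0, 0, 0, 0, 0, 0, 0, 0, 0, 0, 0, 0, 0, 1, 0], [0, 0, 1, 0]]) (by decide +kernel) e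
      simp [polVal, monVal, vars, env] at h9
      have h10 := eqn (r := 40) (P := [[0, 0, 0, 0, 0, 0, 0, 0, 1, 0, 1, 0, 0, 1, 0, 1], [0, 0, 0, 0, 0, 0, 0, 0, 0, 0, 0, 0, 1, 0, 1, 0, 1, 0], [0, 0, 0, 0, 0, 0, 0, 0, 0, 0, 0, 0, 1, 0, 0, 0, 0, 0, 0, 0, 0, 1], [0, 0, 0, 0, 0, 0, 0, 0, 1, 0, 1, 0, 0, 0, 1, 0, 1, 0], [0, 0, 0, 0, 0, 0, 0, 0, 1, 0, 2, 1, 0, 0, 0, 0, 1, 0], [0, 0, 0, 0, 0, 0, 0, 0, 1, 0, 0, 0, 0, 0, 0, 1, 1, 0], [0, 0, 0, 0, 0, 0, 0, 0, 1, 0, 0, 0, 0, 0, 1, 0, 0, 0, 0, 1], [0, 0, 0, 0, 0, 0, 0, 0, 1, 0, 1, 0, 0, 0, 0, 0, 0, 0, 0, 0, 0, 1], [0, 0, 0, 0, 0, 0, 0, 0, 0, 0, 0, 0, 0, 0, 0, 0, 0, 0, 0, 0, 0, 0, 0, 0, 0, 0, 0, 0, 1, 0], [1, 0]]) (by decide +kernel) e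
      simp [polVal, monVal, vars, env] at h10
      have h11 := eqn (r := 44) (P := [[0, 0, 0, 0, 0, 0, 0, 0, 2, 0, 1, 0, 0, 1, 0, 1], [0, 0, 0, 0, 0, 0, 0, 0, 0, 0, 0, 0, 1, 0, 0, 0, 1, 0, 1, 0], [0, 0, 0, 0, 0, 0, 0, 0, 1, 0, 0, 0, 1, 0, 1, 0, 1, 0], [0, 0, 0, 0, 0, 0, 0, 0, 0, 0, 0, 0, 1, 0, 1, 0, 0, 0, 0, 0, 0, 0, 1, 0], [0, 0, 0, 0, 0, 0, 0, 0, 1, 0, 0, 0, 1, 0, 0, 0, 0, 0, 0, 0, 0, 1], [0, 0, 0, 0, 0, 0, 0, 0, 1, 0, 1, 0, 1, 1, 1, 0], [0, 0, 0, 0, 0, 0, 0, 0, 1, 0, 2, 1, 1, 1], [0, 0, 0, 0, 0, 0, 0, 0, 0, 0, 0, 0, 2, 1, 1, 0], [0, 0, 0, 0, 0, 0, 0, 0, 1, 0, 1, 0, 0, 0, 0, 0, 1, 0, 1, 0], [0, 0, 0, 0, 0, 0, 0, 0, 2, 0, 1, 0, 0, 0, 1, 0, 1, 0], [0, 0, 0, 0, 0, 0, 0, 0, 2, 0, 2, 1, 0, 0, 0, 0, 1, 0], [0, 0, 0, 0, 0, 0, 0, 0, 2, 0, 0, 0,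 0, 0, 0, 1, 1, 0], [0, 0, 0, 0, 0, 0, 0, 0, 0, 0, 0, 0, 0, 0, 0, 0, 1, 1], [0, 0, 0, 0, 0, 0, 0, 0, 2, 0, 0, 0, 0, 0, 1, 0, 0, 0, 0, 1], [0, 0, 0, 0, 0, 0, 0, 0, 1, 0, 0, 0, 0, 0, 0, 0, 0, 0, 1, 1], [0, 0, 0, 0, 0, 0, 0, 0, 1, 0, 1, 0, 0, 0, 1, 0, 0, 0, 0, 0, 0, 0, 1, 0], [0, 0, 0, 0, 0, 0, 0, 0, 2, 0, 1, 0, 0, 0, 0, 0, 0, 0, 0, 0, 0, 1], [0, 0, 0, 0, 0, 0, 0, 0, 1, 0, 2, 1, 0, 0, 0, 0, 0, 0, 0, 0, 0, 0, 1, 0], [0, 0, 0, 0, 0, 0, 0, 0, 1, 0, 0, 0, 0, 0, 0, 1, 0, 0, 0, 0, 0, 0, 1, 0], [0, 0, 0, 0, 0, 0, 0, 0, 0, 0, 0, 0, 0, 0, 0, 0, 0, 0, 0, 0, 1, 0, 1, 0], [0, 0, 0, 0, 0, 0, 0, 0, 0, 0, 0, 0, 0, 0, 0, 0, 0, 0, 0, 0, 0, 0, 0, 0, 0, 0, 0, 0, 0, 0, 1, 0], [0, 0, 0, 0, 0, 0, 1, 0]]) (by decide +kernel) e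
      simp [polVal, monVal, vars, env] at h11
      clear e
      have j0 : x 0 = 0 := by grind
      try simp [j0] at h1
      have j1 : x 1 = 0 := by grind
      try simp [j0, j1] at h2
      have j2 : x 2 = 0 := by grind
      try simp [j0, j1, j2] at h3
      have j3 : x 3 = 0 := by grind
      try simp [j0, j1, j2, j3] at h4
      have j4 : x 4 = 0 := by grind
      try simp [j0, j1, j2, j3, j4] at h5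
      have j5 : x 5 = 0 := by grind
      try simp [j0, j1, j2, j3, j4, j5] at h6
      have j6 : x 6 = 0 := by grind
      try simp [j0, j1, j2, j3, j4, j5, j6] at h7
      have j7 : x 7 = 0 := by grind
      rw [E_short [8, 9, 10, 11] (by intro i hi hS; interval_cases i <;> simp_all)]
      exact good_four hσ he _ _ _ _
    rw [hx] at hg
    simpa [piQ] using hg

/-- The middle case with a component at the seventh family. -/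
theorem good_seventh (p7 p3 p5 b6 b4 : K) (hne : p7 ≠ 0) :
    Good m (Ys φ [(32, p7), (38, p3), (39, p5), (40, b6), (44, b4)]) := by
    have hφφ := phi_phi he
    have hsur := (frob_bijective (K := K) (m := m)).2
    obtain ⟨t, ht⟩ := hsur (p3 / p7)
    obtain ⟨a2, ha2⟩ := hsur ((p5 + t * φ p7) / p7)
    set a4 := (b6 + a2 * φ p7) / p7 with ha4
    set b2 := (b4 + t * b6 + a2 * t * φ p7 + a2 * p5 + a4 * t * p7) / p7 with hb2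
    obtain ⟨w, hrel, hev⟩ := conjugate hσ he (Lw := [(24, t), (26, a2), (29, a4), (36, b2)])
      (Lu := [(32, p7), (38, p3), (39, p5), (40, b6), (44, b4)]) (by simp [keys]) (by simp [keys])
    refine Good.of_rel hrel ?_
    have e := bridge (n := 9) [p7, p3, p5, b6, b4, t, a2, a4, b2] rfl w
      [(24, 5), (26, 6), (29, 7), (36, 8)] [(32, 0), (38, 1), (39, 2), (40, 3), (44, 4)]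
      (by decide) (by decide) hev
    have h0 := eqn (r := 33) (P := [[0, 0, 0, 0, 0, 0, 0, 0, 0, 0, 0, 0, 0, 0, 0, 0, 0, 0, 1, 0]]) (by decide +kernel) e
    simp [polVal, monVal, vars, env] at h0
    have h1 := eqn (r := 27) (P := [[0, 0, 0, 0, 0, 0, 0, 0, 0, 0, 0, 0, 0, 0, 0, 0, 0, 0, 0, 0, 1, 0]]) (by decide +kernel) e
    simp [polVal, monVal, vars, env] at h1
    have h2 := eqn (r := 34) (P := [[0, 0, 0, 0, 0, 0, 0, 0, 0, 0, 0, 0, 0, 0, 0, 0, 0, 0, 0, 0, 0, 0, 1, 0], [0, 0, 0, 0, 0, 0, 0, 0, 0, 0, 0, 0, 0, 0, 0, 0, 0, 0, 1, 0, 1, 0]]) (by decide +kernel) e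
    simp [polVal, monVal, vars, env] at h2
    have h3 := eqn (r := 28) (P := [[0, 0, 0, 0, 0, 0, 0, 0, 0, 0, 0, 0, 0, 0, 0, 0, 0, 0, 0, 0, 0, 0, 0, 0, 1, 0]]) (by decide +kernel) e
    simp [polVal, monVal, vars, env] at h3
    have h4 := eqn (r := 29) (P := [[0, 0, 0, 0, 0, 0, 0, 0, 0, 0, 0, 0, 0, 0, 0, 0, 0, 0, 0, 0, 1, 0, 0, 1], [0, 0, 0, 0, 0, 0, 0, 0, 0, 0, 0, 0, 0, 0, 0, 0, 0, 0, 0, 0, 0, 0, 0, 0, 0, 0, 1, 0], [0, 0, 0, 0, 0, 0, 0, 0, 0, 0, 0, 1, 0, 0, 0, 0, 0, 0, 0, 0, 0, 0, 0, 0, 1, 0], [0, 0, 0, 0, 0, 0, 0, 0, 0, 0, 0, 0, 0, 1, 0, 0, 0, 0, 0, 0, 1, 0]]) (by decide +kernel) e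
    simp [polVal, monVal, vars, env] at h4
    have h5 := eqn (r := 35) (P := [[0, 0, 0, 0, 0, 0, 0, 0, 0, 0, 0, 0, 0, 0, 0, 0, 0, 0, 0, 0, 0, 0, 0, 0, 0, 0, 0, 0, 1, 0], [0, 0, 0, 0, 0, 0, 0, 0, 0, 0, 0, 0, 0, 0, 0, 0, 0, 0, 1, 0, 0, 0, 0, 0, 1, 0]]) (by decide +kernel) e
    simp [polVal, monVal, vars, env] at h5
    have h6 := eqn (r := 37) (P := [[0, 0, 0, 0, 0, 0, 0, 0, 0, 0, 0, 0, 0, 0, 0, 0, 0, 0, 0, 0, 0, 0, 1, 0, 1, 0], [0, 0, 0, 0, 0, 0, 0, 0, 0, 0, 0, 0, 0, 0, 0, 0, 0, 0, 1, 0, 1, 0, 0, 0, 1, 0], [0, 0, 0, 0, 0, 0, 0, 0, 0, 0, 0, 0, 0, 0, 0, 0, 0, 0, 1, 0, 2, 1], [0, 0, 0, 0, 0, 0, 0, 0, 0, 0, 0, 0, 0, 0, 0, 0, 0, 0, 1, 0, 0, 0, 0, 0, 0, 1], [0, 0, 0, 0, 0, 0, 0, 0, 0, 0, 0, 0, 0, 0, 0, 0, 0, 0, 0, 0, 0, 0, 0, 0, 0, 0, 0, 0, 0,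 0, 1, 0], [1, 0]]) (by decide +kernel) e
    simp [polVal, monVal, vars, env] at h6
    have h7 := eqn (r := 36) (P := [[0, 0, 0, 0, 0, 0, 0, 0, 0, 0, 0, 0, 0, 0, 0, 0, 0, 0, 1, 0, 1, 0, 0, 1], [0, 0, 0, 0, 0, 0, 0, 0, 0, 0, 0, 0, 0, 1, 0, 0, 0, 0, 0, 0, 0, 0, 1, 0], [0, 0, 0, 0, 0, 0, 0, 0, 0, 0, 0, 0, 0, 0, 0, 0, 0, 0, 1, 0, 0, 0, 0, 0, 0, 0, 1, 0], [0, 0, 0, 0, 0, 0, 0, 0, 0, 0, 0, 1, 0, 0, 0, 0, 0, 0, 0, 0, 0, 0, 0, 0, 0, 0, 0, 0, 1, 0], [0, 0, 0, 0, 0, 0, 0, 0, 0, 0, 0, 0, 0, 0, 0, 0, 0, 0, 0, 0, 0, 0, 0, 0, 0, 0, 0, 0, 0, 0, 0, 0, 1, 0], [0, 0, 0, 0, 0, 0, 0, 0, 0, 0, 0, 1, 0, 0, 0, 0, 0, 0, 1, 0, 0, 0, 0, 0, 1, 0], [0, 0, 0, 0, 0, 0, 0, 0, 0, 0, 0, 0, 0, 1, 0, 0, 0, 0, 1, 0, 1, 0], [0, 0, 0, 0, 0, 0, 0, 0, 0, 0, 0, 0, 0, 0, 1, 0, 0,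 0, 1, 0]]) (by decide +kernel) e
    simp [polVal, monVal, vars, env] at h7
    have h8 := eqn (r := 38) (P := [[0, 0, 0, 0, 0, 0, 0, 0, 0, 0, 0, 0, 0, 0, 0, 0, 0, 0, 0, 0, 0, 0, 1, 0, 0, 0, 1, 0], [0, 0, 0, 0, 0, 0, 0, 0, 0, 0, 0, 1, 0, 0, 0, 0, 0, 0, 0, 0, 0, 0, 1, 0, 1, 0], [0, 0, 0, 0, 0, 0, 0, 0, 0, 0, 0, 0, 0, 0, 1, 0, 0, 0, 0, 0, 0, 0, 1, 0], [0, 0, 0, 0, 0, 0, 0, 0, 0, 0, 0, 0, 0, 0, 0, 0, 0, 0, 1, 0, 1, 0, 0, 0, 0, 0, 1, 0], [0, 0, 0, 0, 0, 0, 0, 0, 0, 0, 0, 0, 0, 0, 0, 0, 0, 0, 1, 0, 0, 0, 0, 0, 0, 0, 0, 0, 0, 1], [0, 0, 0, 0, 0, 0, 0, 0, 0, 0, 0, 1, 0, 0, 0, 0, 0, 0, 1, 0, 1, 0, 0, 0, 1, 0], [0, 0, 0, 0, 0, 0, 0, 0, 0, 0, 0, 1, 0, 0, 0, 0, 0, 0, 1, 0, 2, 1], [0, 0, 0, 0, 0, 0, 0, 0, 0, 0, 0, 1, 0, 0, 0, 0, 0, 0, 1, 0, 0, 0, 0,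 0, 0, 1], [0, 0, 0, 0, 0, 0, 0, 0, 0, 0, 0, 0, 0, 0, 0, 0, 0, 0, 0, 0, 0, 0, 0, 0, 0, 0, 0, 0, 0, 0, 0, 0, 0, 0, 1, 0], [0, 0, 0, 0, 0, 0, 0, 0, 0, 0, 0, 0, 0, 0, 1, 0, 0, 0, 1, 0, 1, 0], [0, 0, 0, 0, 0, 0, 0, 0, 0, 0, 0, 1, 0, 0, 0, 0, 0, 0, 0, 0, 0, 0, 0, 0, 0, 0, 0, 0, 0, 0, 1, 0], [0, 0, 1, 0]]) (by decide +kernel) e
    simp [polVal, monVal, vars, env] at h8
    have h9 := eqn (r := 39) (P := [[0, 0, 0, 0, 0, 0, 0, 0, 0, 0, 0, 0, 0, 0, 0, 0, 0, 0, 1, 0, 1, 0, 0, 1, 1, 0], [0, 0, 0, 0, 0, 0, 0, 0, 0, 0, 0, 0, 0, 0, 0, 0, 0, 0, 1, 0, 2, 1, 0, 1], [0, 0, 0, 0, 0, 0, 0, 0, 0, 0, 0, 0, 0, 1, 0, 0, 0, 0, 0, 0, 0, 0, 1, 0, 1, 0], [0, 0, 0, 0, 0, 0, 0, 0, 0, 0, 0, 0, 0, 0, 0, 0, 0, 0, 1, 0, 0, 0, 0, 0, 1, 0, 1, 0], [0, 0, 0, 0, 0, 0, 0, 0, 0,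 0, 0, 0, 0, 0, 0, 0, 0, 0, 1, 0, 0, 0, 0, 0, 0, 0, 0, 0, 0, 0, 0, 1], [0, 0, 0, 0, 0, 0, 0, 0, 0, 0, 0, 0, 0, 0, 0, 0, 0, 0, 0, 0, 0, 0, 0, 0, 0, 0, 0, 0, 0, 0, 0, 0, 0, 0, 0, 0, 1, 0], [0, 0, 0, 0, 0, 0, 0, 0, 0, 0, 0, 0, 0, 1, 0, 0, 0, 0, 1, 0, 1, 0, 0, 0, 1, 0], [0, 0, 0, 0, 0, 0, 0, 0, 0, 0, 0, 0, 0, 1, 0, 0, 0, 0, 1, 0, 2, 1], [0, 0, 0, 0, 0, 0, 0, 0, 0, 0, 0, 0, 0, 1, 0, 0, 0, 0, 1, 0, 0, 0, 0, 0, 0, 1], [0, 0, 0, 0, 0, 0, 0, 0, 0, 0, 0, 0, 0, 1, 0, 0, 0, 0, 0, 0, 0, 0, 0, 0, 0, 0, 0, 0, 0, 0, 1, 0], [0, 0, 0, 0, 0, 0, 0, 0, 0, 0, 0, 0, 0, 0, 1, 0, 0, 0, 0, 0, 0, 0, 0, 0, 0, 0, 0, 0, 1, 0], [0, 0, 0, 0, 0, 0, 0, 0, 0, 0, 0, 0, 0, 0, 1, 0, 0, 0, 1, 0, 0, 0, 0, 0, 1, 0], [0, 1, 0, 0, 0, 0, 0, 0, 0, 0, 1, 0], [0, 0, 0, 0, 1, 0]]) (by decide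 +kernel) e
    simp [polVal, monVal, vars, env] at h9
    have h10 := eqn (r := 40) (P := [[0, 0, 0, 0, 0, 0, 0, 0, 0, 0, 0, 0, 0, 0, 0, 0, 0, 0, 1, 0, 1, 0, 0, 1, 0, 1], [0, 0, 0, 0, 0, 0, 0, 0, 0, 0, 0, 0, 0, 0, 0, 0, 0, 0, 0, 0, 0, 0, 1, 0, 1, 0, 1, 0], [0, 0, 0, 0, 0, 0, 0, 0, 0, 0, 0, 0, 0, 0, 0, 0, 0, 0, 0, 0, 0, 0, 1, 0, 0, 0, 0, 0, 0, 0, 0, 1], [0, 0, 0, 0, 0, 0, 0, 0, 0, 0, 0, 0, 0, 0, 1, 0, 0, 0, 0, 0, 0, 0, 1, 0, 1, 0], [0, 0, 0, 0, 0, 0, 0, 0, 0, 0, 0, 0, 0, 0, 0, 0, 0, 0, 1, 0, 1, 0, 0, 0, 1, 0, 1, 0], [0, 0, 0, 0, 0, 0, 0, 0, 0, 0, 0, 0, 0, 0, 0, 0, 0, 0, 1, 0, 2, 1, 0, 0, 0, 0, 1, 0], [0, 0, 0, 0, 0, 0, 0, 0, 0, 0, 0, 0, 0, 0, 0, 0, 0, 0, 1, 0, 0, 0, 0, 0, 0, 1, 1, 0], [0, 0, 0, 0, 0, 0, 0, 0, 0, 0, 0, 0, 0, 0, 0, 0, 0, 0,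 1, 0, 0, 0, 0, 0, 1, 0, 0, 0, 0, 1], [0, 0, 0, 0, 0, 0, 0, 0, 0, 0, 0, 0, 0, 0, 0, 0, 0, 0, 1, 0, 1, 0, 0, 0, 0, 0, 0, 0, 0, 0, 0, 1], [0, 0, 0, 0, 0, 0, 0, 0, 0, 0, 0, 0, 0, 0, 0, 0, 0, 0, 0, 0, 0, 0, 0, 0, 0, 0, 0, 0, 0, 0, 0, 0, 0, 0, 0, 0, 0, 0, 1, 0], [0, 1, 0, 0, 0, 0, 0, 0, 0, 0, 0, 0, 1, 0], [0, 0, 0, 0, 0, 0, 0, 0, 0, 0, 0, 0, 0, 0, 1, 0, 0, 0, 1, 0, 1, 0, 0, 0, 1, 0], [0, 0, 0, 0, 0, 0, 0, 0, 0, 0, 0, 0, 0, 0, 1, 0, 0, 0, 1, 0, 2, 1], [0, 0, 0, 0, 0, 0, 0, 0, 0, 0, 0, 0, 0, 0, 1, 0, 0, 0, 1, 0, 0, 0, 0, 0, 0, 1], [0, 0, 0, 0, 0, 0, 0, 0, 0, 0, 0, 0, 0, 0, 1, 0, 0, 0, 0, 0, 0, 0, 0, 0, 0, 0, 0, 0, 0, 0, 1, 0], [0, 0, 0, 0, 0, 0, 1, 0]]) (by decide +kernel) e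
    simp [polVal, monVal, vars, env] at h10
    have h11 := eqn (r := 44) (P := [[0, 0, 0, 0, 0, 0, 0, 0, 0, 0, 1, 0, 0, 0, 0, 0, 0, 0, 1, 0, 1, 0, 0, 1, 0, 1], [0, 0, 0, 0, 0, 0, 0, 0, 0, 0, 0, 0, 0, 0, 0, 0, 0, 0, 2, 0, 1, 0, 0, 1, 0, 1], [0, 0, 0, 0, 0, 0, 0, 0, 0, 0, 0, 0, 1, 0, 0, 0, 0, 0, 1, 0, 1, 0, 0, 1, 1, 0], [0, 0, 0, 0, 0, 0, 0, 0, 0, 0, 0, 0, 1, 0, 0, 0, 0, 0, 1, 0, 2, 1, 0, 1], [0, 0, 0, 0, 0, 0, 0, 0, 0, 0, 0, 0, 0, 0, 0, 0, 0, 0, 0, 0, 0, 0, 1, 0, 0, 0, 1, 0, 1, 0], [0, 0, 0, 0, 0, 0, 0, 0, 0, 0, 0, 0, 0, 0, 0, 0, 0, 0, 1, 0, 0, 0, 1, 0, 1, 0, 1, 0], [0, 0, 0, 0, 0, 0, 0, 0, 0, 0, 1, 0, 0, 0, 0, 0, 0, 0, 0, 0, 0, 0, 1, 0, 1, 0, 1, 0], [0, 0, 0, 0, 0, 0, 0, 0, 0, 0, 0, 0, 0, 0, 0, 0, 0, 0, 0, 0, 0, 0, 1, 0, 1, 0, 0, 0, 0, 0,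 0, 0, 1, 0], [0, 0, 0, 0, 0, 0, 0, 0, 0, 0, 0, 0, 0, 0, 0, 0, 0, 0, 1, 0, 0, 0, 1, 0, 0, 0, 0, 0, 0, 0, 0, 1], [0, 0, 0, 0, 0, 0, 0, 0, 0, 0, 0, 0, 1, 1, 0, 0, 0, 0, 0, 0, 0, 0, 1, 0, 1, 0], [0, 0, 0, 0, 0, 0, 0, 0, 0, 0, 0, 0, 0, 0, 1, 0, 0, 0, 0, 0, 0, 0, 1, 0, 0, 0, 0, 0, 1, 0], [0, 0, 0, 0, 0, 0, 0, 0, 0, 0, 0, 0, 0, 0, 1, 0, 0, 0, 1, 0, 0, 0, 1, 0, 1, 0], [0, 0, 0, 0, 0, 0, 0, 0, 0, 0, 0, 0, 0, 0, 0, 0, 1, 0, 0, 0, 0, 0, 1, 0, 1, 0], [0, 0, 0, 0, 0, 0, 0, 0, 0, 0, 1, 0, 0, 0, 0, 0, 0, 0, 0, 0, 0, 0, 1, 0, 0, 0, 0, 0, 0, 0, 0, 1], [0, 0, 0, 0, 0, 0, 0, 0, 0, 0, 0, 0, 0, 0, 0, 0, 0, 0, 1, 0, 1, 0, 1, 1, 1, 0], [0, 0, 0, 0, 0, 0, 0, 0, 0, 0, 0, 0, 0, 0, 0, 0, 0, 0, 1, 0, 2, 1, 1, 1], [0, 0, 0, 0, 0, 0, 0, 0, 0, 0, 0, 0, 0, 0, 0, 0, 0, 0,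 0, 0, 0, 0, 2, 1, 1, 0], [0, 0, 0, 0, 0, 0, 0, 0, 0, 0, 0, 0, 0, 0, 1, 0, 0, 0, 0, 0, 0, 0, 0, 0, 0, 0, 0, 1], [0, 0, 0, 0, 0, 0, 0, 0, 0, 0, 0, 0, 0, 0, 0, 0, 0, 0, 1, 0, 1, 0, 0, 0, 0, 0, 1, 0, 1, 0], [0, 0, 0, 0, 0, 0, 0, 0, 0, 0, 1, 0, 0, 0, 0, 0, 0, 0, 1, 0, 1, 0, 0, 0, 1, 0, 1, 0], [0, 0, 0, 0, 0, 0, 0, 0, 0, 0, 0, 0, 0, 0, 0, 0, 0, 0, 2, 0, 1, 0, 0, 0, 1, 0, 1, 0], [0, 0, 0, 0, 0, 0, 0, 0, 0, 0, 1, 0, 0, 0, 0, 0, 0, 0, 1, 0, 2, 1, 0, 0, 0, 0, 1, 0], [0, 0, 0, 0, 0, 0, 0, 0, 0, 0, 0, 0, 0, 0, 0, 0, 0, 0, 2, 0, 2, 1, 0, 0, 0, 0, 1, 0], [0, 0, 0, 0, 0, 0, 0, 0, 0, 0, 1, 0, 0, 0, 0, 0, 0, 0, 1, 0, 0, 0, 0, 0, 0, 1, 1, 0], [0, 0, 0, 0, 0, 0, 0, 0, 0, 0, 0, 0, 0, 0, 0, 0, 0, 0, 2, 0, 0, 0, 0, 0, 0, 1, 1, 0], [0, 0, 0, 0, 0, 0, 0, 0, 0, 0,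 0, 0, 0, 0, 0, 0, 0, 0, 0, 0, 0, 0, 0, 0, 0, 0, 1, 1], [0, 0, 0, 0, 0, 0, 0, 0, 0, 0, 1, 0, 0, 0, 0, 0, 0, 0, 1, 0, 0, 0, 0, 0, 1, 0, 0, 0, 0, 1], [0, 0, 0, 0, 0, 0, 0, 0, 0, 0, 0, 0, 0, 0, 0, 0, 0, 0, 2, 0, 0, 0, 0, 0, 1, 0, 0, 0, 0, 1], [0, 0, 0, 0, 0, 0, 0, 0, 0, 0, 0, 0, 0, 0, 0, 0, 0, 0, 1, 0, 0, 0, 0, 0, 0, 0, 0, 0, 1, 1], [0, 0, 0, 0, 0, 0, 0, 0, 0, 0, 0, 0, 0, 0, 0, 0, 0, 0, 1, 0, 1, 0, 0, 0, 1, 0, 0, 0, 0, 0, 0, 0, 1, 0], [0, 0, 0, 0, 0, 0, 0, 0, 0, 0, 1, 0, 0, 0, 0, 0, 0, 0, 1, 0, 1, 0, 0, 0, 0, 0, 0, 0, 0, 0, 0, 1], [0, 0, 0, 0, 0, 0, 0, 0, 0, 0, 0, 0, 0, 0, 0, 0, 0, 0, 2, 0, 1, 0, 0, 0, 0, 0, 0, 0, 0, 0, 0, 1], [0, 0, 0, 0, 0, 0, 0, 0, 0, 0, 0, 0, 0, 0, 0, 0, 1, 0, 1, 0, 1, 0, 0, 0, 1, 0], [0, 0, 0, 0, 0, 0, 0, 0, 0, 0, 0, 0,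 0, 0, 0, 0, 0, 0, 1, 0, 2, 1, 0, 0, 0, 0, 0, 0, 0, 0, 0, 0, 1, 0], [0, 0, 0, 0, 0, 0, 0, 0, 0, 0, 0, 0, 0, 0, 0, 0, 1, 0, 1, 0, 2, 1], [0, 0, 0, 0, 0, 0, 0, 0, 0, 0, 0, 0, 0, 0, 0, 0, 0, 0, 1, 0, 0, 0, 0, 0, 0, 1, 0, 0, 0, 0, 0, 0, 1, 0], [0, 0, 0, 0, 0, 0, 0, 0, 0, 0, 0, 0, 0, 0, 0, 0, 0, 0, 0, 0, 0, 0, 0, 0, 0, 0, 0, 0, 0, 0, 1, 0, 1, 0], [0, 0, 0, 0, 0, 0, 0, 0, 0, 0, 0, 0, 0, 0, 0, 0, 0, 0, 0, 0, 0, 0, 0, 0, 0, 0, 0, 0, 0, 0, 0, 0, 0, 0, 0, 0, 0, 0, 0, 0, 1, 0], [0, 0, 0, 0, 0, 0, 0, 0, 0, 0, 1, 0, 0, 0, 0, 0, 0, 0, 0, 0, 0, 0, 0, 0, 0, 0, 0, 0, 0, 0, 0, 0, 0, 0, 0, 0, 0, 0, 1, 0], [0, 0, 0, 0, 0, 0, 0, 0, 0, 0, 0, 0, 1, 0, 0, 0, 0, 0, 1, 0, 0, 0, 0, 0, 1, 0, 1, 0], [0, 0, 0, 0, 0, 0, 0, 0, 0, 0, 0, 0, 1, 0, 0, 0, 0, 0, 1, 0, 0, 0, 0,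 0, 0, 0, 0, 0, 0, 0, 0, 1], [0, 0, 0, 0, 0, 0, 0, 0, 0, 0, 0, 0, 1, 0, 0, 0, 0, 0, 0, 0, 0, 0, 0, 0, 0, 0, 0, 0, 0, 0, 0, 0, 0, 0, 0, 0, 1, 0], [0, 0, 0, 0, 0, 0, 0, 0, 0, 0, 0, 0, 1, 0, 1, 0, 0, 0, 0, 0, 0, 0, 0, 0, 0, 0, 0, 0, 1, 0], [0, 0, 0, 0, 0, 0, 0, 0, 0, 0, 0, 0, 1, 0, 1, 0, 0, 0, 1, 0, 0, 0, 0, 0, 1, 0], [0, 1, 0, 0, 0, 0, 0, 0, 0, 0, 1, 0, 1, 0], [0, 0, 0, 0, 0, 0, 0, 0, 0, 0, 0, 0, 1, 1, 0, 0, 0, 0, 1, 0, 1, 0, 0, 0, 1, 0], [0, 0, 0, 0, 0, 0, 0, 0, 0, 0, 0, 0, 1, 1, 0, 0, 0, 0, 1, 0, 2, 1], [0, 0, 0, 0, 0, 0, 0, 0, 0, 0, 0, 0, 1, 1, 0, 0, 0, 0, 1, 0, 0, 0, 0, 0, 0, 1], [0, 0, 0, 0, 0, 0, 0, 0, 0, 0, 0, 0, 1, 1, 0, 0, 0, 0, 0, 0, 0, 0, 0, 0, 0, 0, 0, 0, 0, 0, 1, 0], [0, 0, 0, 0, 0, 0, 0, 0, 0, 0, 0, 0, 0, 0, 1, 0, 0, 0, 1, 0, 1,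 0, 0, 0, 0, 0, 0, 0, 1, 0], [0, 0, 0, 0, 0, 0, 0, 0, 0, 0, 0, 0, 0, 0, 1, 0, 0, 0, 2, 0, 1, 0, 0, 0, 1, 0], [0, 0, 0, 0, 0, 0, 0, 0, 0, 0, 0, 0, 0, 0, 1, 0, 0, 0, 2, 0, 2, 1], [0, 0, 0, 0, 0, 0, 0, 0, 0, 0, 0, 0, 0, 0, 1, 0, 0, 0, 2, 0, 0, 0, 0, 0, 0, 1], [0, 0, 0, 0, 0, 0, 0, 0, 0, 0, 0, 0, 0, 0, 0, 0, 1, 0, 1, 0, 0, 0, 0, 0, 0, 1], [0, 0, 0, 0, 0, 0, 0, 0, 0, 0, 0, 0, 0, 0, 0, 0, 1, 0, 0, 0, 0, 0, 0, 0, 0, 0, 0, 0, 0, 0, 1, 0], [0, 0, 0, 0, 0, 0, 0, 0, 1, 0]]) (by decide +kernel) e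
    simp [polVal, monVal, vars, env] at h11
    clear e hev hrel
    have g0 : w 0 = 0 := by grind
    try simp [g0] at h1
    have g1 : w 1 = 0 := by grind
    try simp [g0, g1] at h2
    have g2 : w 2 = 0 := by grind
    try simp [g0, g1, g2] at h3
    have g3 : w 3 = 0 := by grind
    try simp [g0, g1, g2, g3] at h4
    have g4 : w 4 = 0 := by grind
    try simp [g0, g1, g2, g3, g4] at h5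
    have g5 : w 5 = 0 := by grind
    try simp [g0, g1, g2, g3, g4, g5] at h6
    have g6 : w 6 = p7 := by grind
    try simp [g0, g1, g2, g3, g4, g5, g6] at h7
    have g7 : w 7 = 0 := by grind
    try simp [g0, g1, g2, g3, g4, g5, g6, g7] at h8
    have g8 : w 8 = 0 := by grind
    try simp [g0, g1, g2, g3, g4, g5, g6, g7, g8] at h9
    have g9 : w 9 = 0 := by grind
    try simp [g0, g1, g2, g3, g4, g5, g6, g7, g8, g9] at h10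
    have g10 : w 10 = 0 := by grind
    try simp [g0, g1, g2, g3, g4, g5, g6, g7, g8, g9, g10] at h11
    have g11 : w 11 = 0 := by grind
    rw [E_short [6] (by intro i hi hS; interval_cases i <;> simp_all)]
    exact good_single32 hσ he _


/-- The case of the six middle families. -/
theorem good_middle (v : ℕ → K) (h0 : v 0 = 0) (h1 : v 1 = 0) (h3 : v 3 = 0)
    (hsq : E φ v * E φ v = 1) : Good m (E φ v) := by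
  have hφφ := phi_phi he
  have hsur := (frob_bijective (K := K) (m := m)).2
  have h2 : v 2 = 0 := by
    rw [E_short [2, 4, 5, 6, 7, 8, 9, 10, 11] (by intro i hi hS; interval_cases i <;> simp_all)] at hsq
    have es := bridge_sq (n := 10) [v 2, 0, v 4, v 5, v 6, v 7, v 8, v 9, v 10, v 11] rfl
      [(26, 0), (29, 2), (31, 3), (32, 4), (36, 5), (38, 6), (39, 7), (40, 8), (44, 9)] (by decide) hsq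
    have q36 := eqn (r := 36) (P := [[1, 1]]) (by decide +kernel) es
    simp [polVal, monVal, vars, env] at q36
    simpa using q36
  rw [E_short [4, 5, 6, 7, 8, 9, 10, 11] (by intro i hi hS; interval_cases i <;> simp_all)] at hsq ⊢
  have es := bridge_sq (n := 8) [v 4, v 5, v 6, v 7, v 8, v 9, v 10, v 11] rfl
    [(29, 0), (31, 1), (32, 2), (36, 3), (38, 4), (39, 5), (40, 6), (44, 7)] (by decide) hsq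
  have q39 := eqn (r := 39) (P := [[1, 0, 1, 0]]) (by decide +kernel) es -- a4*a6
  simp [polVal, monVal, vars, env] at q39
  have q40 := eqn (r := 40) (P := [[1, 0, 0, 0, 1, 0], [0, 0, 1, 1]]) (by decide +kernel) es -- a4*p7 + a6*φa6
  simp [polVal, monVal, vars, env] at q40
  have q44 := eqn (r := 44) (P := [[1, 1], [0, 0, 1, 0, 0, 0, 0, 0, 1, 0], [0, 0, 0, 0, 1, 0, 1, 0]]) (by decide +kernel) es -- a4*φa4 + a6*p3 + b2*p7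
  simp [polVal, monVal, vars, env] at q44
  have h45 : v 4 = 0 ∧ v 5 = 0 ∧ (v 6 = 0 ∨ v 7 = 0) := by
    by_cases h4 : v 4 = 0
    · have h5 : v 5 = 0 := by
        by_contra h5
        simp [h4, h5] at q40
      refine ⟨h4, h5, ?_⟩
      simp [h4, h5] at q44
      tauto
    · exfalso
      have h5 : v 5 = 0 := by simpa [h4] using q39
      simp [h5, h4] at q40
      simp [h5, h4, q40] at q44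
  obtain ⟨h4, h5, h67⟩ := h45
  clear es q39 q40 q44 hsq
  rw [show (((EL 0).filter fun p => decide (p.2 ∈ [4, 5, 6, 7, 8, 9, 10, 11])).map fun p => (p.1, v p.2)) =
    [(29, v 4), (31, v 5), (32, v 6), (36, v 7), (38, v 8), (39, v 9), (40, v 10), (44, v 11)] from rfl]
  simp only [Ys_cons, Ys_nil, Y_zero, one_mul, mul_one, h4, h5]
  rcases h67 with h6 | h7
  · by_cases h7 : v 7 = 0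
    · have := good_four hσ he (v 8) (v 9) (v 10) (v 11)
      simpa [Ys_cons, Ys_nil, Y_zero, h6, h7] using this
    have := good_centre hσ he (v 7) (v 8) (v 9) (v 10) (v 11) h7
    simpa [Ys_cons, Ys_nil, Y_zero, h6] using this
  · by_cases h6 : v 6 = 0
    · have := good_four hσ he (v 8) (v 9) (v 10) (v 11)
      simpa [Ys_cons, Ys_nil, Y_zero, h6, h7] using this
    have := good_seventh hσ he (v 6) (v 8) (v 9) (v 10) (v 11) h6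
    simpa [Ys_cons, Ys_nil, Y_zero, h7] using this

/-- The case without a component at the first family. -/
theorem good_no_first (v : ℕ → K) (h0 : v 0 = 0) (h1 : v 1 = 0) (hsq : E φ v * E φ v = 1) :
    Good m (E φ v) := by
  have hφφ := phi_phi he
  by_cases h3 : v 3 = 0
  · exact good_middle hσ he v h0 h1 h3 hsq
  have hshort : E φ v = Ys φ [(26, v 2), (28, v 3), (29, v 4), (31, v 5), (32, v 6), (36, v 7), (38, v 8),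
      (39, v 9), (40, v 10), (44, v 11)] := by
    rw [E_short [2, 3, 4, 5, 6, 7, 8, 9, 10, 11] (by intro i hi hS; interval_cases i <;> simp_all)]
    rfl
  rw [hshort] at hsq ⊢
  have es := bridge_sq (n := 10) [v 2, v 3, v 4, v 5, v 6, v 7, v 8, v 9, v 10, v 11] rfl
    [(26, 0), (28, 1), (29, 2), (31, 3), (32, 4), (36, 5), (38, 6), (39, 7), (40, 8), (44, 9)] (by decide) hsq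
  have q36 := eqn (r := 36) (P := [[1, 1]]) (by decide +kernel) es -- a2*φa2
  simp [polVal, monVal, vars, env] at q36
  have q39 := eqn (r := 39) (P := [[0, 1, 0, 0, 0, 0, 0, 0, 1, 0], [0, 0, 0, 0, 1, 0, 1, 0], [0, 0, 1, 0, 0, 0, 0, 0, 0, 0, 1, 0]]) (by decide +kernel) es -- a4*a6 + b2*b8 + φa2*p7
  simp [polVal, monVal, vars, env] at q39
  clear es
  have h2 : v 2 = 0 := by simpa using q36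
  simp [h2] at q39
  set t := v 5 / v 3 with ht
  obtain ⟨w, hrel, hev⟩ := conjugate hσ he (Lw := [(24, t)])
    (Lu := [(28, v 3), (29, v 4), (31, v 5), (32, v 6), (36, v 7), (38, v 8), (39, v 9), (40, v 10), (44, v 11)])
    (by simp [keys]) (by simp [keys])
  rw [show Ys φ [(26, v 2), (28, v 3), (29, v 4), (31, v 5), (32, v 6), (36, v 7), (38, v 8), (39, v 9), (40, v 10),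
      (44, v 11)] = Ys φ [(28, v 3), (29, v 4), (31, v 5), (32, v 6), (36, v 7), (38, v 8), (39, v 9), (40, v 10),
      (44, v 11)] by simp [Ys_cons, Ys_nil, Y_zero, h2]] at hsq ⊢
  refine Good.of_rel hrel ?_
  have e := bridge (n := 10) [v 3, v 4, v 5, v 6, v 7, v 8, v 9, v 10, v 11, t] rfl w [(24, 9)]
    [(28, 0), (29, 1), (31, 2), (32, 3), (36, 4), (38, 5), (39, 6), (40, 7), (44, 8)] (by decide) (by decide) hev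
  have h0 := eqn (r := 33) (P := [[0, 0, 0, 0, 0, 0, 0, 0, 0, 0, 0, 0, 0, 0, 0, 0, 0, 0, 0, 0, 1, 0]]) (by decide +kernel) e
  simp [polVal, monVal, vars, env] at h0
  have h1 := eqn (r := 27) (P := [[0, 0, 0, 0, 0, 0, 0, 0, 0, 0, 0, 0, 0, 0, 0, 0, 0, 0, 0, 0, 0, 0, 1, 0]]) (by decide +kernel) e
  simp [polVal, monVal, vars, env] at h1
  have h2 := eqn (r := 34) (P := [[0, 0, 0, 0, 0, 0, 0, 0, 0, 0, 0, 0, 0, 0, 0, 0, 0, 0, 0, 0, 0, 0, 0, 0, 1, 0], [0, 0, 0, 0, 0, 0, 0, 0, 0, 0, 0, 0, 0, 0, 0, 0, 0, 0, 0, 0, 1, 0, 1, 0]]) (by decide +kernel) e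
  simp [polVal, monVal, vars, env] at h2
  have h3 := eqn (r := 28) (P := [[0, 0, 0, 0, 0, 0, 0, 0, 0, 0, 0, 0, 0, 0, 0, 0, 0, 0, 0, 0, 0, 0, 0, 0, 0, 0, 1, 0], [1, 0]]) (by decide +kernel) e
  simp [polVal, monVal, vars, env] at h3
  have h4 := eqn (r := 29) (P := [[0, 0, 0, 0, 0, 0, 0, 0, 0, 0, 0, 0, 0, 0, 0, 0, 0, 0, 0, 0, 0, 0, 1, 0, 0, 1], [0, 0, 0, 0, 0, 0, 0, 0, 0, 0, 0, 0, 0, 0, 0, 0, 0, 0, 0, 0, 0, 0, 0, 0, 0, 0, 0, 0, 1, 0], [0, 0, 0, 0, 0, 0, 0, 0, 0, 0, 0, 0, 0, 0, 0, 0, 0, 0, 0, 1, 0, 0, 0, 0, 0, 0, 1, 0], [0, 0, 1, 0]]) (by decide +kernel) e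
  simp [polVal, monVal, vars, env] at h4
  have h5 := eqn (r := 35) (P := [[0, 0, 0, 0, 0, 0, 0, 0, 0, 0, 0, 0, 0, 0, 0, 0, 0, 0, 0, 0, 0, 0, 0, 0, 0, 0, 0, 0, 0, 0, 1, 0], [0, 0, 0, 0, 0, 0, 0, 0, 0, 0, 0, 0, 0, 0, 0, 0, 0, 0, 0, 0, 1, 0, 0, 0, 0, 0, 1, 0], [0, 0, 0, 0, 1, 0], [1, 0, 0, 0, 0, 0, 0, 0, 0, 0, 0, 0, 0, 0, 0, 0, 0, 0, 1, 0]]) (by decide +kernel) e
  simp [polVal, monVal, vars, env] at h5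
  have h6 := eqn (r := 37) (P := [[0, 0, 0, 0, 0, 0, 0, 0, 0, 0, 0, 0, 0, 0, 0, 0, 0, 0, 0, 0, 0, 0, 0, 0, 1, 0, 1, 0], [0, 0, 0, 0, 0, 0, 0, 0, 0, 0, 0, 0, 0, 0, 0, 0, 0, 0, 0, 0, 1, 0, 1, 0, 0, 0, 1, 0], [0, 0, 0, 0, 0, 0, 0, 0, 0, 0, 0, 0, 0, 0, 0, 0, 0, 0, 0, 0, 1, 0, 2, 1], [0, 0, 0, 0, 0, 0, 0, 0, 0, 0, 0, 0, 0, 0, 0, 0, 0, 0, 0, 0, 1, 0, 0, 0, 0, 0, 0, 1], [0, 0, 0, 0, 0, 0, 0, 0, 0, 0, 0, 0, 0, 0, 0, 0, 0, 0, 0, 0, 0, 0, 0, 0, 0, 0, 0, 0, 0, 0, 0, 0, 1, 0], [0, 1, 0, 0, 0, 0, 0, 0, 0, 0, 0, 0, 0, 0, 0, 0, 0, 0, 1, 0], [0, 0, 0, 0, 0, 0, 1, 0]]) (by decide +kernel) e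
  simp [polVal, monVal, vars, env] at h6
  have h7 := eqn (r := 36) (P := [[0, 0, 0, 0, 0, 0, 0, 0, 0, 0, 0, 0, 0, 0, 0, 0, 0, 0, 0, 0, 1, 0, 1, 0, 0, 1], [0, 0, 0, 0, 0, 0, 0, 0, 0, 0, 0, 0, 0, 0, 0, 0, 0, 0, 0, 0, 1, 0, 0, 0, 0, 0, 0, 0, 1, 0], [0, 0, 0, 0, 0, 0, 0, 0, 0, 0, 0, 0, 0, 0, 0, 0, 0, 0, 0, 1, 0, 0, 0, 0, 0, 0, 0, 0, 0, 0, 1, 0], [0, 0, 0, 0, 0, 0, 0, 0, 0, 0, 0, 0, 0, 0, 0, 0, 0, 0, 0, 0, 0, 0, 0, 0, 0, 0, 0, 0, 0, 0, 0, 0, 0, 0, 1, 0], [0, 0, 0, 0, 0, 0, 0, 0, 0, 0, 0, 0, 0, 0, 0, 0, 0, 0, 0, 1, 1, 0, 0, 0, 0, 0, 1, 0], [0, 0, 1, 0, 0, 0, 0, 0, 0, 0, 0, 0, 0, 0, 0, 0, 0, 0, 1, 0], [0, 0, 0, 0, 0, 0, 0, 0, 1, 0]]) (by decide +kernel) e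
  simp [polVal, monVal, vars, env] at h7
  clear e hev
  have g0 : w 0 = 0 := by grind
  try simp [g0] at h1
  have g1 : w 1 = 0 := by grind
  try simp [g0, g1] at h2
  have g2 : w 2 = 0 := by grind
  try simp [g0, g1, g2] at h3
  have g3 : w 3 = v 3 := by grind
  simp [g0, g1, g2, g3] at h4 h5 h6 h7
  have g7 : w 7 = 0 := by grind
  have hsq' := hrel.sq hsq
  rw [E_short [3, 4, 5, 6, 8, 9, 10, 11] (by intro i hi hS; interval_cases i <;> simp_all)] at hsq' ⊢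
  rw [show (((EL 0).filter fun p => decide (p.2 ∈ [3, 4, 5, 6, 8, 9, 10, 11])).map fun p => (p.1, w p.2)) =
    [(28, w 3), (29, w 4), (31, w 5), (32, w 6), (38, w 8), (39, w 9), (40, w 10), (44, w 11)] from rfl] at hsq' ⊢
  have hr := rel_P (m := m) (l := [(28, w 3), (29, w 4), (31, w 5), (32, w 6), (38, w 8), (39, w 9), (40, w 10),
    (44, w 11)]) (by simp)
  have hsq'' := hr.sq hsq'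
  obtain ⟨x, hx, hevx⟩ := reorder hσ he (L := [(36, w 3), (31, w 4), (29, w 5), (38, w 6), (32, w 8), (39, w 9),
    (44, w 10), (40, w 11)]) (by simp [keys])
  refine Good.of_rel hr ?_
  simp only [List.map, piP] at hsq'' ⊢
  simp at hsq'' ⊢
  rw [← hx] at hsq'' ⊢
  have e := bridge (n := 8) [w 3, w 4, w 5, w 6, w 8, w 9, w 10, w 11] rfl x []
    [(36, 0), (31, 1), (29, 2), (38, 3), (32, 4), (39, 5), (44, 6), (40, 7)] (by decide) (by decide) hevx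
  have h0 := eqn (r := 33) (P := [[0, 0, 0, 0, 0, 0, 0, 0, 0, 0, 0, 0, 0, 0, 0, 0, 1, 0]]) (by decide +kernel) e
  simp [polVal, monVal, vars, env] at h0
  have h1 := eqn (r := 27) (P := [[0, 0, 0, 0, 0, 0, 0, 0, 0, 0, 0, 0, 0, 0, 0, 0, 0, 0, 1, 0]]) (by decide +kernel) e
  simp [polVal, monVal, vars, env] at h1
  have h2 := eqn (r := 34) (P := [[0, 0, 0, 0, 0, 0, 0, 0, 0, 0, 0, 0, 0, 0, 0, 0, 0, 0, 0, 0, 1, 0], [0, 0, 0, 0, 0, 0, 0, 0, 0, 0, 0, 0, 0, 0, 0, 0, 1, 0, 1, 0]]) (by decide +kernel) e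
  simp [polVal, monVal, vars, env] at h2
  have h3 := eqn (r := 28) (P := [[0, 0, 0, 0, 0, 0, 0, 0, 0, 0, 0, 0, 0, 0, 0, 0, 0, 0, 0, 0, 0, 0, 1, 0]]) (by decide +kernel) e
  simp [polVal, monVal, vars, env] at h3
  clear e
  have j0 : x 0 = 0 := by grind
  have j1 : x 1 = 0 := by grind
  simp [j0, j1] at h2 h3
  exact good_middle hσ he x j0 j1 (by grind) hsq''

/-- Every involution in the positive part is conjugate to a representative. -/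
theorem good_all (v : ℕ → K) (hsq : E φ v * E φ v = 1) : Good m (E φ v) := by
  have hφφ := phi_phi he
  have es := bridge_sq (n := 12) ((List.range 12).map v) (by simp) (EL 0) (by decide)
    (by simpa [E, EL, keys, List.range_succ] using hsq)
  have q28 := eqn (r := 28) (P := [[0, 0, 1, 1]]) (by decide +kernel) es -- a8*φa8
  simp [polVal, monVal, vars, env, List.range_succ] at q28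
  have q29 := eqn (r := 29) (P := [[0, 0, 1, 0, 0, 1], [0, 1, 0, 0, 0, 0, 1, 0]]) (by decide +kernel) es -- b8*φp1 + φa2*a8
  simp [polVal, monVal, vars, env, List.range_succ] at q29
  clear es
  have h1 : v 1 = 0 := by simpa using q28
  simp [h1] at q29
  by_cases hv0 : v 0 = 0
  · exact good_no_first hσ he v hv0 h1 hsq
  have h3 : v 3 = 0 := by simpa [hv0] using q29
  have hshort : E φ v = Ys φ [(24, v 0), (26, v 2), (29, v 4), (31, v 5), (32, v 6), (36, v 7), (38, v 8),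
      (39, v 9), (40, v 10), (44, v 11)] := by
    rw [E_short [0, 2, 4, 5, 6, 7, 8, 9, 10, 11] (by intro i hi hS; interval_cases i <;> simp_all)]
    rfl
  rw [hshort] at hsq ⊢
  set a := v 2 / v 0 with ha
  set b := v 5 / v 0 with hb
  obtain ⟨w, hrel, hev⟩ := conjugate hσ he (Lw := [(25, a), (28, b)])
    (Lu := [(24, v 0), (26, v 2), (29, v 4), (31, v 5), (32, v 6), (36, v 7), (38, v 8), (39, v 9), (40, v 10),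
      (44, v 11)]) (by simp [keys]) (by simp [keys])
  refine Good.of_rel hrel ?_
  have hsq' := hrel.sq hsq
  have e := bridge (n := 12) [v 0, v 2, v 4, v 5, v 6, v 7, v 8, v 9, v 10, v 11, a, b] rfl w [(25, 10), (28, 11)]
    [(24, 0), (26, 1), (29, 2), (31, 3), (32, 4), (36, 5), (38, 6), (39, 7), (40, 8), (44, 9)]
    (by decide) (by decide) hev
  have h0 := eqn (r := 33) (P := [[0, 0, 0, 0, 0, 0, 0, 0, 0, 0, 0, 0, 0, 0, 0, 0, 0, 0, 0, 0, 0, 0, 0, 0, 1, 0], [1, 0]]) (by decide +kernel) e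
  simp [polVal, monVal, vars, env] at h0
  have h1 := eqn (r := 27) (P := [[0, 0, 0, 0, 0, 0, 0, 0, 0, 0, 0, 0, 0, 0, 0, 0, 0, 0, 0, 0, 0, 0, 0, 0, 0, 0, 1, 0]]) (by decide +kernel) e
  simp [polVal, monVal, vars, env] at h1
  have h2 := eqn (r := 34) (P := [[0, 0, 0, 0, 0, 0, 0, 0, 0, 0, 0, 0, 0, 0, 0, 0, 0, 0, 0, 0, 0, 0, 0, 0, 0, 0, 0, 0, 1, 0], [0, 0, 0, 0, 0, 0, 0, 0, 0, 0, 0, 0, 0, 0, 0, 0, 0, 0, 0, 0, 0, 0, 0, 0, 1, 0, 1, 0], [0, 0, 1, 0], [0, 0, 0, 0, 0, 0, 0, 0, 0, 0, 0, 0, 0, 0, 0, 0, 0, 0, 0, 0, 1, 0, 0, 0, 1, 0]]) (by decide +kernel) e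
  simp [polVal, monVal, vars, env] at h2
  have h3 := eqn (r := 28) (P := [[0, 0, 0, 0, 0, 0, 0, 0, 0, 0, 0, 0, 0, 0, 0, 0, 0, 0, 0, 0, 0, 1, 0, 0, 0, 0, 1, 0], [0, 0, 0, 0, 0, 0, 0, 0, 0, 0, 0, 0, 0, 0, 0, 0, 0, 0, 0, 0, 0, 0, 0, 0, 0, 0, 0, 0, 0, 0, 1, 0]]) (by decide +kernel) e
  simp [polVal, monVal, vars, env] at h3
  have h4 := eqn (r := 29) (P := [[0, 0, 0, 0, 0, 0, 0, 0, 0, 0, 0, 0, 0, 0, 0, 0, 0, 0, 0, 0, 0, 0, 0, 0, 0, 0, 1, 0, 0, 1], [0, 0, 0, 0, 0, 0, 0, 0, 0, 0, 0, 0, 0, 0, 0, 0, 0, 0, 0, 0, 0, 0, 0, 0, 0, 0, 0, 0, 0, 0, 0, 0, 1, 0], [0, 0, 0, 1, 0, 0, 0, 0, 0, 0, 0, 0, 0, 0, 0, 0, 0, 0, 0, 0, 1, 0], [0, 0, 0, 0, 1, 0], [0, 1, 0, 0, 0, 0, 0, 0, 0, 0, 0, 0, 0, 0, 0, 0, 0, 0, 0, 0, 0, 0, 1, 0]]) (by decide +kernel) e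
  simp [polVal, monVal, vars, env] at h4
  have h5 := eqn (r := 35) (P := [[0, 0, 0, 0, 0, 0, 0, 0, 0, 0, 0, 0, 0, 0, 0, 0, 0, 0, 0, 0, 0, 1, 0, 0, 0, 0, 0, 0, 1, 0], [0, 0, 0, 0, 0, 0, 0, 0, 0, 0, 0, 0, 0, 0, 0, 0, 0, 0, 0, 0, 0, 0, 0, 0, 0, 0, 0, 0, 0, 0, 0, 0, 0, 0, 1, 0], [0, 0, 0, 0, 0, 0, 0, 0, 0, 0, 0, 0, 0, 0, 0, 0, 0, 0, 0, 0, 0, 1, 0, 0, 1, 0, 1, 0], [0, 0, 0, 0, 0, 0, 0, 0, 0, 0, 0, 0, 0, 0, 0, 0, 0, 0, 0, 0, 0, 0, 0, 0, 1, 0, 0, 0, 0, 0, 1, 0], [0, 0, 0, 0, 0, 0, 1, 0], [0, 0, 0, 0, 0, 0, 0, 0, 0, 0, 0, 0, 0, 0, 0, 0, 0, 0, 0, 0, 0, 0, 1, 0, 1, 0]]) (by decide +kernel) e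
  simp [polVal, monVal, vars, env] at h5
  clear e hev
  have g0 : w 0 = v 0 := by grind
  try simp [g0] at h1
  have g1 : w 1 = 0 := by grind
  try simp [g0, g1] at h2
  have g2 : w 2 = 0 := by grind
  try simp [g0, g1, g2] at h3
  have g3 : w 3 = 0 := by grind
  simp [g0, g1, g2, g3] at h4 h5
  have g5 : w 5 = 0 := by grind
  rw [E_short [0, 4, 6, 7, 8, 9, 10, 11] (by intro i hi hS; interval_cases i <;> simp_all)] at hsq' ⊢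
  rw [show (((EL 0).filter fun p => decide (p.2 ∈ [0, 4, 6, 7, 8, 9, 10, 11])).map fun p => (p.1, w p.2)) =
    [(24, w 0), (29, w 4), (32, w 6), (36, w 7), (38, w 8), (39, w 9), (40, w 10), (44, w 11)] from rfl] at hsq' ⊢
  have es := bridge_sq (n := 8) [w 0, w 4, w 6, w 7, w 8, w 9, w 10, w 11] rfl
    [(24, 0), (29, 1), (32, 2), (36, 3), (38, 4), (39, 5), (40, 6), (44, 7)] (by decide) hsq'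
  have q36 := eqn (r := 36) (P := [[1, 0, 1, 0]]) (by decide +kernel) es -- a4*p1
  simp [polVal, monVal, vars, env] at q36
  have q38 := eqn (r := 38) (P := [[0, 1, 0, 0, 1, 0]]) (by decide +kernel) es -- φp1*p7
  simp [polVal, monVal, vars, env] at q38
  clear es
  have n0 : w 0 ≠ 0 := by rw [g0]; exact hv0
  have g4 : w 4 = 0 := by simpa [n0] using q36
  have g6 : w 6 = 0 := by simpa [n0] using q38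
  rw [show Ys φ [(24, w 0), (29, w 4), (32, w 6), (36, w 7), (38, w 8), (39, w 9), (40, w 10), (44, w 11)] =
    Ys φ [(24, w 0), (36, w 7), (38, w 8), (39, w 9), (40, w 10), (44, w 11)] by
      simp [Ys_cons, Ys_nil, Y_zero, g4, g6]] at hsq' ⊢
  have hr := rel_Q (m := m) (l := [(24, w 0), (36, w 7), (38, w 8), (39, w 9), (40, w 10), (44, w 11)]) (by simp)
  have hsq'' := hr.sq hsq'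
  obtain ⟨x, hx, hevx⟩ := reorder hσ he (L := [(32, w 0), (40, w 7), (39, w 8), (38, w 9), (36, w 10),
    (44, w 11)]) (by simp [keys])
  refine Good.of_rel hr ?_
  simp [piQ] at hsq'' ⊢
  rw [← hx] at hsq'' ⊢
  have e := bridge (n := 6) [w 0, w 7, w 8, w 9, w 10, w 11] rfl x []
    [(32, 0), (40, 1), (39, 2), (38, 3), (36, 4), (44, 5)] (by decide) (by decide) hevx
  have h0 := eqn (r := 33) (P := [[0, 0, 0, 0, 0, 0, 0, 0, 0, 0, 0, 0, 1, 0]]) (by decide +kernel) e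
  simp [polVal, monVal, vars, env] at h0
  have h1 := eqn (r := 27) (P := [[0, 0, 0, 0, 0, 0, 0, 0, 0, 0, 0, 0, 0, 0, 1, 0]]) (by decide +kernel) e
  simp [polVal, monVal, vars, env] at h1
  have h2 := eqn (r := 34) (P := [[0, 0, 0, 0, 0, 0, 0, 0, 0, 0, 0, 0, 0, 0, 0, 0, 1, 0], [0, 0, 0, 0, 0, 0, 0, 0, 0, 0, 0, 0, 1, 0, 1, 0]]) (by decide +kernel) e
  simp [polVal, monVal, vars, env] at h2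
  have h3 := eqn (r := 28) (P := [[0, 0, 0, 0, 0, 0, 0, 0, 0, 0, 0, 0, 0, 0, 0, 0, 0, 0, 1, 0]]) (by decide +kernel) e
  simp [polVal, monVal, vars, env] at h3
  clear e
  exact good_no_first hσ he x (by grind) (by grind) hsq''

/-- Every involution of the group is conjugate to one of the two representatives. -/
theorem exists_rep (x : GL chevF4.Idx K) (hx : x ∈ twistedF4 K (2 ^ m)) (ho : orderOf x = 2) :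
    Rel m x (Y φ 24 1) ∨ Rel m x (Y φ 44 1) := by
  obtain ⟨y, hy, hp⟩ := exists_pos_conj hσ he ⟨x, hx⟩ (by rw [Subgroup.orderOf_mk, ho])
  obtain ⟨c, hc⟩ := isConj_iff.1 hy
  have hr : Rel m x (y : GL chevF4.Idx K) := ⟨c, c.2, congrArg Subtype.val hc⟩
  obtain ⟨v, hv⟩ := exists_E hσ he hp y.2
  have hx2 : x * x = 1 := by rw [← pow_two, ← ho, pow_orderOf_eq_one]
  have hg : Good m x := Good.of_rel hr (by rw [hv]; exact good_all hσ he v (hv ▸ hr.sq hx2))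
  rcases hg with h | h
  · rw [h, orderOf_one] at ho; omega
  · exact h

end Group

end Cfsg.Agent.Lib.ReeInv
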