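import Cfsg.Agent.Lib.Twisted.Ree.F4Torus
import Cfsg.Agent.Lib.Twisted.Ree.Build
import Cfsg.Agent.Lib.Twisted.Core.Enum

/-!
The orbit data of the large Ree group, and the 2-part of its order.
-/

set_option autoImplicit false

namespace Cfsg.Agent.Lib.ReeInv

open Cfsg.Lie Cfsg.Agent.Lib.Chev Cfsg.Agent.Lib.Twisted Cfsg.Agent.Lib.Twisted.Core
open Cfsg.Agent.Lib.Twisted.ReeF

variable {K : Type*} [Field K]

/-- The exchange of the nodes. -/
def node (i : ℕ) : ℕ := 3 - i

theorem chk_rho : chkRho chevF4 F4.cert f4Iso.root node = true := by decide +kernel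

theorem chk_classP : chkClass chevF4 F4.cert [0, 3] LP [24, 33] = true := by decide +kernel

theorem chk_classQ : chkClass chevF4 F4.cert [1, 2] LQ [25, 27, 28, 30] = true := by decide +kernel

theorem chk_commP : chkComm chevF4 F4.cert f4Iso.root LP = true := by decide +kernel

theorem chk_commQ : chkComm chevF4 F4.cert f4Iso.root LQ = true := by decide +kernel

theorem uGrpP_eq : Twist.uGrp chevF4 K (wperm checked_F4 LP) = rootGen chevF4 K setP := by
  rw [Twist.uGrp, class_image checked_F4 isWord_LP (by decide) chk_classP]; rfl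

theorem uGrpQ_eq : Twist.uGrp chevF4 K (wperm checked_F4 LQ) = rootGen chevF4 K setQ := by
  rw [Twist.uGrp, class_image checked_F4 isWord_LQ (by decide) chk_classQ]; rfl

section

variable [CharP K 2] {m : ℕ} {σ : ↥(chevF4.group K) →* ↥(chevF4.group K)} (hσ : IsReeSigma (2 ^ m) σ)

omit [CharP K 2] in
theorem lam_neg : ∀ i < chevF4.rank, lam (2 ^ m) (ng chevF4 (chevF4.simple i)) = lam (2 ^ m) (chevF4.simple i) := by
  have h : ∀ i < chevF4.rank, f4Iso.expo (ng chevF4 (chevF4.simple i)) = f4Iso.expo (chevF4.simple i) := by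
    decide +kernel
  intro i hi
  rw [lam, lam, h i hi]

theorem lam_odd : ∀ i < chevF4.rank, (-1 : K) ^ lam (2 ^ m) (chevF4.simple i) = -1 := fun _ _ => by
  rw [neg_eq, one_pow]

/-- The twist of `F₄(K)`. -/
noncomputable def twist : Twist chevF4 F4.cert K := reeTwist rooted_F4 hσ chk_rho lam_neg lam_odd

variable (he : ∀ x : K, x ^ (2 * (2 ^ m * 2 ^ m)) = x) [Fintype K]

include hσ he in
omit [Fintype K] in
theorem card_fixed_P : Nat.card ↥(rootGen chevF4 K setP ⊓ fixSub σ) = Nat.card K := by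
  refine (Nat.card_congr (Equiv.ofBijective (fun t : K => (⟨(pairU (2 ^ m) t : GL chevF4.Idx K),
    pairU_mem_set _ _, mem_fixSub.2 (pairU_fixed hσ he t)⟩ : ↥(rootGen chevF4 K setP ⊓ fixSub σ)))
    ⟨fun a b h => ?_, fun g => ?_⟩)).symm
  · have h' : pairU (2 ^ m) a = pairU (2 ^ m) b := Subtype.ext (Subtype.mk.inj h)
    rw [pairU_eq, pairU_eq] at h'
    exact (srtP_injective h').1
  · obtain ⟨t, ht⟩ := exists_pairU hσ (g := ⟨g.1, fixSub_le σ g.2.2⟩) g.2.1 (mem_fixSub.1 g.2.2)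
    exact ⟨t, Subtype.ext (congrArg Subtype.val ht).symm⟩

include hσ he in
omit [Fintype K] in
theorem card_fixed_Q : Nat.card ↥(rootGen chevF4 K setQ ⊓ fixSub σ) = Nat.card K ^ 2 := by
  rw [sq, ← Nat.card_prod]
  refine (Nat.card_congr (Equiv.ofBijective (fun t : K × K => (⟨(classU (2 ^ m) t.1 t.2 : GL chevF4.Idx K),
    classU_mem_set _ _ _, mem_fixSub.2 (classU_fixed hσ he rfl t.1 t.2)⟩ : ↥(rootGen chevF4 K setQ ⊓ fixSub σ)))
    ⟨fun a b h => ?_, fun g => ?_⟩)).symm
  · have h' : classU (2 ^ m) a.1 a.2 = classU (2 ^ m) b.1 b.2 := Subtype.ext (Subtype.mk.inj h)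
    rw [classU_eq, classU_eq] at h'
    obtain ⟨e1, -, e3, -⟩ := srtQ_injective h'
    exact Prod.ext e1 e3
  · obtain ⟨t, u, ht⟩ := exists_classU hσ (g := ⟨g.1, fixSub_le σ g.2.2⟩) g.2.1 (mem_fixSub.1 g.2.2)
    exact ⟨(t, u), Subtype.ext (congrArg Subtype.val ht).symm⟩

include hσ he in
/-- The orbit data. -/
noncomputable def orbitSys : OrbitSys (twist hσ) (Fin 2) where
  G := twistedF4 K (2 ^ m)
  J j := if j = 0 then {0, 3} else {1, 2}
  word j := if j = 0 then LP else LQ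
  J_lt j := by fin_cases j <;> decide
  J_nonempty j := by fin_cases j <;> simp
  J_inj := by decide
  J_cover i hi := by
    have : i < 4 := hi
    interval_cases i
    exacts [⟨0, by simp⟩, ⟨1, by simp⟩, ⟨1, by simp⟩, ⟨0, by simp⟩]
  J_node j i hi := by
    show node i ∈ _
    fin_cases j <;> simp at hi <;> rcases hi with rfl | rfl <;> simp [node]
  J_trans j i hi i' hi' := by
    fin_cases j <;> simp at hi hi' <;> rcases hi with rfl | rfl <;> rcases hi' with rfl | rfl
    exacts [⟨0, rfl⟩, ⟨1, rfl⟩, ⟨1, rfl⟩, ⟨0, rfl⟩, ⟨0, rfl⟩, ⟨1, rfl⟩, ⟨1, rfl⟩, ⟨0, rfl⟩]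
  word_mem j i hi := by
    fin_cases j
    · simp [LP] at hi; rcases hi with rfl | rfl <;> simp
    · simp [LQ] at hi; rcases hi with rfl | rfl | rfl | rfl <;> simp
  word_invs j r := by
    fin_cases j
    · simpa using class_invs checked_F4 isWord_LP chk_classP r
    · simpa using class_invs checked_F4 isWord_LQ chk_classQ r
  word_sq j := by
    fin_cases j
    · exact class_sq checked_F4 isWord_LP chk_classP
    · exact class_sq checked_F4 isWord_LQ chk_classQ
  word_comm j := by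
    fin_cases j
    · exact reeTwist_comm rooted_F4 hσ chk_rho lam_neg lam_odd isWord_LP chk_commP
    · exact reeTwist_comm rooted_F4 hσ chk_rho lam_neg lam_odd isWord_LQ chk_commQ
  G_le := le_fixSub hσ he
  unip j := by
    intro g hg
    fin_cases j
    · have h1 : g ∈ rootGen chevF4 K setP := by rw [← uGrpP_eq]; exact hg.1
      obtain ⟨t, ht⟩ := exists_pairU hσ (g := ⟨g, fixSub_le σ hg.2⟩) h1 (mem_fixSub.1 hg.2)
      have e := congrArg Subtype.val ht
      dsimp only at e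
      rw [e]; exact pairU_mem t
    · have h1 : g ∈ rootGen chevF4 K setQ := by rw [← uGrpQ_eq]; exact hg.1
      obtain ⟨t, u, ht⟩ := exists_classU hσ (g := ⟨g, fixSub_le σ hg.2⟩) h1 (mem_fixSub.1 hg.2)
      have e := congrArg Subtype.val ht
      dsimp only at e
      rw [e]; exact classU_mem t u
  rep j := by
    fin_cases j
    · exact ⟨(nP (K := K) : GL chevF4.Idx K), nP_mem, 1, one_mem _, by rw [mul_one]; exact coe_nP⟩
    · exact ⟨(nQ (K := K) : GL chevF4.Idx K), nQ_mem, 1, one_mem _, by rw [mul_one]; exact coe_nQ⟩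
  torus := by
    rintro g ⟨h1, h2⟩
    obtain ⟨s, t, e⟩ := fixed_torus hσ g h1 h2
    rw [e]
    exact ct_mem hσ he s t
  d := 2
  d_ne := two_ne_zero
  card_unip j := by
    fin_cases j
    · show Nat.card ↥(Twist.uGrp chevF4 K (wperm checked_F4 LP) ⊓ fixSub σ) ^ 2 =
        Nat.card K ^ (invs (wperm checked_F4 LP)).card
      rw [uGrpP_eq, card_fixed_P hσ he, class_card checked_F4 isWord_LP (by decide) (by decide) chk_classP]
      rfl
    · show Nat.card ↥(Twist.uGrp chevF4 K (wperm checked_F4 LQ) ⊓ fixSub σ) ^ 2 =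
        Nat.card K ^ (invs (wperm checked_F4 LQ)).card
      rw [uGrpQ_eq, card_fixed_Q hσ he, class_card checked_F4 isWord_LQ (by decide) (by decide) chk_classQ,
        ← pow_mul]
      rfl

/-- The words for the sixteen elements of the Weyl group. -/
def els : List (List ℕ) :=
  [[0, 1, 0, 1, 0], [1, 0, 1, 0], [1, 0, 1, 0, 1, 0], [0, 1, 0], [0, 1, 0, 1, 0, 1, 0], [1, 0],
    [0, 1, 0, 1, 0, 1, 0, 1], [0], [1, 0, 1, 0, 1, 0, 1], [], [0, 1, 0, 1, 0, 1], [1], [1, 0, 1, 0, 1], [0, 1],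
    [0, 1, 0, 1], [1, 0, 1]]

theorem chk_enum : chkEnum chevF4 F4.cert [LP, LQ] els 9
    [[14, 10], [15, 12], [12, 8], [13, 14], [10, 6], [11, 15], [8, 4], [9, 13], [6, 2], [7, 11], [4, 0], [5, 9],
      [2, 1], [3, 7], [0, 3], [1, 5]] = true := by decide +kernel

theorem lens_eq : els.map (fun L => invLen chevF4 F4.cert (orbWord [LP, LQ] L)) =
    [14, 12, 18, 8, 20, 6, 24, 2, 22, 0, 18, 4, 16, 6, 12, 10] := by decide +kernel

include hσ he in
theorem card_pos_fixed : Nat.card ↥(chevF4.posUnipotent K ⊓ twistedF4 K (2 ^ m)) = Nat.card K ^ 12 := by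
  have h := (orbitSys hσ he).card_pos
  have h' : Nat.card ↥(chevF4.posUnipotent K ⊓ twistedF4 K (2 ^ m)) ^ 2 = (Nat.card K ^ 12) ^ 2 := by
    rw [← pow_mul]; exact h
  exact Nat.pow_left_injective two_ne_zero h'

include hσ he in
/-- The positive fixed part is a Sylow 2-subgroup. -/
theorem not_two_dvd_index :
    ¬ 2 ∣ ((chevF4.posUnipotent K).subgroupOf (twistedF4 K (2 ^ m))).index := by
  set S := orbitSys hσ he with hS
  have h1 := S.card_eq_sum (orb := [LP, LQ]) rfl chk_enum (fun n => Nat.card K ^ (n / 2)) fun L hL => by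
    have hlen : invLen chevF4 F4.cert (orbWord [LP, LQ] L) % 2 = 0 :=
      (by decide +kernel : ∀ L ∈ els, invLen chevF4 F4.cert (orbWord [LP, LQ] L) % 2 = 0) L hL
    show Nat.card K ^ _ = (Nat.card K ^ _) ^ 2
    rw [← pow_mul]
    congr 1
    omega
  rw [← Function.comp_def (fun n => Nat.card K ^ (n / 2)), ← List.map_map, lens_eq] at h1
  have hdiag : Nat.card ↥(chevF4.diagonalSubgroup K ⊓ twistedF4 K (2 ^ m)) = Nat.card Kˣ * Nat.card Kˣ := by
    rw [← Nat.card_prod]
    refine (Nat.card_congr (Equiv.ofBijective (fun s : Kˣ × Kˣ =>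
      (⟨(ct (2 ^ m) s.1 s.2 : GL chevF4.Idx K), by
        rw [rooted_F4.diagonalSubgroup_eq]; exact ⟨_, rfl⟩, ct_mem hσ he s.1 s.2⟩ :
          ↥(chevF4.diagonalSubgroup K ⊓ twistedF4 K (2 ^ m))))
      ⟨fun s s' h => ?_, fun g => ?_⟩)).symm
    · obtain ⟨-, -, h3, h4⟩ := quad_inj (congrArg Subtype.val h)
      exact Prod.ext h4 h3
    · obtain ⟨s, t, hs⟩ := fixed_torus hσ g.1 g.2.1 (le_fixSub hσ he g.2.2)
      exact ⟨(s, t), Subtype.ext hs.symm⟩
  have hb : Nat.card ↥(chevF4.borelSubgroup K ⊓ twistedF4 K (2 ^ m)) =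
      Nat.card ↥(chevF4.posUnipotent K ⊓ twistedF4 K (2 ^ m)) *
        Nat.card ↥(chevF4.diagonalSubgroup K ⊓ twistedF4 K (2 ^ m)) := S.card_borel
  have hG : Nat.card ↥(twistedF4 K (2 ^ m)) = Nat.card ↥(chevF4.borelSubgroup K ⊓ twistedF4 K (2 ^ m)) *
      (([14, 12, 18, 8, 20, 6, 24, 2, 22, 0, 18, 4, 16, 6, 12, 10] : List ℕ).map
        fun n => Nat.card K ^ (n / 2)).sum := h1
  have hcard : Nat.card ↥((chevF4.posUnipotent K).subgroupOf (twistedF4 K (2 ^ m))) = Nat.card K ^ 12 := by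
    rw [← card_pos_fixed hσ he, ← Subgroup.inf_subgroupOf_right]
    exact Nat.card_congr (Subgroup.subgroupOfEquivOfLe inf_le_right).toEquiv
  have hq : 1 < Nat.card K := Finite.one_lt_card
  have heven : 2 ∣ Nat.card K := by
    rw [Nat.card_eq_fintype_card]
    exact (Nat.prime_dvd_prime_iff_eq Nat.prime_two Nat.prime_two).2 rfl |>.trans
      (CharP.cast_eq_zero_iff K 2 _ |>.1 (FiniteField.cast_card_eq_zero K))
  have hu : ¬ 2 ∣ Nat.card Kˣ := by
    rw [Nat.card_units]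
    omega
  have hmul := Subgroup.card_mul_index ((chevF4.posUnipotent K).subgroupOf (twistedF4 K (2 ^ m)))
  rw [hcard, hG, hb, card_pos_fixed hσ he, hdiag] at hmul
  have hidx : ∀ q I u S : ℕ, 0 < q → q * I = q * (u * u) * S → I = u * (u * S) := fun q I u S h0 e =>
    Nat.eq_of_mul_eq_mul_left h0 (by rw [e]; ring)
  rw [hidx _ _ _ _ (pow_pos (by omega) 12) hmul]
  have hp : Even (Nat.card K) := even_iff_two_dvd.2 heven
  have ho : Odd (Nat.card Kˣ) := Nat.odd_iff.2 (by omega)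
  rw [← even_iff_two_dvd, Nat.not_even_iff_odd]
  refine ho.mul (ho.mul ?_)
  rw [Nat.odd_iff]
  have h2 := Nat.even_iff.1 hp
  generalize Nat.card K = q at h2 ⊢
  norm_num [Nat.add_mod, Nat.pow_mod, h2]

end

end Cfsg.Agent.Lib.ReeInv
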