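import Cfsg.Agent.Lib.ReeInv.Collect
import Cfsg.Agent.Lib.ReeInv.System

/-!
The twelve one-parameter families of positive twisted root elements of the large Ree group, with a parameter
`t` and its image `φ t` under the endomorphism with `φ (φ t) = t ^ 2`.
-/

set_option autoImplicit false

namespace Cfsg.Agent.Lib.ReeInv

open Cfsg.Lie Cfsg.Agent.Lib.Chev Cfsg.Agent.Lib.ChevCent

theorem rooted : Rooted chevF4 F4.cert := Twisted.ReeF.rooted_F4

/-- The leading roots, in increasing order. -/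
def keys : List ℕ := [24, 25, 26, 28, 29, 31, 32, 36, 38, 39, 40, 44]

/-- The roots of each family with the exponents of `t` and `φ t`. -/
def tmpl : ℕ → List (ℕ × ℕ × ℕ)
  | 24 => [(24, 0, 1), (33, 1, 0)]
  | 32 => [(32, 0, 1), (37, 1, 0)]
  | 38 => [(38, 1, 0), (43, 0, 1)]
  | 39 => [(39, 1, 0), (45, 0, 1)]
  | 28 => [(28, 1, 0), (30, 0, 1)]
  | 36 => [(36, 1, 0), (42, 0, 1)]
  | 40 => [(40, 1, 0), (46, 0, 1)]
  | 44 => [(44, 1, 0), (47, 0, 1)]
  | 25 => [(25, 0, 1), (27, 1, 0), (30, 2, 1)]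
  | 26 => [(26, 0, 1), (34, 1, 0), (42, 2, 1)]
  | 31 => [(31, 0, 1), (35, 1, 0), (46, 2, 1)]
  | 29 => [(29, 1, 0), (41, 0, 1), (44, 1, 1)]
  | _ => []

/-- A family with a variable as parameter. -/
def pY (k n : ℕ) : PWord := (tmpl k).map fun c => (c.1, [List.replicate (2 * n) 0 ++ [c.2.1, c.2.2]])

/-- A product of families with variables as parameters. -/
def pYs (L : List (ℕ × ℕ)) : PWord := L.flatMap fun p => pY p.1 p.2

variable {K : Type*} [Field K]

/-- A twisted root element. -/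
noncomputable def Y (φ : K →+* K) (k : ℕ) (t : K) : GL chevF4.Idx K :=
  ((tmpl k).map fun c => xg rooted.toChecked c.1 (t ^ c.2.1 * φ t ^ c.2.2)).prod

/-- A product of twisted root elements. -/
noncomputable def Ys (φ : K →+* K) (L : List (ℕ × K)) : GL chevF4.Idx K := (L.map fun p => Y φ p.1 p.2).prod

/-- The variables and their images. -/
def vars (φ : K →+* K) (v : ℕ → K) : ℕ → List K
  | 0 => []
  | n + 1 => v 0 :: φ (v 0) :: vars φ (fun i => v (i + 1)) n

variable {φ : K →+* K}

theorem monVal_var : ∀ (N n : ℕ) (v : ℕ → K), n < N → ∀ i j : ℕ,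
    monVal (vars φ v N) (List.replicate (2 * n) 0 ++ [i, j]) = v n ^ i * φ (v n) ^ j := by
  intro N
  induction N with
  | zero => intro n v h; omega
  | succ N ih =>
    intro n v h i j
    cases n with
    | zero => simp [vars, monVal]
    | succ n =>
      have := ih n (fun i => v (i + 1)) (by omega) i j
      rw [show 2 * (n + 1) = 2 * n + 1 + 1 by ring, List.replicate_succ, List.replicate_succ]
      simp only [List.cons_append, vars, monVal, pow_zero, one_mul, this]

theorem val_pY [CharP K 2] {N n : ℕ} (h : n < N) (k : ℕ) (v : ℕ → K) :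
    val rooted.toChecked (vars φ v N) (pY k n) = Y φ k (v n) := by
  simp only [val, pY, Y, List.map_map]
  congr 1
  refine List.map_congr_left fun c _ => ?_
  simp [polVal, monVal_var N n v h]

theorem val_pYs [CharP K 2] {N : ℕ} (v : ℕ → K) : ∀ {L : List (ℕ × ℕ)}, (∀ p ∈ L, p.2 < N) →
    val rooted.toChecked (vars φ v N) (pYs L) = Ys φ (L.map fun p => (p.1, v p.2))
  | [], _ => rfl
  | p :: L, h => by
    have := val_pYs (L := L) v fun q hq => h q (List.mem_cons_of_mem _ hq)
    simp only [pYs, Ys, List.flatMap_cons, List.map_cons, List.prod_cons] at this ⊢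
    rw [val_append, this, val_pY (h p List.mem_cons_self)]

theorem Ys_cons (p : ℕ × K) (L : List (ℕ × K)) : Ys φ (p :: L) = Y φ p.1 p.2 * Ys φ L := by simp [Ys]

theorem Ys_nil : Ys φ ([] : List (ℕ × K)) = 1 := rfl

theorem Ys_append (L M : List (ℕ × K)) : Ys φ (L ++ M) = Ys φ L * Ys φ M := by simp [Ys, List.prod_append]

theorem Y_zero (k : ℕ) : Y φ k (0 : K) = 1 := by
  refine List.prod_eq_one fun x hx => ?_
  obtain ⟨c, hc, rfl⟩ := List.mem_map.1 hx
  have : c.2.1 ≠ 0 ∨ c.2.2 ≠ 0 := by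
    unfold tmpl at hc
    split at hc
    all_goals simp only [List.mem_cons, List.not_mem_nil, or_false] at hc
    all_goals first
      | exact hc.elim
      | (rcases hc with rfl | rfl | rfl <;> simp)
      | (rcases hc with rfl | rfl <;> simp)
  rcases this with h | h <;> simp [zero_pow h, xg_zero]

section Fixed

variable [CharP K 2]

/-- The endomorphism `t ↦ t ^ (2 ^ (m + 1))`. -/
noncomputable def frob (K : Type*) [Field K] [CharP K 2] (m : ℕ) : K →+* K :=
  haveI : Fact (Nat.Prime 2) := ⟨Nat.prime_two⟩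
  iterateFrobenius K 2 (m + 1)

theorem frob_apply (m : ℕ) (x : K) : frob K m x = x ^ (2 ^ (m + 1)) := by
  simp [frob, iterateFrobenius_def]

theorem frob_frob {m : ℕ} (he : ∀ x : K, x ^ (2 * (2 ^ m * 2 ^ m)) = x) (x : K) :
    frob K m (frob K m x) = x ^ 2 := by
  rw [frob_apply, frob_apply, ← pow_mul, show 2 ^ (m + 1) * 2 ^ (m + 1) = 2 * (2 ^ m * 2 ^ m) * 2 by ring,
    pow_mul, he]

theorem frob_pow_e {m : ℕ} (he : ∀ x : K, x ^ (2 * (2 ^ m * 2 ^ m)) = x) (x : K) :
    frob K m x ^ (2 ^ m) = x := by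
  rw [frob_apply, ← pow_mul, show 2 ^ (m + 1) * 2 ^ m = 2 * (2 ^ m * 2 ^ m) by ring, he]

end Fixed

end Cfsg.Agent.Lib.ReeInv
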