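import Cfsg.Agent.Lib.ReeInv.Elems

/-!
The twisted root elements lie in the group, are exchanged by the two Weyl representatives, and their ordered
products exhaust the positive fixed part.
-/

set_option autoImplicit false

namespace Cfsg.Agent.Lib.ReeInv

open Cfsg.Lie Cfsg.Agent.Lib.Chev Cfsg.Agent.Lib.ChevCent

/-- Two words with the same increasing form. -/
def same (v w : PWord) : Bool :=
  decide (collect chevF4 F4.cert v = collect chevF4 F4.cert w)

/-- The equation read off at a root. -/
def chkEq (v w : PWord) (r : ℕ) (P : Pol) : Bool :=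
  increasing chevF4 24 (collect chevF4 F4.cert v) && increasing chevF4 24 (collect chevF4 F4.cert w) &&
    Nat.ble 24 r && Nat.blt r 48 &&
    (polAdd (polAdd (coefAt r (collect chevF4 F4.cert v)) (coefAt r (collect chevF4 F4.cert w))) P).isEmpty

/-- Exchange of the roots in a word. -/
def mapR (L : List ℕ) (w : PWord) : PWord := w.map fun t => (perm F4.cert L t.1, t.2)

variable {K : Type*} [Field K] [CharP K 2]

theorem val_same {v w : PWord} (h : same v w = true) (xs : List K) :
    val rooted.toChecked xs v = val rooted.toChecked xs w := by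
  rw [← val_collect rooted.toChecked xs v, ← val_collect rooted.toChecked xs w, of_decide_eq_true h]

theorem eqn {v w : PWord} {r : ℕ} {P : Pol} (h : chkEq v w r P = true) {xs : List K}
    (e : val rooted.toChecked xs v = val rooted.toChecked xs w) : polVal xs P = 0 := by
  simp only [chkEq, Bool.and_eq_true, Nat.ble_eq, Nat.blt_eq, List.isEmpty_iff] at h
  obtain ⟨⟨⟨⟨h1, h2⟩, h3⟩, h4⟩, h5⟩ := h
  have e1 := coord_eq rooted xs h1 h2 e h3 h4
  have e2 := congrArg (polVal xs) h5
  rw [polVal_add, polVal_add, e1, CharTwo.add_self_eq_zero, zero_add] at e2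
  exact e2

open Twisted.ReeF (nP nQ nP_mem nQ_mem pairU classU pairU_mem classU_mem LP LQ)

theorem xg_eq_xG (r : ℕ) (t : K) :
    xg rooted.toChecked r t = (Twisted.xG (K := K) checked_F4 r t : GL chevF4.Idx K) :=
  Units.ext (by rw [coe_xg, Twisted.coe_xG])

theorem coe_wordG_map (w : List (ℕ × K)) :
    (Twisted.wordG checked_F4 w : GL chevF4.Idx K) = (w.map fun p => xg rooted.toChecked p.1 p.2).prod := by
  induction w with
  | nil => rfl
  | cons p w ih => rw [Twisted.wordG_cons, Subgroup.coe_mul, ih, ← xg_eq_xG, List.map_cons, List.prod_cons]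

theorem conj_val {L : List ℕ} (hL : IsWord chevF4 L) (xs : List K) : ∀ {w : PWord}, (∀ t ∈ w, t.1 < 48) →
    ((Twisted.wordG checked_F4 (Twisted.castW K (Twisted.nInts chevF4 L)) : GL chevF4.Idx K)) * val rooted.toChecked xs w *
      (Twisted.wordG checked_F4 (Twisted.castW K (Twisted.nInts chevF4 L)) : GL chevF4.Idx K)⁻¹ =
    val rooted.toChecked xs (mapR L w)
  | [], _ => by simp [val_nil, mapR]
  | t :: w, h => by
    have ih := conj_val hL xs (w := w) fun a ha => h a (List.mem_cons_of_mem _ ha)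
    have e := congrArg Subtype.val (Twisted.ReeF.n_conj (K := K) hL t.1 (h t List.mem_cons_self) (polVal xs t.2))
    simp only [Subgroup.coe_mul, Subgroup.coe_inv, one_mul, ← xg_eq_xG] at e
    simp only [mapR, List.map_cons] at ih ⊢
    rw [val_cons, val_cons, ← e, ← ih]
    group

theorem conj_nP (xs : List K) {w : PWord} (h : ∀ t ∈ w, t.1 < 48) :
    (nP (K := K) : GL chevF4.Idx K) * val rooted.toChecked xs w * (nP (K := K) : GL chevF4.Idx K)⁻¹ =
      val rooted.toChecked xs (mapR LP w) := conj_val Twisted.ReeF.isWord_LP xs h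

theorem conj_nQ (xs : List K) {w : PWord} (h : ∀ t ∈ w, t.1 < 48) :
    (nQ (K := K) : GL chevF4.Idx K) * val rooted.toChecked xs w * (nQ (K := K) : GL chevF4.Idx K)⁻¹ =
      val rooted.toChecked xs (mapR LQ w) := conj_val Twisted.ReeF.isWord_LQ xs h

theorem pYs_lt (L : List (ℕ × ℕ)) (h : (pYs L).all (fun t => Nat.blt t.1 48) = true) : ∀ t ∈ pYs L, t.1 < 48 :=
  fun t ht => by
    have := List.all_eq_true.1 h t ht
    simpa using this

variable {φ : K →+* K}

theorem conj_Y {L : List ℕ} (hL : IsWord chevF4 L) {k k' : ℕ}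
    (h : ((pY k 0).all (fun t => Nat.blt t.1 48) && same (mapR L (pY k 0)) (pY k' 0)) = true) (t : K) :
    (Twisted.wordG checked_F4 (Twisted.castW K (Twisted.nInts chevF4 L)) : GL chevF4.Idx K) * Y φ k t *
      (Twisted.wordG checked_F4 (Twisted.castW K (Twisted.nInts chevF4 L)) : GL chevF4.Idx K)⁻¹ = Y φ k' t := by
  rw [Bool.and_eq_true] at h
  rw [← val_pY (N := 1) zero_lt_one k fun _ => t, conj_val hL _ fun a ha => by
    simpa using List.all_eq_true.1 h.1 a ha, val_same h.2, val_pY zero_lt_one]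

section Group

variable {m : ℕ} (he : ∀ x : K, x ^ (2 * (2 ^ m * 2 ^ m)) = x)
include he

theorem mem_base (t : K) : Y (frob K m) 24 t ∈ twistedF4 K (2 ^ m) ∧ Y (frob K m) 25 t ∈ twistedF4 K (2 ^ m) ∧
    Y (frob K m) 28 t ∈ twistedF4 K (2 ^ m) := by
  have hf := frob_apply m t
  have hpe := frob_pow_e he t
  have hz : (0 : K) ^ (2 ^ m) = 0 := zero_pow (pow_ne_zero _ two_ne_zero)
  have hv : ∀ k, val rooted.toChecked (vars (frob K m) (fun _ => t) 1) (pY k 0) = Y (frob K m) k t :=
    fun k => val_pY zero_lt_one k _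
  refine ⟨?_, ?_, ?_⟩
  · have e : (pairU (2 ^ m) (frob K m t) : GL chevF4.Idx K) =
        val rooted.toChecked (vars (frob K m) (fun _ => t) 1) [(33, [[1, 0]]), (24, [[0, 1]])] := by
      simp [pairU, coe_wordG_map, val, f4PairWord, f4p1, f4p4, vars, polVal, monVal, hpe]
    rw [← hv, ← val_same (v := [(33, [[1, 0]]), (24, [[0, 1]])]) (by decide +kernel), ← e]
    exact pairU_mem _
  · have e : (classU (2 ^ m) (frob K m t) 0 : GL chevF4.Idx K) =
        val rooted.toChecked (vars (frob K m) (fun _ => t) 1)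
          [(27, [[1, 0]]), (25, [[0, 1]]), (28, [[1, 1]]), (30, [])] := by
      simp [classU, coe_wordG_map, val, b2ClassWord, f4a, f4b, f4ab, f4aab, vars, polVal, monVal, hpe, pow_succ,
        zero_pow, xg_zero]
    rw [← hv, ← val_same (v := [(27, [[1, 0]]), (25, [[0, 1]]), (28, [[1, 1]]), (30, [])]) (by decide +kernel), ← e]
    exact classU_mem _ _
  · have e : (classU (2 ^ m) 0 t : GL chevF4.Idx K) =
        val rooted.toChecked (vars (frob K m) (fun _ => t) 1)
          [(27, []), (25, []), (28, [[1, 0]]), (30, [[0, 1]])] := by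
      simp [classU, coe_wordG_map, val, b2ClassWord, f4a, f4b, f4ab, f4aab, vars, polVal, monVal, hz, xg_zero,
        hf, pow_succ']
    rw [← hv, ← val_same (v := [(27, []), (25, []), (28, [[1, 0]]), (30, [[0, 1]])]) (by decide +kernel), ← e]
    exact classU_mem _ _

theorem mem_Y {k : ℕ} (hk : k ∈ keys) (t : K) : Y (frob K m) k t ∈ twistedF4 K (2 ^ m) := by
  have hA : ∀ {k k' : ℕ}, ((pY k 0).all (fun t => Nat.blt t.1 48) && same (mapR LP (pY k 0)) (pY k' 0)) = true →
      Y (frob K m) k t ∈ twistedF4 K (2 ^ m) → Y (frob K m) k' t ∈ twistedF4 K (2 ^ m) := fun h hm => by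
    rw [← conj_Y Twisted.ReeF.isWord_LP h t]
    exact mul_mem (mul_mem nP_mem hm) (inv_mem nP_mem)
  have hB : ∀ {k k' : ℕ}, ((pY k 0).all (fun t => Nat.blt t.1 48) && same (mapR LQ (pY k 0)) (pY k' 0)) = true →
      Y (frob K m) k t ∈ twistedF4 K (2 ^ m) → Y (frob K m) k' t ∈ twistedF4 K (2 ^ m) := fun h hm => by
    rw [← conj_Y Twisted.ReeF.isWord_LQ h t]
    exact mul_mem (mul_mem nQ_mem hm) (inv_mem nQ_mem)
  obtain ⟨b1, b2, b3⟩ := mem_base he t
  have m32 := hB (k := 24) (k' := 32) (by decide +kernel) b1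
  have m38 := hA (k := 32) (k' := 38) (by decide +kernel) m32
  have m39 := hB (k := 38) (k' := 39) (by decide +kernel) m38
  have m36 := hA (k := 28) (k' := 36) (by decide +kernel) b3
  have m40 := hB (k := 36) (k' := 40) (by decide +kernel) m36
  have m44 := hA (k := 40) (k' := 44) (by decide +kernel) m40
  have m26 := hA (k := 25) (k' := 26) (by decide +kernel) b2
  have m31 := hB (k := 26) (k' := 31) (by decide +kernel) m26
  have m29 := hA (k := 31) (k' := 29) (by decide +kernel) m31
  simp only [keys, List.mem_cons, List.not_mem_nil, or_false] at hk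
  rcases hk with rfl | rfl | rfl | rfl | rfl | rfl | rfl | rfl | rfl | rfl | rfl | rfl <;> assumption

theorem mem_Ys : ∀ {L : List (ℕ × K)}, (∀ p ∈ L, p.1 ∈ keys) → Ys (frob K m) L ∈ twistedF4 K (2 ^ m)
  | [], _ => one_mem _
  | p :: L, h => by
    rw [Ys_cons]
    exact mul_mem (mem_Y he (h p List.mem_cons_self) _) (mem_Ys fun q hq => h q (List.mem_cons_of_mem _ hq))

end Group

omit [CharP K 2] in
theorem mem_pos_Ys : ∀ {L : List (ℕ × K)}, (∀ p ∈ L, p.1 ∈ keys) → Ys φ L ∈ chevF4.posUnipotent K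
  | [], _ => one_mem _
  | p :: L, h => by
    rw [Ys_cons]
    refine mul_mem ?_ (mem_pos_Ys fun q hq => h q (List.mem_cons_of_mem _ hq))
    rw [rooted.toChecked.posUnipotent_eq]
    refine list_prod_mem fun x hx => ?_
    obtain ⟨c, hc, rfl⟩ := List.mem_map.1 hx
    refine xg_mem_rootGen _ ?_ _
    have hall : (keys.all fun k => (tmpl k).all fun c => Nat.ble 24 c.1 && Nat.blt c.1 48) = true := by decide
    simp only [List.all_eq_true, Bool.and_eq_true, Nat.ble_eq, Nat.blt_eq] at hall
    exact hall p.1 (h p List.mem_cons_self) c hc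

end Cfsg.Agent.Lib.ReeInv
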