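import Cfsg.Agent.Lib.ReeInv.Mem

/-!
The ordered products of the twelve families are the whole positive fixed part, and it is a Sylow 2-subgroup.
-/

set_option autoImplicit false
set_option linter.unusedSimpArgs false
set_option maxHeartbeats 1600000

namespace Cfsg.Agent.Lib.ReeInv

open Cfsg.Lie Cfsg.Agent.Lib.Chev Cfsg.Agent.Lib.ChevCent

/-- The families with their variables, starting at a given number. -/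
def EL (b : ℕ) : List (ℕ × ℕ) := (List.range 12).map fun i => (keys.getD i 0, b + i)

variable {K : Type*} [Field K] [CharP K 2]

/-- The ordered product of all twelve families. -/
noncomputable def E (φ : K →+* K) (v : ℕ → K) : GL chevF4.Idx K :=
  Ys φ ((EL 0).map fun p => (p.1, v p.2))

variable {φ : K →+* K}

omit [CharP K 2] in
theorem E_keys (v : ℕ → K) : ∀ p ∈ (EL 0).map (fun p => (p.1, v p.2)), p.1 ∈ keys := by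
  intro p hp
  obtain ⟨q, hq, rfl⟩ := List.mem_map.1 hp
  exact (by decide : ∀ q ∈ EL 0, q.1 ∈ keys) q hq

theorem E_mem_pos (v : ℕ → K) : E φ v ∈ chevF4.posUnipotent K := mem_pos_Ys (E_keys v)

theorem E_mem {m : ℕ} (he : ∀ x : K, x ^ (2 * (2 ^ m * 2 ^ m)) = x) (v : ℕ → K) :
    E (frob K m) v ∈ twistedF4 K (2 ^ m) := mem_Ys he (E_keys v)

theorem E_injective {v w : ℕ → K} (e : E φ v = E φ w) : ∀ i < 12, v i = w i := by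
  set u : ℕ → K := fun i => if i < 12 then v i else w (i - 12) with hu
  have e' : val rooted.toChecked (vars φ u 24) (pYs (EL 0)) = val rooted.toChecked (vars φ u 24) (pYs (EL 12)) := by
    rw [val_pYs u (by decide), val_pYs u (by decide)]
    have h1 : (EL 0).map (fun p => (p.1, u p.2)) = (EL 0).map fun p => (p.1, v p.2) :=
      List.map_congr_left fun p hp => by
        have : p.2 < 12 := (by decide : ∀ q ∈ EL 0, q.2 < 12) p hp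
        simp [hu, this]
    have h2 : (EL 12).map (fun p => (p.1, u p.2)) = (EL 0).map fun p => (p.1, w p.2) := by
      simp [EL, hu, List.range_succ, keys]
    rw [h1, h2]
    exact e
  have h0 := eqn (r := 33) (P := [[0, 0, 0, 0, 0, 0, 0, 0, 0, 0, 0, 0, 0, 0, 0, 0, 0, 0, 0, 0, 0, 0, 0, 0, 1, 0], [1, 0]]) (by decide +kernel) e'
  have h1 := eqn (r := 27) (P := [[0, 0, 0, 0, 0, 0, 0, 0, 0, 0, 0, 0, 0, 0, 0, 0, 0, 0, 0, 0, 0, 0, 0, 0, 0, 0, 1, 0], [0, 0, 1, 0]]) (by decide +kernel) e'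
  have h2 := eqn (r := 34) (P := [[0, 0, 0, 0, 0, 0, 0, 0, 0, 0, 0, 0, 0, 0, 0, 0, 0, 0, 0, 0, 0, 0, 0, 0, 0, 0, 0, 0, 1, 0], [0, 0, 0, 0, 0, 0, 0, 0, 0, 0, 0, 0, 0, 0, 0, 0, 0, 0, 0, 0, 0, 0, 0, 0, 1, 0, 1, 0], [0, 0, 0, 0, 1, 0], [1, 0, 1, 0]]) (by decide +kernel) e'
  have h3 := eqn (r := 28) (P := [[0, 0, 0, 0, 0, 0, 0, 0, 0, 0, 0, 0, 0, 0, 0, 0, 0, 0, 0, 0, 0, 0, 0, 0, 0, 0, 0, 0, 0, 0, 1, 0], [0, 0, 0, 0, 0, 0, 1, 0]]) (by decide +kernel) e'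
  have h4 := eqn (r := 29) (P := [[0, 0, 0, 0, 0, 0, 0, 0, 0, 0, 0, 0, 0, 0, 0, 0, 0, 0, 0, 0, 0, 0, 0, 0, 0, 0, 1, 0, 0, 1], [0, 0, 0, 0, 0, 0, 0, 0, 0, 0, 0, 0, 0, 0, 0, 0, 0, 0, 0, 0, 0, 0, 0, 0, 0, 0, 0, 0, 0, 0, 0, 0, 1, 0], [0, 0, 1, 0, 0, 1], [0, 0, 0, 0, 0, 0, 0, 0, 1, 0]]) (by decide +kernel) e'
  have h5 := eqn (r := 35) (P := [[0, 0, 0, 0, 0, 0, 0, 0, 0, 0, 0, 0, 0, 0, 0, 0, 0, 0, 0, 0, 0, 0, 0, 0, 0, 0, 0, 0, 0, 0, 0, 0, 0, 0, 1, 0], [0, 0, 0, 0, 0, 0, 0, 0, 0, 0, 0, 0, 0, 0, 0, 0, 0, 0, 0, 0, 0, 0, 0, 0, 1, 0, 0, 0, 0, 0, 1, 0], [0, 0, 0, 0, 0, 0, 0, 0, 0, 0, 1, 0], [1, 0, 0, 0, 0, 0, 1, 0]]) (by decide +kernel) e'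
  have h6 := eqn (r := 37) (P := [[0, 0, 0, 0, 0, 0, 0, 0, 0, 0, 0, 0, 0, 0, 0, 0, 0, 0, 0, 0, 0, 0, 0, 0, 0, 0, 0, 0, 1, 0, 1, 0], [0, 0, 0, 0, 0, 0, 0, 0, 0, 0, 0, 0, 0, 0, 0, 0, 0, 0, 0, 0, 0, 0, 0, 0, 1, 0, 1, 0, 0, 0, 1, 0], [0, 0, 0, 0, 0, 0, 0, 0, 0, 0, 0, 0, 0, 0, 0, 0, 0, 0, 0, 0, 0, 0, 0, 0, 1, 0, 2, 1], [0, 0, 0, 0, 0, 0, 0, 0, 0, 0, 0, 0, 0, 0, 0, 0, 0, 0, 0, 0, 0, 0, 0, 0, 1, 0, 0, 0, 0, 0, 0, 1], [0, 0, 0, 0, 0, 0, 0, 0, 0, 0, 0, 0, 0, 0, 0, 0, 0, 0, 0, 0, 0, 0, 0, 0, 0, 0, 0, 0, 0, 0, 0, 0, 0, 0, 0, 0, 1, 0], [0, 0, 0, 0, 1, 0, 1, 0], [1, 0, 1, 0, 0, 0, 1, 0], [1, 0, 2, 1], [1, 0, 0, 0, 0, 0, 0, 1], [0, 0, 0, 0, 0, 0, 0, 0, 0, 0, 0, 0, 1, 0]]) (by decide +kernel) e'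
  have h7 := eqn (r := 36) (P := [[0, 0, 0, 0, 0, 0, 0, 0, 0, 0, 0, 0, 0, 0, 0, 0, 0, 0, 0, 0, 0, 0, 0, 0, 1, 0, 1, 0, 0, 1], [0, 0, 0, 0, 0, 0, 0, 0, 0, 0, 0, 0, 0, 0, 0, 0, 0, 0, 0, 0, 0, 0, 0, 0, 1, 0, 0, 0, 0, 0, 0, 0, 1, 0], [0, 0, 0, 0, 0, 0, 0, 0, 0, 0, 0, 0, 0, 0, 0, 0, 0, 0, 0, 0, 0, 0, 0, 0, 0, 0, 0, 0, 0, 0, 0, 0, 0, 0, 0, 0, 0, 0, 1, 0], [1, 0, 1, 0, 0, 1], [1, 0, 0, 0, 0, 0, 0, 0, 1, 0], [0, 0, 0, 0, 0, 0, 0, 0, 0, 0, 0, 0, 0, 0, 1, 0]]) (by decide +kernel) e'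
  have h8 := eqn (r := 38) (P := [[0, 0, 0, 0, 0, 0, 0, 0, 0, 0, 0, 0, 0, 0, 0, 0, 0, 0, 0, 0, 0, 0, 0, 0, 0, 0, 0, 0, 1, 0, 0, 0, 1, 0], [0, 0, 0, 0, 0, 0, 0, 0, 0, 0, 0, 0, 0, 0, 0, 0, 0, 0, 0, 0, 0, 0, 0, 0, 1, 0, 1, 0, 0, 0, 0, 0, 1, 0], [0, 0, 0, 0, 0, 0, 0, 0, 0, 0, 0, 0, 0, 0, 0, 0, 0, 0, 0, 0, 0, 0, 0, 0, 1, 0, 0, 0, 0, 0, 0, 0, 0, 0, 0, 1], [0, 0, 0, 0, 0, 0, 0, 0, 0, 0, 0, 0, 0, 0, 0, 0, 0, 0, 0, 0, 0, 0, 0, 0, 0, 0, 0, 0, 0, 0, 0, 0, 0, 0, 0, 0, 0, 0, 0, 0, 1, 0], [0, 0, 0, 0, 1, 0, 0, 0, 1, 0], [1, 0, 1, 0, 0, 0, 0, 0, 1, 0], [1, 0, 0, 0, 0, 0, 0, 0, 0, 0, 0, 1], [0, 0, 0, 0, 0, 0, 0, 0, 0, 0, 0, 0, 0, 0, 0, 0, 1, 0]]) (by decide +kernel) e'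
  have h9 := eqn (r := 39) (P := [[0, 0, 0, 0, 0, 0, 0, 0, 0, 0, 0, 0, 0, 0, 0, 0, 0, 0, 0, 0, 0, 0, 0, 0, 1, 0, 1, 0, 0, 1, 1, 0], [0, 0, 0, 0, 0, 0, 0, 0, 0, 0, 0, 0, 0, 0, 0, 0, 0, 0, 0, 0, 0, 0, 0, 0, 1, 0, 2, 1, 0, 1], [0, 0, 0, 0, 0, 0, 0, 0, 0, 0, 0, 0, 0, 0, 0, 0, 0, 0, 0, 0, 0, 0, 0, 0, 1, 0, 0, 0, 0, 0, 1, 0, 1, 0], [0, 0, 0, 0, 0, 0, 0, 0, 0, 0, 0, 0, 0, 0, 0, 0, 0, 0, 0, 0, 0, 0, 0, 0, 1, 0, 0, 0, 0, 0, 0, 0, 0, 0, 0, 0, 0, 1], [0, 0, 0, 0, 0, 0, 0, 0, 0, 0, 0, 0, 0, 0, 0, 0, 0, 0, 0, 0, 0, 0, 0, 0, 0, 0, 0, 0, 0, 0, 0, 0, 0, 0, 0, 0, 0, 0, 0, 0, 0, 0, 1, 0], [1, 0, 1, 0, 0, 1, 1, 0], [1, 0, 2, 1, 0, 1], [1, 0, 0, 0, 0, 0, 1, 0, 1, 0], [1, 0, 0, 0, 0, 0, 0, 0, 0, 0, 0, 0, 0, 1], [0, 0, 0, 0, 0, 0, 0, 0, 0, 0, 0, 0, 0, 0, 0, 0, 0, 0,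 1, 0]]) (by decide +kernel) e'
  have h10 := eqn (r := 40) (P := [[0, 0, 0, 0, 0, 0, 0, 0, 0, 0, 0, 0, 0, 0, 0, 0, 0, 0, 0, 0, 0, 0, 0, 0, 1, 0, 1, 0, 0, 1, 0, 1], [0, 0, 0, 0, 0, 0, 0, 0, 0, 0, 0, 0, 0, 0, 0, 0, 0, 0, 0, 0, 0, 0, 0, 0, 0, 0, 0, 0, 1, 0, 1, 0, 1, 0], [0, 0, 0, 0, 0, 0, 0, 0, 0, 0, 0, 0, 0, 0, 0, 0, 0, 0, 0, 0, 0, 0, 0, 0, 0, 0, 0, 0, 1, 0, 0, 0, 0, 0, 0, 0, 0, 1], [0, 0, 0, 0, 0, 0, 0, 0, 0, 0, 0, 0, 0, 0, 0, 0, 0, 0, 0, 0, 0, 0, 0, 0, 1, 0, 1, 0, 0, 0, 1, 0, 1, 0], [0, 0, 0, 0, 0, 0, 0, 0, 0, 0, 0, 0, 0, 0, 0, 0, 0, 0, 0, 0, 0, 0, 0, 0, 1, 0, 2, 1, 0, 0, 0, 0, 1, 0], [0, 0, 0, 0, 0, 0, 0, 0, 0, 0, 0, 0, 0, 0, 0, 0, 0, 0, 0, 0, 0, 0, 0, 0, 1, 0, 0, 0, 0, 0, 0, 1, 1, 0], [0, 0, 0, 0, 0, 0, 0, 0, 0, 0, 0, 0, 0, 0, 0, 0, 0, 0, 0,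 0, 0, 0, 0, 0, 1, 0, 0, 0, 0, 0, 1, 0, 0, 0, 0, 1], [0, 0, 0, 0, 0, 0, 0, 0, 0, 0, 0, 0, 0, 0, 0, 0, 0, 0, 0, 0, 0, 0, 0, 0, 1, 0, 1, 0, 0, 0, 0, 0, 0, 0, 0, 0, 0, 1], [0, 0, 0, 0, 0, 0, 0, 0, 0, 0, 0, 0, 0, 0, 0, 0, 0, 0, 0, 0, 0, 0, 0, 0, 0, 0, 0, 0, 0, 0, 0, 0, 0, 0, 0, 0, 0, 0, 0, 0, 0, 0, 0, 0, 1, 0], [1, 0, 1, 0, 0, 1, 0, 1], [0, 0, 0, 0, 1, 0, 1, 0, 1, 0], [0, 0, 0, 0, 1, 0, 0, 0, 0, 0, 0, 0, 0, 1], [1, 0, 1, 0, 0, 0, 1, 0, 1, 0], [1, 0, 2, 1, 0, 0, 0, 0, 1, 0], [1, 0, 0, 0, 0, 0, 0, 1, 1, 0], [1, 0, 0, 0, 0, 0, 1, 0, 0, 0, 0, 1], [1, 0, 1, 0, 0, 0, 0, 0, 0, 0, 0, 0, 0, 1], [0, 0, 0, 0, 0, 0, 0, 0, 0, 0, 0, 0, 0, 0, 0, 0, 0, 0, 0, 0, 1, 0]]) (by decide +kernel) e'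
  have h11 := eqn (r := 44) (P := [[0, 0, 0, 0, 0, 0, 0, 0, 0, 0, 0, 0, 0, 0, 0, 0, 0, 0, 0, 0, 0, 0, 0, 0, 2, 0, 1, 0, 0, 1, 0, 1], [0, 0, 0, 0, 0, 0, 0, 0, 0, 0, 0, 0, 0, 0, 0, 0, 0, 0, 0, 0, 0, 0, 0, 0, 0, 0, 0, 0, 1, 0, 0, 0, 1, 0, 1, 0], [0, 0, 0, 0, 0, 0, 0, 0, 0, 0, 0, 0, 0, 0, 0, 0, 0, 0, 0, 0, 0, 0, 0, 0, 1, 0, 0, 0, 1, 0, 1, 0, 1, 0], [0, 0, 0, 0, 0, 0, 0, 0, 0, 0, 0, 0, 0, 0, 0, 0, 0, 0, 0, 0, 0, 0, 0, 0, 0, 0, 0, 0, 1, 0, 1, 0, 0, 0, 0, 0, 0, 0, 1, 0], [0, 0, 0, 0, 0, 0, 0, 0, 0, 0, 0, 0, 0, 0, 0, 0, 0, 0, 0, 0, 0, 0, 0, 0, 1, 0, 0, 0, 1, 0, 0, 0, 0, 0, 0, 0, 0, 1], [0, 0, 0, 0, 0, 0, 0, 0, 0, 0, 0, 0, 0, 0, 0, 0, 0, 0, 0, 0, 0, 0, 0, 0, 1, 0, 1, 0, 1, 1, 1, 0], [0, 0, 0, 0, 0, 0, 0, 0, 0, 0, 0, 0, 0, 0, 0, 0, 0, 0, 0, 0, 0, 0, 0,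 0, 1, 0, 2, 1, 1, 1], [0, 0, 0, 0, 0, 0, 0, 0, 0, 0, 0, 0, 0, 0, 0, 0, 0, 0, 0, 0, 0, 0, 0, 0, 0, 0, 0, 0, 2, 1, 1, 0], [0, 0, 0, 0, 0, 0, 0, 0, 0, 0, 0, 0, 0, 0, 0, 0, 0, 0, 0, 0, 0, 0, 0, 0, 1, 0, 1, 0, 0, 0, 0, 0, 1, 0, 1, 0], [0, 0, 0, 0, 0, 0, 0, 0, 0, 0, 0, 0, 0, 0, 0, 0, 0, 0, 0, 0, 0, 0, 0, 0, 2, 0, 1, 0, 0, 0, 1, 0, 1, 0], [0, 0, 0, 0, 0, 0, 0, 0, 0, 0, 0, 0, 0, 0, 0, 0, 0, 0, 0, 0, 0, 0, 0, 0, 2, 0, 2, 1, 0, 0, 0, 0, 1, 0], [0, 0, 0, 0, 0, 0, 0, 0, 0, 0, 0, 0, 0, 0, 0, 0, 0, 0, 0, 0, 0, 0, 0, 0, 2, 0, 0, 0, 0, 0, 0, 1, 1, 0], [0, 0, 0, 0, 0, 0, 0, 0, 0, 0, 0, 0, 0, 0, 0, 0, 0, 0, 0, 0, 0, 0, 0, 0, 0, 0, 0, 0, 0, 0, 0, 0, 1, 1], [0, 0, 0, 0, 0, 0, 0, 0, 0, 0, 0, 0, 0, 0, 0, 0, 0, 0, 0, 0, 0, 0, 0, 0, 2, 0, 0, 0, 0, 0, 1, 0, 0, 0, 0, 1],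 [0, 0, 0, 0, 0, 0, 0, 0, 0, 0, 0, 0, 0, 0, 0, 0, 0, 0, 0, 0, 0, 0, 0, 0, 1, 0, 0, 0, 0, 0, 0, 0, 0, 0, 1, 1], [0, 0, 0, 0, 0, 0, 0, 0, 0, 0, 0, 0, 0, 0, 0, 0, 0, 0, 0, 0, 0, 0, 0, 0, 1, 0, 1, 0, 0, 0, 1, 0, 0, 0, 0, 0, 0, 0, 1, 0], [0, 0, 0, 0, 0, 0, 0, 0, 0, 0, 0, 0, 0, 0, 0, 0, 0, 0, 0, 0, 0, 0, 0, 0, 2, 0, 1, 0, 0, 0, 0, 0, 0, 0, 0, 0, 0, 1], [0, 0, 0, 0, 0, 0, 0, 0, 0, 0, 0, 0, 0, 0, 0, 0, 0, 0, 0, 0, 0, 0, 0, 0, 1, 0, 2, 1, 0, 0, 0, 0, 0, 0, 0, 0, 0, 0, 1, 0], [0, 0, 0, 0, 0, 0, 0, 0, 0, 0, 0, 0, 0, 0, 0, 0, 0, 0, 0, 0, 0, 0, 0, 0, 1, 0, 0, 0, 0, 0, 0, 1, 0, 0, 0, 0, 0, 0, 1, 0], [0, 0, 0, 0, 0, 0, 0, 0, 0, 0, 0, 0, 0, 0, 0, 0, 0, 0, 0, 0, 0, 0, 0, 0, 0, 0, 0, 0, 0, 0, 0, 0, 0, 0, 0, 0, 1, 0, 1, 0], [0, 0, 0, 0, 0, 0, 0, 0, 0, 0, 0, 0, 0,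 0, 0, 0, 0, 0, 0, 0, 0, 0, 0, 0, 0, 0, 0, 0, 0, 0, 0, 0, 0, 0, 0, 0, 0, 0, 0, 0, 0, 0, 0, 0, 0, 0, 1, 0], [2, 0, 1, 0, 0, 1, 0, 1], [0, 0, 0, 0, 1, 0, 0, 0, 1, 0, 1, 0], [1, 0, 0, 0, 1, 0, 1, 0, 1, 0], [0, 0, 0, 0, 1, 0, 1, 0, 0, 0, 0, 0, 0, 0, 1, 0], [1, 0, 0, 0, 1, 0, 0, 0, 0, 0, 0, 0, 0, 1], [1, 0, 1, 0, 1, 1, 1, 0], [1, 0, 2, 1, 1, 1], [0, 0, 0, 0, 2, 1, 1, 0], [1, 0, 1, 0, 0, 0, 0, 0, 1, 0, 1, 0], [2, 0, 1, 0, 0, 0, 1, 0, 1, 0], [2, 0, 2, 1, 0, 0, 0, 0, 1, 0], [2, 0, 0, 0, 0, 0, 0, 1, 1, 0], [0, 0, 0, 0, 0, 0, 0, 0, 1, 1], [2, 0, 0, 0, 0, 0, 1, 0, 0, 0, 0, 1], [1, 0, 0, 0, 0, 0, 0, 0, 0, 0, 1, 1], [1, 0, 1, 0, 0, 0, 1, 0, 0, 0, 0, 0, 0, 0, 1, 0], [2, 0, 1, 0, 0, 0, 0, 0, 0, 0, 0, 0, 0, 1], [1, 0, 2, 1, 0, 0, 0, 0, 0, 0, 0, 0, 0, 0, 1, 0],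 [1, 0, 0, 0, 0, 0, 0, 1, 0, 0, 0, 0, 0, 0, 1, 0], [0, 0, 0, 0, 0, 0, 0, 0, 0, 0, 0, 0, 1, 0, 1, 0], [0, 0, 0, 0, 0, 0, 0, 0, 0, 0, 0, 0, 0, 0, 0, 0, 0, 0, 0, 0, 0, 0, 1, 0]]) (by decide +kernel) e'
  clear e e'
  simp [polVal, monVal, vars, u] at h0
  have g0 : v 0 = w 0 := by grind
  simp [polVal, monVal, vars, u] at h1
  try simp only [g0] at h1
  have g1 : v 1 = w 1 := by grind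
  simp [polVal, monVal, vars, u] at h2
  try simp only [g0, g1] at h2
  have g2 : v 2 = w 2 := by grind
  simp [polVal, monVal, vars, u] at h3
  try simp only [g0, g1, g2] at h3
  have g3 : v 3 = w 3 := by grind
  simp [polVal, monVal, vars, u] at h4
  try simp only [g0, g1, g2, g3] at h4
  have g4 : v 4 = w 4 := by grind
  simp [polVal, monVal, vars, u] at h5
  try simp only [g0, g1, g2, g3, g4] at h5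
  have g5 : v 5 = w 5 := by grind
  simp [polVal, monVal, vars, u] at h6
  try simp only [g0, g1, g2, g3, g4, g5] at h6
  have g6 : v 6 = w 6 := by grind
  simp [polVal, monVal, vars, u] at h7
  try simp only [g0, g1, g2, g3, g4, g5, g6] at h7
  have g7 : v 7 = w 7 := by grind
  simp [polVal, monVal, vars, u] at h8
  try simp only [g0, g1, g2, g3, g4, g5, g6, g7] at h8
  have g8 : v 8 = w 8 := by grind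
  simp [polVal, monVal, vars, u] at h9
  try simp only [g0, g1, g2, g3, g4, g5, g6, g7, g8] at h9
  have g9 : v 9 = w 9 := by grind
  simp [polVal, monVal, vars, u] at h10
  try simp only [g0, g1, g2, g3, g4, g5, g6, g7, g8, g9] at h10
  have g10 : v 10 = w 10 := by grind
  simp [polVal, monVal, vars, u] at h11
  try simp only [g0, g1, g2, g3, g4, g5, g6, g7, g8, g9, g10] at h11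
  have g11 : v 11 = w 11 := by grind
  intro i hi
  interval_cases i <;> assumption

attribute [local irreducible] E

section Group

open Twisted.ReeF (IsReeSigma)

variable [Fintype K] {m : ℕ} {σ : ↥(chevF4.group K) →* ↥(chevF4.group K)} (hσ : IsReeSigma (2 ^ m) σ)
  (he : ∀ x : K, x ^ (2 * (2 ^ m * 2 ^ m)) = x)
include hσ he

/-- Every positive element of the group is an ordered product. -/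
theorem exists_E {g : GL chevF4.Idx K} (hp : g ∈ chevF4.posUnipotent K) (hg : g ∈ twistedF4 K (2 ^ m)) :
    ∃ v : ℕ → K, g = E (frob K m) v := by
  classical
  set ext : (Fin 12 → K) → ℕ → K := fun v i => if h : i < 12 then v ⟨i, h⟩ else 0 with hext
  set f : (Fin 12 → K) → ↥(chevF4.posUnipotent K ⊓ twistedF4 K (2 ^ m)) := fun v =>
    ⟨E (frob K m) (ext v), E_mem_pos (φ := frob K m) (ext v), E_mem he (ext v)⟩ with hf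
  have hinj : Function.Injective f := by
    intro v w h
    have e : E (frob K m) (ext v) = E (frob K m) (ext w) := congrArg Subtype.val h
    funext i
    have := E_injective e i i.2
    simpa [hext] using this
  have hcard : Nat.card (Fin 12 → K) = Nat.card ↥(chevF4.posUnipotent K ⊓ twistedF4 K (2 ^ m)) := by
    rw [card_pos_fixed hσ he, Nat.card_fun, Nat.card_eq_fintype_card (α := Fin 12), Fintype.card_fin]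
  obtain ⟨v, hv⟩ := ((Function.Injective.bijective_of_nat_card_le hinj hcard.ge).2) ⟨g, hp, hg⟩
  exact ⟨_, (congrArg Subtype.val hv).symm⟩

/-- Every involution is conjugate to a positive one. -/
theorem exists_pos_conj (x : ↥(twistedF4 K (2 ^ m))) (hx : orderOf x = 2) :
    ∃ y : ↥(twistedF4 K (2 ^ m)), IsConj x y ∧ (y : GL chevF4.Idx K) ∈ chevF4.posUnipotent K := by
  haveI : Fact (Nat.Prime 2) := ⟨Nat.prime_two⟩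
  set U := (chevF4.posUnipotent K).subgroupOf (twistedF4 K (2 ^ m))
  have hU : IsPGroup 2 ↥U := by
    refine IsPGroup.of_card (n := 12 * (Nat.log 2 (Fintype.card K))) ?_
    have hc : Nat.card ↥U = Nat.card K ^ 12 := by
      show Nat.card ↥((chevF4.posUnipotent K).subgroupOf (twistedF4 K (2 ^ m))) = _
      rw [← card_pos_fixed hσ he, ← Subgroup.inf_subgroupOf_right]
      exact Nat.card_congr (Subgroup.subgroupOfEquivOfLe inf_le_right).toEquiv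
    obtain ⟨n, -, hn⟩ := FiniteField.card K 2
    rw [hc, Nat.card_eq_fintype_card, hn, Nat.log_pow (by norm_num), ← pow_mul, mul_comm]
  obtain ⟨P, hP⟩ : ∃ P : Sylow 2 ↥(twistedF4 K (2 ^ m)), (P : Subgroup ↥(twistedF4 K (2 ^ m))) = U :=
    ⟨hU.toSylow (not_two_dvd_index hσ he), rfl⟩
  have hz : IsPGroup 2 ↥(Subgroup.zpowers x) := IsPGroup.of_card (n := 1) (by rw [Nat.card_zpowers, hx, pow_one])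
  obtain ⟨Q, hQ⟩ := hz.exists_le_sylow
  obtain ⟨c, hc⟩ := MulAction.exists_smul_eq ↥(twistedF4 K (2 ^ m)) Q P
  refine ⟨c * x * c⁻¹, isConj_iff.2 ⟨c, rfl⟩, ?_⟩
  have : c * x * c⁻¹ ∈ (P : Subgroup ↥(twistedF4 K (2 ^ m))) := by
    rw [← hc, Sylow.coe_subgroup_smul]
    exact ⟨x, hQ (Subgroup.mem_zpowers x), by simp⟩
  rw [hP] at this
  exact this

end Group

end Cfsg.Agent.Lib.ReeInv
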