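import Cfsg.Agent.Lib.ReeInv.Elems
import Cfsg.Agent.Lib.ReeTwo.Basic
import Cfsg.Agent.Lib.Twisted.FieldAut

/-!
The two representatives are distinguished by the rank of the difference from the identity.
-/

set_option autoImplicit false

namespace Cfsg.Agent.Lib.ReeInv

open Cfsg.Lie Cfsg.Agent.Lib.Chev Cfsg.Agent.Lib.ChevCent
open scoped Matrix

def facL : List ℕ := [1409573907070976, 17301504, 68157440, 2281701376, 4563402752, 536870912, 8589934592, 17179869184, 34359738368, 68719476736, 137438953472, 274877906944, 549755813888, 1099511627776, 4398046511104, 8796093022208, 17592186044416, 35184372088832, 70368744177664, 140737488355328, 562949953421312]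

def facR : List ℕ := [1, 2, 4, 16, 32, 72, 128, 256, 512, 1152, 2048, 4352, 8704, 18432, 32770, 65540, 281474976972809, 2097168, 8388640, 2251799813685313, 8]

def minP : List ℕ := [2, 64, 128, 256, 1024, 4096, 131072, 524288, 1048576, 4194304, 16777216, 67108864, 536870912, 2147483648, 8589934592, 17179869184, 68719476736, 274877906944, 549755813888, 4398046511104, 17592186044416, 140737488355328]

def minQ : List ℕ := [1, 96, 8, 16, 512, 6144, 576, 4096, 8192, 2097152, 1125899906842624, 33554432, 805306368, 3221225472, 562949953421312, 134217728, 536870912, 137438953472, 4294967296, 139586437120, 1099511627776, 70368744177664]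

/-- A bit of a number as an element of the field with two elements. -/
def bitZ (m c : ℕ) : ZMod 2 := if Nat.testBit m c then 1 else 0

/-- The image of a mask under the difference from the identity of a word. -/
def dApp (w : List ℕ) (v : ℕ) : ℕ := ReeTwo.appW w v ^^^ v

/-- The difference from the identity. -/
noncomputable def dMat (w : List ℕ) : Matrix chevF4.Idx chevF4.Idx (ZMod 2) :=
  (ReeTwo.W w : Matrix chevF4.Idx chevF4.Idx (ZMod 2)) + 1

theorem dMat_mulVec {w : List ℕ} (hw : ∀ r ∈ w, r < 48) (v : ℕ) :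
    dMat w *ᵥ ReeTwo.vec v = ReeTwo.vec (dApp w v) := by
  rw [dMat, Matrix.add_mulVec, Matrix.one_mulVec, ReeTwo.W_mulVec hw, dApp, ReeTwo.vec_xor]

/-- The left factor. -/
def lMat : Matrix chevF4.Idx (Fin 21) (ZMod 2) := Matrix.of fun x j => ReeTwo.vec (facL.getD j.1 0) x

/-- The right factor. -/
def rMat : Matrix (Fin 21) chevF4.Idx (ZMod 2) := Matrix.of fun j y => ReeTwo.vec (facR.getD j.1 0) y

/-- The left side of the minor. -/
def pMat : Matrix (Fin 22) chevF4.Idx (ZMod 2) := Matrix.of fun i x => ReeTwo.vec (minP.getD i.1 0) x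

/-- The right side of the minor. -/
def qMat : Matrix chevF4.Idx (Fin 22) (ZMod 2) := Matrix.of fun x j => ReeTwo.vec (minQ.getD j.1 0) x

theorem fac_check : allN 52 (fun c => allN 52 fun d =>
    decide (bitZ (dApp [44, 47] (2 ^ c)) d =
      ((List.range 21).map fun j => bitZ (facL.getD j 0) d * bitZ (facR.getD j 0) c).sum)) = true := by
  decide +kernel

theorem min_check : allN 22 (fun i => allN 22 fun j =>
    decide (((List.range 52).map fun d => bitZ (minP.getD i 0) d * bitZ (dApp [24, 33] (minQ.getD j 0)) d).sum =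
      if i = j then 1 else 0)) = true := by decide +kernel

theorem sum_idx (f : ℕ → ZMod 2) : ∑ x : chevF4.Idx, f (idxCode chevF4 x) = ((List.range 52).map f).sum := by
  rw [← List.sum_toFinset f (List.nodup_range), List.toFinset_range]
  refine Finset.sum_bij (fun x _ => idxCode chevF4 x) (fun x _ => Finset.mem_range.2 (idxCode_lt x))
    (fun a _ b _ e => idxCode_inj e) (fun c hc => ?_) fun _ _ => rfl
  obtain ⟨x, hx⟩ := exists_idxCode (D := chevF4) (c := c) (Finset.mem_range.1 hc)
  exact ⟨x, Finset.mem_univ _, hx⟩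

theorem fac_eq : dMat [44, 47] = lMat * rMat := by
  refine matrix_ext fun c hc => ?_
  rw [← ReeTwo.vec_two_pow, dMat_mulVec (by decide)]
  funext x
  have h := fac_check
  simp only [allN_iff, decide_eq_true_eq] at h
  have e := h c hc (idxCode chevF4 x) (idxCode_lt x)
  rw [ReeTwo.vec_two_pow, show ReeTwo.vec (dApp [44, 47] (2 ^ c)) x = bitZ (dApp [44, 47] (2 ^ c)) (idxCode chevF4 x)
    from rfl, e]
  obtain ⟨y, rfl⟩ := exists_idxCode (D := chevF4) (c := c) hc
  rw [bv_idxCode, Matrix.mulVec_single_one]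
  simp [Matrix.mul_apply, lMat, rMat, ReeTwo.vec, bitZ, Fin.sum_univ_def, List.map_ofFn]
  rfl

theorem min_eq : pMat * dMat [24, 33] * qMat = 1 := by
  ext i j
  have h := min_check
  simp only [allN_iff, decide_eq_true_eq] at h
  have e := h i.1 i.2 j.1 j.2
  rw [← sum_idx (fun d => bitZ (minP.getD i 0) d * bitZ (dApp [24, 33] (minQ.getD j 0)) d)] at e
  rw [Matrix.mul_assoc, Matrix.mul_apply]
  simp only [Matrix.one_apply, Fin.ext_iff]
  rw [← e]
  refine Finset.sum_congr rfl fun x _ => ?_
  have := congrFun (dMat_mulVec (w := [24, 33]) (by decide) (minQ.getD j 0)) x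
  exact congrArg (ReeTwo.vec (minP.getD i 0) x * ·) this

variable {K : Type*} [Field K] [CharP K 2]

theorem coe_Y_one (φ : K →+* K) {k : ℕ} {r s : ℕ} {i j i' j' : ℕ} (h : tmpl k = [(r, i, j), (s, i', j')]) :
    (Y φ k 1 : Matrix chevF4.Idx chevF4.Idx K) =
      ((dMat [r, s]).map (ZMod.castHom (dvd_refl 2) K)) + 1 := by
  have hone : (1 : Matrix chevF4.Idx chevF4.Idx (ZMod 2)).map (ZMod.castHom (dvd_refl 2) K) = 1 :=
    Matrix.map_one _ (map_zero _) (map_one _)
  have e : (ReeTwo.W [r, s] : Matrix chevF4.Idx chevF4.Idx (ZMod 2)) =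
      chevF4.x (ZMod 2) r 1 * chevF4.x (ZMod 2) s 1 := by
    rw [ReeTwo.W_cons, ReeTwo.W_cons, ReeTwo.W_nil, mul_one, Units.val_mul, coe_xg, coe_xg]
  have hc : (1 : Matrix chevF4.Idx chevF4.Idx K) + 1 = 0 := Matrix.ext fun a b => CharTwo.add_self_eq_zero _
  rw [dMat, Matrix.map_add _ (map_add _), hone, add_assoc, hc, add_zero, e, Matrix.map_mul,
    Twisted.x_map, Twisted.x_map, map_one]
  simp [Y, h, coe_xg]

/-- The two representatives are not conjugate. -/
theorem not_conj (φ : K →+* K) (g : GL chevF4.Idx K) :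
    g * Y φ 44 1 * g⁻¹ ≠ Y φ 24 1 := by
  intro h
  set f := ZMod.castHom (dvd_refl 2) K
  have e := congrArg (fun u : GL chevF4.Idx K => (u : Matrix chevF4.Idx chevF4.Idx K)) h
  simp only [Units.val_mul] at e
  rw [coe_Y_one φ (k := 44) rfl, coe_Y_one φ (k := 24) rfl, mul_add, add_mul, mul_one, Units.mul_inv,
    add_left_inj, fac_eq, Matrix.map_mul] at e
  have h1 : (1 : Matrix (Fin 22) (Fin 22) K) =
      (pMat.map f * (g : Matrix chevF4.Idx chevF4.Idx K) * lMat.map f) *
        (rMat.map f * ((g⁻¹ : GL chevF4.Idx K) : Matrix chevF4.Idx chevF4.Idx K) * qMat.map f) := by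
    have h2 := congrArg (fun M : Matrix (Fin 22) (Fin 22) (ZMod 2) => M.map f) min_eq
    rw [Matrix.map_one _ (map_zero _) (map_one _), Matrix.map_mul, Matrix.map_mul, ← e] at h2
    rw [← h2]
    simp only [f, Matrix.mul_assoc]
  have h3 := Matrix.rank_mul_le_left (pMat.map f * (g : Matrix chevF4.Idx chevF4.Idx K) * lMat.map f)
    (rMat.map f * ((g⁻¹ : GL chevF4.Idx K) : Matrix chevF4.Idx chevF4.Idx K) * qMat.map f)
  rw [← h1, Matrix.rank_one, Fintype.card_fin] at h3
  have h4 := Matrix.rank_le_card_width (pMat.map f * (g : Matrix chevF4.Idx chevF4.Idx K) * lMat.map f)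
  rw [Fintype.card_fin] at h4
  omega

end Cfsg.Agent.Lib.ReeInv
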