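import Cfsg.Agent.Lib.ReeInv.Classes
import Cfsg.Agent.Lib.ReeInv.Rank
import Cfsg.Agent.Lib.ReeTwo.Sylow

/-!
The Tits group: the index is two and both representatives commute with an element outside.
-/

set_option autoImplicit false

namespace Cfsg.Agent.Lib.ReeInv

open Cfsg.Lie Cfsg.Agent.Lib.Chev Cfsg.Agent.Lib.ChevCent
open Cfsg.Agent.Lib
open scoped Matrix

/-- Generating words written through the positive families and the two Weyl representatives. -/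
def genRep : List (List ℕ × List (List ℕ)) :=
  [([], []), ([33, 24], [ReeTwo.yw 24]), ([14, 23], [ReeTwo.nA, ReeTwo.yw 24, ReeTwo.nA]),
    ([27, 25, 28], [ReeTwo.yw 25]), ([28, 30], [ReeTwo.yw 28]), ([27, 25, 30], [ReeTwo.yw 25, ReeTwo.yw 28]),
    ([20, 22, 19], [ReeTwo.nB, ReeTwo.yw 25, ReeTwo.nB]), ([19, 17], [ReeTwo.nB, ReeTwo.yw 28, ReeTwo.nB]),
    ([20, 22, 17], [ReeTwo.nB, ReeTwo.yw 25, ReeTwo.yw 28, ReeTwo.nB])]

theorem genRep_check : (genRep.all fun p => ReeTwo.wordEq p.1 p.2.flatten) = true := by decide +kernel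

theorem genTab_sub : ∀ l ∈ ReeTwo.genTab, ∃ p ∈ genRep, p.1 = l := by decide +kernel

theorem genRep_ok : ∀ p ∈ genRep, (∀ r ∈ p.1, r < 48) ∧ (∀ r ∈ p.2.flatten, r < 48) ∧
    ∀ w ∈ p.2, w ∈ [ReeTwo.nA, ReeTwo.nB, ReeTwo.yw 24, ReeTwo.yw 25, ReeTwo.yw 28] := by decide +kernel

theorem W_flatten : ∀ ws : List (List ℕ), ReeTwo.W ws.flatten = (ws.map ReeTwo.W).prod
  | [] => by simp [ReeTwo.W_nil]
  | w :: ws => by rw [List.flatten_cons, ReeTwo.W_append, W_flatten ws]; simp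

/-- An involution word. -/
theorem invol_mem {w : List ℕ} (hm : ReeTwo.W w ∈ twistedF4 (ZMod 2) 1)
    (h : ReeTwo.wordEq (w ++ w) [] = true) (hw : ∀ r ∈ w, r < 48) :
    (⟨_, hm⟩ : ↥(twistedF4 (ZMod 2) 1)) ∈ commutator ↥(twistedF4 (ZMod 2) 1) := by
  by_cases h1 : ReeTwo.W w = 1
  · rw [show (⟨_, hm⟩ : ↥(twistedF4 (ZMod 2) 1)) = 1 from Subtype.ext h1]
    exact one_mem _
  refine ReeTwo.involution_mem _ ?_
  rw [Subgroup.orderOf_mk]
  refine orderOf_eq_prime ?_ h1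
  rw [pow_two, ← ReeTwo.W_append, ReeTwo.eq_of_wordEq (by simpa using hw) (by simp) h, ReeTwo.W_nil]

theorem mem_or_mul_mem (g : ↥(twistedF4 (ZMod 2) 1)) :
    g ∈ commutator ↥(twistedF4 (ZMod 2) 1) ∨
      g * ReeTwo.yel 25 ∈ commutator ↥(twistedF4 (ZMod 2) 1) := by
  have hsq : Abelianization.of (ReeTwo.yel 25) ^ 2 = 1 := (ReeTwo.ab_yel (show 25 ∈ ReeTwo.keys by decide)).2
  have key : ∀ a : GL chevF4.Idx (ZMod 2), a ∈ twistedF4 (ZMod 2) 1 → ∃ hm : a ∈ twistedF4 (ZMod 2) 1,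
      Abelianization.of (⟨a, hm⟩ : ↥(twistedF4 (ZMod 2) 1)) ∈ Subgroup.zpowers (Abelianization.of (ReeTwo.yel 25)) := by
    intro a ha
    refine ReeTwo.ree_induction (P := fun a => ∃ hm : a ∈ twistedF4 (ZMod 2) 1,
      Abelianization.of (⟨a, hm⟩ : ↥(twistedF4 (ZMod 2) 1)) ∈ Subgroup.zpowers (Abelianization.of (ReeTwo.yel 25)))
      ?_ ?_ ?_ ?_ ha
    · refine ⟨one_mem _, ?_⟩
      rw [show (⟨1, one_mem _⟩ : ↥(twistedF4 (ZMod 2) 1)) = 1 from rfl, map_one]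
      exact one_mem _
    · rintro a b ⟨ha, h1⟩ ⟨hb, h2⟩
      refine ⟨mul_mem ha hb, ?_⟩
      rw [show (⟨a * b, mul_mem ha hb⟩ : ↥(twistedF4 (ZMod 2) 1)) = ⟨a, ha⟩ * ⟨b, hb⟩ from rfl, map_mul]
      exact mul_mem h1 h2
    · rintro a ⟨ha, h1⟩
      refine ⟨inv_mem ha, ?_⟩
      rw [show (⟨a⁻¹, inv_mem ha⟩ : ↥(twistedF4 (ZMod 2) 1)) = ⟨a, ha⟩⁻¹ from rfl, map_inv]
      exact inv_mem h1
    · intro l hl
      obtain ⟨p, hp, rfl⟩ := genTab_sub l hl
      obtain ⟨h1, h2, h3⟩ := genRep_ok p hp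
      have e := ReeTwo.eq_of_wordEq h1 h2 (List.all_eq_true.1 genRep_check p hp)
      rw [W_flatten] at e
      have hatom : ∀ w ∈ [ReeTwo.nA, ReeTwo.nB, ReeTwo.yw 24, ReeTwo.yw 25, ReeTwo.yw 28],
          ∃ hm : ReeTwo.W w ∈ twistedF4 (ZMod 2) 1,
            Abelianization.of (⟨_, hm⟩ : ↥(twistedF4 (ZMod 2) 1)) ∈
              Subgroup.zpowers (Abelianization.of (ReeTwo.yel 25)) := by
        intro w hw
        simp only [List.mem_cons, List.not_mem_nil, or_false] at hw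
        have hT : ∀ {w : List ℕ} (hm : ReeTwo.W w ∈ twistedF4 (ZMod 2) 1), ReeTwo.wordEq (w ++ w) [] = true →
            (∀ r ∈ w, r < 48) → Abelianization.of (⟨_, hm⟩ : ↥(twistedF4 (ZMod 2) 1)) ∈
              Subgroup.zpowers (Abelianization.of (ReeTwo.yel 25)) := fun hm h hw => by
          have h' := invol_mem hm h hw
          rw [← Abelianization.ker_of, MonoidHom.mem_ker] at h'
          rw [h']
          exact one_mem _
        rcases hw with rfl | rfl | rfl | rfl | rfl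
        · exact ⟨ReeTwo.mem_nA, hT _ (by decide +kernel) (by decide +kernel)⟩
        · exact ⟨ReeTwo.mem_nB, hT _ (by decide +kernel) (by decide +kernel)⟩
        · exact ⟨ReeTwo.yw_mem (by decide), hT _ (by decide +kernel) (by decide +kernel)⟩
        · refine ⟨ReeTwo.yw_mem (by decide), ?_⟩
          rw [show (⟨_, ReeTwo.yw_mem (k := 25) (by decide)⟩ : ↥(twistedF4 (ZMod 2) 1)) = ReeTwo.yel 25 from
            Subtype.ext (ReeTwo.coe_yel (by decide)).symm]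
          exact Subgroup.mem_zpowers _
        · exact ⟨ReeTwo.yw_mem (by decide), hT _ (by decide +kernel) (by decide +kernel)⟩
      have hprod : ∀ ws : List (List ℕ),
          (∀ w ∈ ws, w ∈ [ReeTwo.nA, ReeTwo.nB, ReeTwo.yw 24, ReeTwo.yw 25, ReeTwo.yw 28]) →
          ∃ hm : (ws.map ReeTwo.W).prod ∈ twistedF4 (ZMod 2) 1,
            Abelianization.of (⟨_, hm⟩ : ↥(twistedF4 (ZMod 2) 1)) ∈
              Subgroup.zpowers (Abelianization.of (ReeTwo.yel 25)) := by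
        intro ws
        induction ws with
        | nil =>
          intro _
          refine ⟨by simp, ?_⟩
          simp only [List.map_nil, List.prod_nil]
          rw [show (⟨1, one_mem _⟩ : ↥(twistedF4 (ZMod 2) 1)) = 1 from rfl, map_one]
          exact one_mem _
        | cons w ws ih =>
          intro h
          obtain ⟨m1, a1⟩ := hatom w (h w List.mem_cons_self)
          obtain ⟨m2, a2⟩ := ih fun x hx => h x (List.mem_cons_of_mem _ hx)
          refine ⟨by rw [List.map_cons, List.prod_cons]; exact mul_mem m1 m2, ?_⟩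
          simp only [List.map_cons, List.prod_cons]
          rw [show (⟨ReeTwo.W w * (ws.map ReeTwo.W).prod, mul_mem m1 m2⟩ : ↥(twistedF4 (ZMod 2) 1)) =
            ⟨_, m1⟩ * ⟨_, m2⟩ from rfl, map_mul]
          exact mul_mem a1 a2
      obtain ⟨hm, hz⟩ := hprod p.2 h3
      exact ⟨e ▸ hm, by simpa only [e] using hz⟩
  obtain ⟨hm, hz⟩ := key g.1 g.2
  obtain ⟨n, hn⟩ := Subgroup.mem_zpowers_iff.1 hz
  simp only [← Abelianization.ker_of, MonoidHom.mem_ker, map_mul]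
  rcases Int.even_or_odd n with ⟨j, hj⟩ | ⟨j, hj⟩
  · left
    rw [show g = ⟨g.1, hm⟩ from rfl, ← hn, hj, ← two_mul, zpow_mul, zpow_ofNat, hsq, one_zpow]
  · right
    rw [show g = ⟨g.1, hm⟩ from rfl, ← hn, hj, zpow_add, zpow_mul, zpow_ofNat, hsq, one_zpow, one_mul, zpow_one,
      ← pow_two, hsq]

theorem Y_eq_W {k : ℕ} {r s : ℕ} {i j i' j' : ℕ} (h : tmpl k = [(r, i, j), (s, i', j')]) (φ : ZMod 2 →+* ZMod 2) :
    Y φ k 1 = ReeTwo.W [r, s] := by
  simp [Y, h, ReeTwo.W_cons, ReeTwo.W_nil, rooted]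

/-- The Tits group has two classes of involutions. -/
theorem tits_two : ∃ a b : TitsGroup, orderOf a = 2 ∧ orderOf b = 2 ∧ ¬ IsConj a b ∧
    ∀ x : TitsGroup, orderOf x = 2 → IsConj x a ∨ IsConj x b := by
  have hK : Fintype.card (ZMod 2) = 2 ^ (2 * 0 + 1) := by simp
  have he := Twisted.ReeF.pow_theta hK
  obtain ⟨σ, hσ⟩ := Twisted.ReeF.exists_sigma hK
  set φ := frob (ZMod 2) 0
  have m1 : ReeTwo.W [24, 33] ∈ twistedF4 (ZMod 2) 1 := ReeTwo.yw_mem (k := 24) (by decide)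
  have m2 : ReeTwo.W [44, 47] ∈ twistedF4 (ZMod 2) 1 := ReeTwo.yw_mem (k := 44) (by decide)
  have t1 := invol_mem m1 (by decide +kernel) (by decide)
  have t2 := invol_mem m2 (by decide +kernel) (by decide)
  have ne_one : ∀ {w : List ℕ} (c d : ℕ), (∀ r ∈ w, r < 48) → d < 52 →
      Nat.testBit (ReeTwo.appW w (2 ^ c)) d ≠ Nat.testBit (2 ^ c) d → ReeTwo.W w ≠ 1 := by
    intro w c d hw hd hf h
    have e := congrArg (fun u : GL chevF4.Idx (ZMod 2) => (u : Matrix chevF4.Idx chevF4.Idx (ZMod 2)) *ᵥ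
      ReeTwo.vec (2 ^ c)) h
    simp only [ReeTwo.W_mulVec hw, Units.val_one, Matrix.one_mulVec] at e
    obtain ⟨x, rfl⟩ := exists_idxCode (D := chevF4) (c := d) hd
    have := congrFun e x
    simp only [ReeTwo.vec] at this
    revert this hf
    cases Nat.testBit (ReeTwo.appW w (2 ^ c)) (idxCode chevF4 x) <;>
      cases Nat.testBit (2 ^ c) (idxCode chevF4 x) <;> simp
  refine ⟨⟨⟨_, m1⟩, t1⟩, ⟨⟨_, m2⟩, t2⟩, ?_, ?_, ?_, ?_⟩
  · rw [Subgroup.orderOf_mk, Subgroup.orderOf_mk]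
    refine orderOf_eq_prime ?_ (ne_one 0 1 (by decide) (by norm_num) (by decide +kernel))
    rw [pow_two, ← ReeTwo.W_append, ReeTwo.eq_of_wordEq (l' := []) (by decide) (by simp)
      (show ReeTwo.wordEq ([24, 33] ++ [24, 33]) [] = true by decide +kernel), ReeTwo.W_nil]
  · rw [Subgroup.orderOf_mk, Subgroup.orderOf_mk]
    refine orderOf_eq_prime ?_ (ne_one 0 18 (by decide) (by norm_num) (by decide +kernel))
    rw [pow_two, ← ReeTwo.W_append, ReeTwo.eq_of_wordEq (l' := []) (by decide) (by simp)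
      (show ReeTwo.wordEq ([44, 47] ++ [44, 47]) [] = true by decide +kernel), ReeTwo.W_nil]
  · intro h
    obtain ⟨c, hc⟩ := isConj_iff.1 h.symm
    refine not_conj φ ((c : ↥(twistedF4 (ZMod 2) 1)) : GL chevF4.Idx (ZMod 2)) ?_
    rw [Y_eq_W (k := 24) rfl, Y_eq_W (k := 44) rfl]
    have e := congrArg Subtype.val (congrArg Subtype.val hc)
    simp only [Subgroup.coe_mul, InvMemClass.coe_inv] at e
    exact e
  · intro x hx
    have hx' : orderOf ((x : ↥(twistedF4 (ZMod 2) 1)) : GL chevF4.Idx (ZMod 2)) = 2 := by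
      rw [Subgroup.orderOf_coe, Subgroup.orderOf_coe, hx]
    have fix : ∀ (k : ℕ) (hk : k ∈ ReeTwo.keys) (hm : ReeTwo.W (ReeTwo.yw k) ∈ twistedF4 (ZMod 2) 1) (c : ℕ),
        c ∈ ReeTwo.keys → ReeTwo.isT c = true →
        ReeTwo.wordEq (ReeTwo.yw c ++ ReeTwo.yw k) (ReeTwo.yw k ++ ReeTwo.yw c) = true →
        ∀ g : ↥(twistedF4 (ZMod 2) 1), g * (x : ↥(twistedF4 (ZMod 2) 1)) * g⁻¹ = ⟨_, hm⟩ →
        ∃ t : TitsGroup, (t : ↥(twistedF4 (ZMod 2) 1)) * x * (t : ↥(twistedF4 (ZMod 2) 1))⁻¹ = ⟨_, hm⟩ := by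
      intro k hk hm c hc hT hcomm g hg
      by_cases hgT : g ∈ commutator ↥(twistedF4 (ZMod 2) 1)
      · exact ⟨⟨g, hgT⟩, hg⟩
      have hab : Abelianization.of g = Abelianization.of (ReeTwo.yel 25) := by
        rcases mem_or_mul_mem g with h | h
        · exact absurd h hgT
        rw [← Abelianization.ker_of, MonoidHom.mem_ker, map_mul] at h
        rw [← mul_one (Abelianization.of g), ← (ReeTwo.ab_yel (show 25 ∈ ReeTwo.keys by decide)).2, pow_two,
          ← mul_assoc, h, one_mul]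
      have hmem : ReeTwo.yel c * g ∈ commutator ↥(twistedF4 (ZMod 2) 1) := by
        rw [← Abelianization.ker_of, MonoidHom.mem_ker, map_mul, (ReeTwo.ab_yel hc).1, if_pos hT, pow_one, hab,
          ← pow_two, (ReeTwo.ab_yel (show 25 ∈ ReeTwo.keys by decide)).2]
      have hcm : ReeTwo.yel c * ⟨_, hm⟩ = ⟨_, hm⟩ * ReeTwo.yel c := Subtype.ext (by
        simp only [Subgroup.coe_mul, ReeTwo.coe_yel hc, ← ReeTwo.W_append]
        have hlt := fun q (hq : q ∈ ReeTwo.keys) => (ReeTwo.keys_lt q hq).1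
        exact ReeTwo.eq_of_wordEq (fun r hr => (List.mem_append.1 hr).elim (hlt c hc r) (hlt k hk r))
          (fun r hr => (List.mem_append.1 hr).elim (hlt k hk r) (hlt c hc r)) hcomm)
      refine ⟨⟨_, hmem⟩, ?_⟩
      show ReeTwo.yel c * g * x * (ReeTwo.yel c * g)⁻¹ = _
      rw [mul_inv_rev, show ReeTwo.yel c * g * x * (g⁻¹ * (ReeTwo.yel c)⁻¹) =
        ReeTwo.yel c * (g * x * g⁻¹) * (ReeTwo.yel c)⁻¹ by group, hg, hcm, mul_inv_cancel_right]
    rcases exists_rep (m := 0) hσ he _ x.1.2 hx' with ⟨g, hg, e⟩ | ⟨g, hg, e⟩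
    · rw [Y_eq_W (k := 24) rfl] at e
      obtain ⟨t, ht⟩ := fix 24 (by decide) m1 26 (by decide) rfl (by decide +kernel) ⟨g, hg⟩ (Subtype.ext e)
      exact Or.inl (isConj_iff.2 ⟨t, Subtype.ext ht⟩)
    · rw [Y_eq_W (k := 44) rfl] at e
      obtain ⟨t, ht⟩ := fix 44 (by decide) m2 25 (by decide) rfl (by decide +kernel) ⟨g, hg⟩ (Subtype.ext e)
      exact Or.inr (isConj_iff.2 ⟨t, Subtype.ext ht⟩)

end Cfsg.Agent.Lib.ReeInv
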